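import Mathlib
import Cfsg.Agent.Quadratic.BaerSuzuki

/-!
# Two-transitive groups on an elementary 2-group with small odd stabilisers

`Q` acts on an elementary abelian 2-group `V`, doubly transitively on the non-identity elements, and an
element of odd order fixing two of them is trivial.  Then `V` has order at most 8.
-/

set_option autoImplicit false
set_option linter.style.haveILetI false
set_option linter.unusedSectionVars false

namespace Cfsg.Lib.Pyramidal

open Subgroup

/-- An involution outside the largest normal 2-subgroup inverts a non-identity element of odd order. -/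
theorem exists_odd_inverted {Q : Type*} [Group Q] [Finite Q] {i : Q} (hi : i * i = 1)
    (hN : ∀ N : Subgroup Q, N.Normal → IsPGroup 2 N → i ∉ N) :
    ∃ u : Q, u ≠ 1 ∧ Odd (orderOf u) ∧ i * u * i⁻¹ = u⁻¹ := by
  haveI := Fact.mk Nat.prime_two
  have hii : i⁻¹ = i := inv_eq_of_mul_eq_one_left hi
  have htp : IsPGroup 2 (zpowers i) := by
    intro x
    obtain ⟨j, hj⟩ := mem_zpowers_iff.1 x.2
    refine ⟨1, Subtype.ext ?_⟩
    rw [pow_one, SubmonoidClass.coe_pow, ← hj, sq, ← zpow_add, ← two_mul, zpow_mul, zpow_two, hi,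
      one_zpow, coe_one]
  obtain ⟨g, hg⟩ : ∃ g : Q, ¬ IsPGroup 2 ↥(zpowers i ⊔ (zpowers i).map (MulAut.conj g).toMonoidHom) := by
    by_contra hno
    push Not at hno
    obtain ⟨N, hNn, hNp, hle⟩ := Cfsg.Lib.BaerSuzuki.baer_suzuki (zpowers i) hno
    exact hN N hNn hNp (hle (mem_zpowers i))
  set s := g * i * g⁻¹ with hs
  have hss : s * s = 1 := by
    rw [hs, show g * i * g⁻¹ * (g * i * g⁻¹) = g * (i * i) * g⁻¹ by group, hi]; group
  set u := i * s with hu
  have htu : i * u * i⁻¹ = u⁻¹ := by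
    rw [hu, hii, ← mul_assoc, hi, one_mul, mul_inv_rev, inv_eq_of_mul_eq_one_left hss, hii]
  obtain ⟨k, m, hm, hkm⟩ := Nat.exists_eq_pow_mul_and_not_dvd (orderOf_pos u).ne' 2 (by norm_num)
  have hm1 : m ≠ 1 := fun e => hg (by
    have hup : IsPGroup 2 (zpowers u) := IsPGroup.of_card (n := k) (by rw [Nat.card_zpowers, hkm, e, mul_one])
    have hnorm : zpowers i ≤ normalizer (zpowers u : Set Q) := by
      rw [zpowers_le, mem_normalizer_iff]
      intro a
      have key : ∀ b, b ∈ zpowers u → i * b * i⁻¹ ∈ zpowers u := by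
        rintro _ ⟨j, rfl⟩
        exact ⟨-j, by simp only; rw [← conj_zpow, htu, inv_zpow']⟩
      refine ⟨key a, fun h => ?_⟩
      have := key _ h
      rwa [hii, show i * (i * a * i) * i = (i * i) * a * (i * i) by group, hi, one_mul, mul_one] at this
    refine (hup.to_sup_of_normal_left' htp hnorm).to_le ?_
    refine sup_le le_sup_right ?_
    rw [MonoidHom.map_zpowers, zpowers_le]
    show g * i * g⁻¹ ∈ _
    rw [← hs, show s = i * u by rw [hu, ← mul_assoc, hi, one_mul]]
    exact mul_mem (mem_sup_right (mem_zpowers i)) (mem_sup_left (mem_zpowers u)))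
  refine ⟨u ^ (2 ^ k), ?_, ?_, ?_⟩
  · intro e
    have h1 := orderOf_dvd_of_pow_eq_one e
    rw [hkm] at h1
    exact hm1 (Nat.eq_one_of_dvd_one (Nat.dvd_of_mul_dvd_mul_left (pow_pos two_pos k) (by rwa [mul_one])))
  · rw [orderOf_pow_of_dvd (pow_ne_zero _ two_ne_zero) (hkm ▸ Dvd.intro m rfl), hkm,
      Nat.mul_div_cancel_left _ (pow_pos (by norm_num) k)]
    exact Nat.not_even_iff_odd.1 fun he => hm (even_iff_two_dvd.1 he)
  · rw [← conj_pow, htu, inv_pow]

section
variable {V : Type*} [Group V]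

theorem comm_of_sq (hsq : ∀ v : V, v * v = 1) (a b : V) : a * b = b * a := by
  have h : ∀ v : V, v⁻¹ = v := fun v => inv_eq_of_mul_eq_one_left (hsq v)
  calc a * b = (a * b)⁻¹ := (h _).symm
    _ = b⁻¹ * a⁻¹ := mul_inv_rev a b
    _ = b * a := by rw [h, h]

/-- `v ↦ v * q v` on an elementary 2-group. -/
def moved (hsq : ∀ v : V, v * v = 1) (q : MulAut V) : V →* V where
  toFun v := v * q v
  map_one' := by simp
  map_mul' a b := by
    rw [map_mul, mul_assoc, ← mul_assoc b, comm_of_sq hsq b (q a)]; group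

@[simp] theorem moved_apply (hsq : ∀ v : V, v * v = 1) (q : MulAut V) (v : V) : moved hsq q v = v * q v := rfl

theorem mul_eq_one_iff_of_sq (hsq : ∀ v : V, v * v = 1) {a b : V} : a * b = 1 ↔ b = a := by
  rw [mul_eq_one_iff_inv_eq, inv_eq_of_mul_eq_one_left (hsq a)]; exact ⟨Eq.symm, Eq.symm⟩

theorem pow_fix {q : MulAut V} {v : V} (h : q v = v) (n : ℕ) : (q ^ n) v = v := by
  induction n with
  | zero => simp
  | succ n ih => rw [pow_succ, MulAut.mul_apply, h, ih]

theorem fix_of_sq_fix {u : MulAut V} (hodd : Odd (orderOf u)) {v : V} (h : (u * u) v = v) : u v = v := by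
  obtain ⟨m, hm⟩ := hodd
  have h1 := pow_fix h (m + 1)
  rwa [← sq, ← pow_mul, show 2 * (m + 1) = orderOf u + 1 by omega, pow_succ, pow_orderOf_eq_one, one_mul] at h1

/-- The doubly transitive group with its condition on odd elements. -/
structure Small (Q : Subgroup (MulAut V)) : Prop where
  sq : ∀ v : V, v * v = 1
  two : ∀ a b c d : V, a ≠ 1 → b ≠ 1 → a ≠ b → c ≠ 1 → d ≠ 1 → c ≠ d → ∃ q ∈ Q, q a = c ∧ q b = d
  odd_fix : ∀ q ∈ Q, Odd (orderOf q) → ∀ a b : V, a ≠ 1 → b ≠ 1 → a ≠ b → q a = a → q b = b → q = 1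

/-- An elation with centre `x`. -/
def Elation (x : V) (q : MulAut V) : Prop := q ≠ 1 ∧ q x = x ∧ ∀ v, v * q v = 1 ∨ v * q v = x

theorem Elation.conj {x : V} {q : MulAut V} (h : Elation x q) (g : MulAut V) :
    Elation (g x) (g * q * g⁻¹) := by
  refine ⟨fun e => h.1 (by
    have : q = g⁻¹ * (g * q * g⁻¹) * g := by group
    rw [this, e]; group), ?_, fun v => ?_⟩
  · rw [MulAut.mul_apply, MulAut.mul_apply, MulAut.inv_apply_self, h.2.1]
  · have e : v * (g * q * g⁻¹) v = g (g⁻¹ v * q (g⁻¹ v)) := by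
      rw [MulAut.mul_apply, MulAut.mul_apply, map_mul, MulAut.apply_inv_self]
    rw [e]
    rcases h.2.2 (g⁻¹ v) with h1 | h1
    · left; rw [h1, map_one]
    · right; rw [h1]

variable [Finite V] {Q : Subgroup (MulAut V)}

theorem exists_third (hc : 4 ≤ Nat.card V) (x : V) : ∃ w : V, w ≠ 1 ∧ w ≠ x := by
  by_contra h
  push Not at h
  have : Nat.card V ≤ Nat.card ({1, x} : Set V) := Nat.card_le_card_of_injective
    (fun v => (⟨v, by by_cases hv : v = 1; exact Or.inl hv; exact Or.inr (h v hv)⟩ : ({1, x} : Set V)))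
    (fun a b e => by simpa using congrArg Subtype.val e)
  have h2 : Nat.card ({1, x} : Set V) ≤ 2 := by
    rw [Nat.card_coe_set_eq]; exact (Set.ncard_insert_le _ _).trans (by rw [Set.ncard_singleton])
  omega

theorem exists_elation (h : Small Q) (hc : 4 ≤ Nat.card V) {x : V} (hx : x ≠ 1) :
    ∃ q ∈ Q, Elation x q := by
  classical
  haveI := Fintype.ofFinite V
  haveI : Finite (MulAut V) := Finite.of_injective (fun e => (e : V → V)) DFunLike.coe_injective
  haveI := Fact.mk Nat.prime_two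
  by_contra hno
  push Not at hno
  -- the stabiliser of `x`
  set S : Subgroup (MulAut V) := Q ⊓ MulAction.stabilizer (MulAut V) x with hS
  have hSx : ∀ s ∈ S, s x = x := fun s hs => (mem_inf.1 hs).2
  have memS : ∀ {s}, s ∈ Q → s x = x → s ∈ S := fun hs h1 => mem_inf.2 ⟨hs, h1⟩
  have trS : ∀ a b : V, a ≠ 1 → a ≠ x → b ≠ 1 → b ≠ x → ∃ s ∈ S, s a = b := by
    intro a b ha ha' hb hb'
    obtain ⟨s, hs, h1, h2⟩ := h.two x a x b hx ha ha'.symm hx hb hb'.symm
    exact ⟨s, memS hs h1, h2⟩
  -- normal 2-subgroups of the stabiliser are trivial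
  have hcore : ∀ N : Subgroup S, N.Normal → IsPGroup 2 N → ∀ n ∈ N, n = (1 : S) := by
    intro N hN hNp n hn
    set X : Subgroup V := zpowers x with hX
    haveI : X.Normal := ⟨fun a ha g => by rwa [comm_of_sq h.sq g a, mul_inv_cancel_right]⟩
    have memX : ∀ a : V, a ∈ X ↔ a = 1 ∨ a = x := by
      intro a
      refine ⟨?_, ?_⟩
      · rintro ⟨j, rfl⟩
        rcases Int.even_or_odd j with ⟨m, rfl⟩ | ⟨m, rfl⟩
        · left; simp only; rw [← two_mul, zpow_mul, zpow_two, h.sq, one_zpow]
        · right; simp only; rw [zpow_add, zpow_mul, zpow_two, h.sq, one_zpow, one_mul, zpow_one]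
      · rintro (rfl | rfl)
        exacts [one_mem _, mem_zpowers _]
    have mapX : ∀ (s : S) (a : V), a ∈ X → (s : MulAut V) a ∈ X := by
      intro s a ha
      rcases (memX a).1 ha with rfl | rfl
      · rw [map_one]; exact one_mem _
      · rw [hSx _ s.2]; exact mem_zpowers _
    letI act : MulAction N (V ⧸ X) :=
      { smul := fun s => QuotientGroup.map X X ((s : S) : MulAut V).toMonoidHom (fun a ha => mapX _ a ha)
        one_smul := fun a => by
          induction a using QuotientGroup.induction_on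
          rfl
        mul_smul := fun s t a => by
          induction a using QuotientGroup.induction_on
          rfl }
    have hfix := hNp.card_modEq_card_fixedPoints (V ⧸ X)
    have hq2 : 2 ∣ Nat.card (V ⧸ X) := by
      have hVp : IsPGroup 2 V := fun v => ⟨1, by rw [pow_one, sq, h.sq]⟩
      obtain ⟨j, hj⟩ := IsPGroup.iff_card.1 (hVp.to_quotient X)
      rw [hj]
      refine dvd_pow_self 2 fun hj0 => ?_
      obtain ⟨w, hw1, hwx⟩ := exists_third hc x
      have : Subsingleton (V ⧸ X) := (Nat.card_eq_one_iff_unique.1 (by rw [hj, hj0, pow_zero])).1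
      have hwX : w ∈ X := (QuotientGroup.eq_one_iff w).1 (Subsingleton.elim _ _)
      rcases (memX w).1 hwX with e | e
      exacts [hw1 e, hwx e]
    obtain ⟨c, hc1, hcne⟩ : ∃ c : V ⧸ X, c ∈ MulAction.fixedPoints N (V ⧸ X) ∧ c ≠ 1 := by
      by_contra hno'
      push Not at hno'
      have h1 : (1 : V ⧸ X) ∈ MulAction.fixedPoints N (V ⧸ X) := fun s => map_one _
      have heq : MulAction.fixedPoints N (V ⧸ X) = {1} :=
        Set.eq_singleton_iff_unique_mem.2 ⟨h1, hno'⟩
      rw [heq, Nat.card_coe_set_eq, Set.ncard_singleton] at hfix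
      unfold Nat.ModEq at hfix
      omega
    induction c using QuotientGroup.induction_on with | _ a =>
    have haX : a ∉ X := fun e => hcne ((QuotientGroup.eq_one_iff a).2 e)
    have hnv : ∀ v, v * ((n : MulAut V)) v ∈ X := by
      intro v
      by_cases hv : v ∈ X
      · exact mul_mem hv (mapX _ v hv)
      obtain ⟨s, hs, hsv⟩ := trS a v (fun e => haX (e ▸ one_mem _)) (fun e => haX (e ▸ mem_zpowers _))
        (fun e => hv (e ▸ one_mem _)) (fun e => hv (e ▸ mem_zpowers _))
      set m : S := (⟨s, hs⟩ : S)⁻¹ * n * ⟨s, hs⟩ with hm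
      have hmN : m ∈ N := by
        have := hN.conj_mem n hn (⟨s, hs⟩ : S)⁻¹
        rwa [inv_inv] at this
      have hma : ((m : MulAut V) a : V ⧸ X) = (a : V ⧸ X) := hc1 ⟨m, hmN⟩
      rw [QuotientGroup.eq, inv_eq_of_mul_eq_one_left (h.sq _)] at hma
      have e : v * (n : MulAut V) v = s ((m : MulAut V) a * a) := by
        simp only [hm, Subgroup.coe_mul, Subgroup.coe_inv, MulAut.mul_apply, map_mul, MulAut.apply_inv_self,
          hsv, comm_of_sq h.sq v]
      rw [e]
      exact mapX ⟨s, hs⟩ _ hma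
    by_contra hn1
    refine hno _ (mem_inf.1 n.2).1 ⟨fun e => hn1 (Subtype.ext e), hSx _ n.2, fun v => (memX _).1 (hnv v)⟩
  -- a Sylow 2-subgroup of the stabiliser fixes only `x`
  obtain ⟨P⟩ : Nonempty (Sylow 2 S) := inferInstance
  have hPfix : ∀ w : V, w ≠ 1 → (∀ s ∈ (P : Subgroup S), (s : MulAut V) w = w) → w = x := by
    intro w hw hfix
    by_contra hwx
    letI : SMul S {v : V // v ≠ 1 ∧ v ≠ x} := ⟨fun s v => ⟨(s : MulAut V) v.1,
      fun e => v.2.1 ((s : MulAut V).map_eq_one_iff.1 e),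
      fun e => v.2.2 ((s : MulAut V).injective (e.trans (hSx _ s.2).symm))⟩⟩
    letI : MulAction S {v : V // v ≠ 1 ∧ v ≠ x} :=
      { one_smul := fun v => Subtype.ext rfl, mul_smul := fun s t v => Subtype.ext rfl }
    have hW2 : MulAction.IsPretransitive S {v : V // v ≠ 1 ∧ v ≠ x} → False := fun inst => by
      haveI := inst
      have hidx := MulAction.index_stabilizer_of_transitive S (⟨w, hw, hwx⟩ : {v : V // v ≠ 1 ∧ v ≠ x})
      have hle : (P : Subgroup S) ≤ MulAction.stabilizer S (⟨w, hw, hwx⟩ : {v : V // v ≠ 1 ∧ v ≠ x}) := fun s hs =>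
        Subtype.ext (hfix s hs)
      have hdvd := Subgroup.index_dvd_of_le hle
      rw [hidx] at hdvd
      have hodd := P.not_dvd_index
      refine hodd (dvd_trans ?_ hdvd)
      have hcard : Nat.card {v : V // v ≠ 1 ∧ v ≠ x} + 2 = Nat.card V := by
        have h1 : Nat.card {v : V // v ≠ 1 ∧ v ≠ x} = ({1, x}ᶜ : Set V).ncard := by
          rw [← Nat.card_coe_set_eq]
          exact Nat.card_congr (Equiv.subtypeEquivRight fun v => by simp)
        rw [h1, Set.ncard_compl, Set.ncard_pair (Ne.symm hx)]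
        omega
      have hVp : IsPGroup 2 V := fun v => ⟨1, by rw [pow_one, sq, h.sq]⟩
      obtain ⟨j, hj⟩ := IsPGroup.iff_card.1 hVp
      rcases j with _ | _ | j
      · omega
      · omega
      · rw [hj, pow_succ, pow_succ] at hcard
        have h2W : 2 ∣ Nat.card {v : V // v ≠ 1 ∧ v ≠ x} := by omega
        exact h2W
    exact hW2 ⟨fun a b => by
      obtain ⟨s, hs, e⟩ := trS a.1 b.1 a.2.1 a.2.2 b.2.1 b.2.2
      exact ⟨⟨s, hs⟩, Subtype.ext e⟩⟩
  -- a central involution
  have hPne : (P : Subgroup S) ≠ ⊥ := fun e => by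
    obtain ⟨w, hw1, hwx⟩ := exists_third hc x
    exact hwx (hPfix w hw1 fun s hs => by rw [e, mem_bot] at hs; rw [hs]; rfl)
  haveI : Nontrivial (P : Subgroup S) := (Subgroup.nontrivial_iff_ne_bot _).2 hPne
  haveI := P.2.center_nontrivial
  obtain ⟨n0, hn0pos, hn0⟩ := (P.2.to_subgroup (center (P : Subgroup S))).nontrivial_iff_card.1 inferInstance
  obtain ⟨z, hz⟩ := exists_prime_orderOf_dvd_card' (G := center (P : Subgroup S)) 2
    (by rw [hn0]; exact dvd_pow_self 2 (by omega))
  set i : S := ((z : (P : Subgroup S)) : S) with hidef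
  have hiP : i ∈ (P : Subgroup S) := (z : (P : Subgroup S)).2
  have hii : i * i = 1 := by
    have h2 : z * z = 1 := by
      have := pow_orderOf_eq_one z
      rwa [hz, sq] at this
    exact congrArg (fun w : center (P : Subgroup S) => ((w : (P : Subgroup S)) : S)) h2
  have hi1 : i ≠ 1 := fun e => by
    have : z = 1 := Subtype.ext (Subtype.ext e)
    rw [this, orderOf_one] at hz
    omega
  have hic : ∀ s ∈ (P : Subgroup S), s * i = i * s := fun s hs =>
    congrArg Subtype.val (mem_center_iff.1 z.2 ⟨s, hs⟩)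
  -- `x` is moved by `i`
  obtain ⟨v0, hv0⟩ : ∃ v0 : V, v0 * (i : MulAut V) v0 = x := by
    set R := (moved h.sq (i : MulAut V)).range with hR
    have hRne : R ≠ ⊥ := fun e => hi1 (Subtype.ext (MulEquiv.ext fun v => by
      have : v * (i : MulAut V) v ∈ R := ⟨v, rfl⟩
      rw [e, mem_bot] at this
      exact (mul_eq_one_iff_of_sq h.sq).1 this))
    have mapR : ∀ (s : (P : Subgroup S)) (a : V), a ∈ R → ((s : S) : MulAut V) a ∈ R := by
      rintro s _ ⟨v, rfl⟩
      refine ⟨((s : S) : MulAut V) v, ?_⟩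
      have e := congrArg (fun w : S => (w : MulAut V) v) (hic s s.2)
      simp only [Subgroup.coe_mul, MulAut.mul_apply] at e
      simp only [moved_apply, map_mul, e]
    letI : MulAction (P : Subgroup S) R :=
      { smul := fun s a => ⟨_, mapR s a a.2⟩
        one_smul := fun a => Subtype.ext rfl
        mul_smul := fun s t a => Subtype.ext rfl }
    have hRp : IsPGroup 2 R := fun v => ⟨1, Subtype.ext (by rw [pow_one, sq]; exact h.sq v)⟩
    obtain ⟨j, hj⟩ := IsPGroup.iff_card.1 hRp
    have hj0 : j ≠ 0 := fun e => hRne (Subgroup.card_eq_one.1 (by rw [hj, e, pow_zero]))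
    obtain ⟨a, ha, ha1⟩ : ∃ a : R, a ∈ MulAction.fixedPoints (P : Subgroup S) R ∧ a ≠ 1 := by
      have hfix := P.2.card_modEq_card_fixedPoints R
      by_contra hno'
      push Not at hno'
      have h1 : (1 : R) ∈ MulAction.fixedPoints (P : Subgroup S) R := fun s => Subtype.ext (map_one _)
      have heq : MulAction.fixedPoints (P : Subgroup S) R = {1} :=
        Set.eq_singleton_iff_unique_mem.2 ⟨h1, hno'⟩
      rw [heq, Nat.card_coe_set_eq, Set.ncard_singleton, hj] at hfix
      unfold Nat.ModEq at hfix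
      have := dvd_pow_self 2 hj0
      omega
    have := hPfix a (fun e => ha1 (Subtype.ext e)) fun s hs => congrArg Subtype.val (ha ⟨s, hs⟩)
    obtain ⟨v0, hv0⟩ := a.2
    exact ⟨v0, by rw [← this, ← hv0]; rfl⟩
  -- Baer-Suzuki
  obtain ⟨u, hu1, huo, hiu⟩ := exists_odd_inverted hii fun N hN hNp hiN => hi1 (hcore N hN hNp i hiN)
  have huo' : Odd (orderOf (u : MulAut V)) := by rwa [orderOf_coe]
  have hCu : ∀ w : V, (u : MulAut V) w = w → w = 1 ∨ w = x := by
    intro w hw
    by_contra hcon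
    push Not at hcon
    exact hu1 (Subtype.ext (h.odd_fix _ (mem_inf.1 u.2).1 huo' x w hx hcon.1 hcon.2.symm (hSx _ u.2) hw))
  set f := moved h.sq (u : MulAut V) with hf
  have hWfix : ∀ w ∈ f.range, (u : MulAut V) w = w → w = 1 := by
    rintro _ ⟨v, rfl⟩ hv
    simp only [hf, moved_apply, map_mul] at hv
    rw [comm_of_sq h.sq v, mul_right_inj] at hv
    have := fix_of_sq_fix huo' (v := v) hv
    simp only [hf, moved_apply, this, h.sq]
  have hinvW : ∀ w ∈ f.range, (i : MulAut V) w ∈ f.range := by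
    rintro _ ⟨v, rfl⟩
    refine ⟨(u : MulAut V)⁻¹ ((i : MulAut V) v), ?_⟩
    have e : i * u = u⁻¹ * i := by rw [← hiu]; group
    have e' := congrArg (fun w : S => (w : MulAut V) v) e
    simp only [Subgroup.coe_mul, Subgroup.coe_inv, MulAut.mul_apply] at e'
    simp only [hf, moved_apply, map_mul, MulAut.apply_inv_self, e', comm_of_sq h.sq ((i : MulAut V) v)]
  have hdisj : f.range ⊓ f.ker = ⊥ := eq_bot_iff.2 fun w hw => mem_bot.2 (hWfix w hw.1
    ((mul_eq_one_iff_of_sq h.sq).1 hw.2))
  have hsup : ∀ v : V, ∃ w ∈ f.range, ∃ c ∈ f.ker, v = w * c := by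
    intro v
    have hinj : Function.Injective (fun p : f.range × f.ker => (p.1 : V) * p.2) :=
      Subgroup.mul_injective_of_disjoint (disjoint_iff.2 hdisj)
    have hcard : Nat.card (f.range × f.ker) = Nat.card V := by
      rw [Nat.card_prod, mul_comm, ← Subgroup.index_ker f, Subgroup.card_mul_index]
    obtain ⟨⟨a, b⟩, hab⟩ := ((Nat.bijective_iff_injective_and_card _).2 ⟨hinj, hcard⟩).2 v
    exact ⟨a, a.2, b, b.2, hab.symm⟩
  obtain ⟨w, hw, c, hc', hv⟩ := hsup v0
  have hic' : (i : MulAut V) c = c := by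
    rcases hCu c ((mul_eq_one_iff_of_sq h.sq).1 hc') with rfl | rfl
    · exact map_one _
    · exact hSx _ i.2
  have hxW : x ∈ f.range := by
    have e : x = w * (i : MulAut V) w := by
      calc x = w * c * ((i : MulAut V) w * c) := by rw [← hv0, hv, map_mul, hic']
        _ = w * ((i : MulAut V) w * c) * c := by rw [mul_assoc, comm_of_sq h.sq c, ← mul_assoc]
        _ = w * (i : MulAut V) w * (c * c) := by group
        _ = _ := by rw [h.sq, mul_one]
    rw [e]
    exact mul_mem hw (hinvW w hw)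
  exact hx (hWfix x hxW (hSx _ u.2))

/-- The order of `V`. -/
theorem card_le (h : Small Q) (hc : 4 ≤ Nat.card V) : Nat.card V ≤ 8 := by
  classical
  haveI : Finite (MulAut V) := Finite.of_injective (fun e => (e : V → V)) DFunLike.coe_injective
  by_contra hbig
  obtain ⟨w, hw1, -⟩ := exists_third hc 1
  set x := w with hx
  obtain ⟨t₁, ht₁, he₁⟩ := exists_elation h hc hw1
  obtain ⟨y, hy⟩ : ∃ y : V, y * t₁ y ≠ 1 := by
    by_contra hno
    push Not at hno
    exact he₁.1 (MulEquiv.ext fun v => (mul_eq_one_iff_of_sq h.sq).1 (hno v))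
  have hy1 : y ≠ 1 := fun e => hy (by rw [e, map_one, mul_one])
  have hyx : y ≠ x := fun e => hy (by rw [e, he₁.2.1, h.sq])
  obtain ⟨g, hg, hgx, hgy⟩ := h.two x y y x hw1 hy1 hyx.symm hy1 hw1 hyx
  set t₂ := g * t₁ * g⁻¹ with ht₂
  have ht₂Q : t₂ ∈ Q := mul_mem (mul_mem hg ht₁) (inv_mem hg)
  have he₂ : Elation y t₂ := by have := he₁.conj g; rwa [hgx] at this
  have v₁ : t₁ y = y * x := by
    rcases he₁.2.2 y with e | e
    · exact absurd e hy
    · rw [← e, ← mul_assoc, h.sq, one_mul]
  have v₂ : t₂ x = x * y := by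
    have : t₂ x = g (t₁ y) := by
      rw [ht₂, MulAut.mul_apply, MulAut.mul_apply,
        show g⁻¹ x = y by rw [← hgy, MulAut.inv_apply_self]]
    rw [this, v₁, map_mul, hgy, hgx]
  set d := t₁ * t₂ with hd
  -- the common axis
  set f₁ := moved h.sq t₁
  set f₂ := moved h.sq t₂
  have hK : 4 ≤ Nat.card ↥(f₁.ker ⊓ f₂.ker) := by
    have b1 : f₁.ker.index ≤ 2 := by
      rw [Subgroup.index_ker]
      refine (Nat.card_mono (t := ({1, x} : Set V)) (Set.toFinite _) ?_).trans ?_
      · rintro _ ⟨v, rfl⟩; rcases he₁.2.2 v with e | e <;> simp [f₁, e]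
      · rw [Nat.card_coe_set_eq]; exact (Set.ncard_insert_le _ _).trans (by rw [Set.ncard_singleton])
    have b2 : f₂.ker.index ≤ 2 := by
      rw [Subgroup.index_ker]
      refine (Nat.card_mono (t := ({1, y} : Set V)) (Set.toFinite _) ?_).trans ?_
      · rintro _ ⟨v, rfl⟩; rcases he₂.2.2 v with e | e <;> simp [f₂, e]
      · rw [Nat.card_coe_set_eq]; exact (Set.ncard_insert_le _ _).trans (by rw [Set.ncard_singleton])
    have h3 := Subgroup.card_mul_index (f₁.ker ⊓ f₂.ker)
    have hle := Subgroup.index_inf_le (H := f₁.ker) (K := f₂.ker)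
    have hVp : IsPGroup 2 V := fun v => ⟨1, by rw [pow_one, sq, h.sq]⟩
    obtain ⟨j, hj⟩ := IsPGroup.iff_card.1 hVp
    have : 16 ≤ Nat.card V := by
      rcases j with _ | _ | _ | _ | j
      all_goals first
        | omega
        | (rw [hj, pow_succ, pow_succ, pow_succ, pow_succ]; have := Nat.one_le_two_pow (n := j); omega)
    have : (f₁.ker ⊓ f₂.ker).index ≤ 4 := hle.trans (by nlinarith)
    nlinarith
  have hdK : ∀ v ∈ f₁.ker ⊓ f₂.ker, d v = v := fun v hv => by
    rw [hd, MulAut.mul_apply, (mul_eq_one_iff_of_sq h.sq).1 hv.2, (mul_eq_one_iff_of_sq h.sq).1 hv.1]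
  -- `d` permutes `x`, `y`, `x y` cyclically
  have hdx : d x = y := by
    rw [hd, MulAut.mul_apply, v₂, map_mul, he₁.2.1, v₁, comm_of_sq h.sq y, ← mul_assoc, h.sq, one_mul]
  have hdy : d y = x * y := by
    rw [hd, MulAut.mul_apply, he₂.2.1, v₁, comm_of_sq h.sq]
  have hdxy : d (x * y) = x := by
    rw [map_mul, hdx, hdy, comm_of_sq h.sq x, ← mul_assoc, h.sq, one_mul]
  obtain ⟨s, m, hm, hsm⟩ := Nat.exists_eq_pow_mul_and_not_dvd (orderOf_pos d).ne' 2 (by norm_num)
  have hodd : Odd (orderOf (d ^ 2 ^ s)) := by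
    rw [orderOf_pow_of_dvd (pow_ne_zero _ two_ne_zero) (hsm ▸ Dvd.intro m rfl), hsm,
      Nat.mul_div_cancel_left _ (pow_pos (by norm_num) s)]
    exact Nat.not_even_iff_odd.1 fun he => hm (even_iff_two_dvd.1 he)
  obtain ⟨a, b, ha, hb, hab⟩ : ∃ a b : ↥(f₁.ker ⊓ f₂.ker), a ≠ 1 ∧ b ≠ 1 ∧ a ≠ b := by
    obtain ⟨a, ha, -⟩ := exists_third (V := ↥(f₁.ker ⊓ f₂.ker)) hK 1
    obtain ⟨b, hb, hb'⟩ := exists_third (V := ↥(f₁.ker ⊓ f₂.ker)) hK a
    exact ⟨a, b, ha, hb, hb'.symm⟩
  have h1 := h.odd_fix _ (pow_mem (mul_mem ht₁ ht₂Q) _) hodd a b (fun e => ha (Subtype.ext e))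
    (fun e => hb (Subtype.ext e)) (fun e => hab (Subtype.ext e)) (pow_fix (hdK a a.2) _) (pow_fix (hdK b b.2) _)
  -- but a power of 2 of a 3-cycle is a 3-cycle
  have key : ∀ n : ℕ, (d ^ (2 ^ n)) x = y ∨ (d ^ (2 ^ n)) x = x * y := by
    have c3 : (d ^ 3) x = x := by
      rw [pow_succ, MulAut.mul_apply, hdx, pow_succ, MulAut.mul_apply, hdy, pow_one, hdxy]
    intro n
    have hmod : 2 ^ n % 3 = 1 ∨ 2 ^ n % 3 = 2 := by
      induction n with
      | zero => left; norm_num
      | succ n ih => rw [pow_succ, Nat.mul_mod]; rcases ih with e | e <;> rw [e] <;> norm_num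
    have e : (d ^ (2 ^ n)) x = (d ^ (2 ^ n % 3)) x := by
      conv_lhs => rw [← Nat.mod_add_div (2 ^ n) 3, pow_add, pow_mul, MulAut.mul_apply, pow_fix c3]
    rcases hmod with e' | e' <;> rw [e, e']
    · left; rw [pow_one, hdx]
    · right; rw [sq, MulAut.mul_apply, hdx, hdy]
  rcases key s with e | e <;> rw [h1, MulAut.one_apply] at e
  · exact hyx e.symm
  · exact hy1 (mul_left_cancel (a := x) (by rw [← e, mul_one]))

/-- For eight elements every automorphism occurs. -/
theorem eq_top (h : Small Q) (hc : Nat.card V = 8) : Q = ⊤ := by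
  refine eq_top_iff.2 fun g _ => ?_
  obtain ⟨x, hx1, -⟩ := exists_third (V := V) (by omega) 1
  obtain ⟨t, htQ, ht⟩ := exists_elation h (by omega) hx1
  set f := moved h.sq t with hf
  have hker : 4 ≤ Nat.card f.ker := by
    have b1 : f.ker.index ≤ 2 := by
      rw [Subgroup.index_ker]
      refine (Nat.card_mono (t := ({1, x} : Set V)) (Set.toFinite _) ?_).trans ?_
      · rintro _ ⟨v, rfl⟩; rcases ht.2.2 v with e | e <;> simp [hf, e]
      · rw [Nat.card_coe_set_eq]; exact (Set.ncard_insert_le _ _).trans (by rw [Set.ncard_singleton])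
    have := Subgroup.card_mul_index f.ker
    nlinarith
  obtain ⟨⟨y, hyk⟩, hy1', hyx'⟩ := exists_third (V := f.ker) hker
    ⟨x, (mul_eq_one_iff_of_sq h.sq).2 ht.2.1⟩
  have hy1 : y ≠ 1 := fun e => hy1' (Subtype.ext e)
  have hyx : y ≠ x := fun e => hyx' (Subtype.ext e)
  have hty : t y = y := (mul_eq_one_iff_of_sq h.sq).1 hyk
  obtain ⟨q, hq, hqx, hqy⟩ := h.two x y (g x) (g y) hx1 hy1 hyx.symm
    (fun e => hx1 (g.map_eq_one_iff.1 e)) (fun e => hy1 (g.map_eq_one_iff.1 e))
    (fun e => hyx (g.injective e).symm)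
  suffices hsuf : q⁻¹ * g ∈ Q by simpa using mul_mem hq hsuf
  have hgx : (q⁻¹ * g) x = x := by rw [MulAut.mul_apply, ← hqx, MulAut.inv_apply_self]
  have hgy : (q⁻¹ * g) y = y := by rw [MulAut.mul_apply, ← hqy, MulAut.inv_apply_self]
  generalize q⁻¹ * g = r at hgx hgy ⊢
  set U : Subgroup V := closure {x, y} with hU
  have hrU : ∀ v ∈ U, r v = v := fun v hv => by
    induction hv using closure_induction with
    | mem v hv => rcases hv with rfl | rfl <;> assumption
    | one => exact map_one _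
    | mul a b _ _ ha hb => rw [map_mul, ha, hb]
    | inv a _ ha => rw [map_inv, ha]
  have hxyne : x * y ≠ 1 := fun e => hyx ((mul_eq_one_iff_of_sq h.sq).1 e)
  have hUcard : Nat.card U = 4 := by
    have hset : (U : Set V) = {1, x, y, x * y} := by
      have hxy := comm_of_sq h.sq
      have hsq := h.sq
      refine Set.Subset.antisymm (fun v hv => ?_) ?_
      · induction hv using closure_induction with
        | mem v hv => rcases hv with e | e <;> simp_all
        | one => simp
        | mul a b _ _ ha hb =>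
          simp only [Set.mem_insert_iff, Set.mem_singleton_iff] at ha hb ⊢
          have e1 : x * (x * y) = y := by rw [← mul_assoc, hsq, one_mul]
          have e2 : y * (x * y) = x := by rw [hxy x y, ← mul_assoc, hsq, one_mul]
          rcases ha with e | e | e | e <;> rcases hb with e' | e' | e' | e' <;> rw [e, e'] <;>
            simp only [one_mul, mul_one, hsq, e1, e2, hxy (x * y) x, hxy (x * y) y, hxy y x, or_true, true_or]
        | inv a _ ha => rwa [inv_eq_of_mul_eq_one_left (hsq a)]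
      · simp only [Set.insert_subset_iff, Set.singleton_subset_iff, SetLike.mem_coe]
        exact ⟨one_mem _, subset_closure (by simp), subset_closure (by simp),
          mul_mem (subset_closure (by simp)) (subset_closure (by simp))⟩
    have : Nat.card U = ({1, x, y, x * y} : Set V).ncard := by rw [← hset, ← Nat.card_coe_set_eq]; rfl
    rw [this, Set.ncard_insert_of_notMem (by simp [hx1.symm, hy1.symm, hxyne.symm]),
      Set.ncard_insert_of_notMem (by
        simp only [Set.mem_insert_iff, Set.mem_singleton_iff, not_or]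
        exact ⟨hyx.symm, fun e => hy1 (mul_left_cancel (a := x) (by rw [← e, mul_one]))⟩),
      Set.ncard_pair (fun e => hx1 (mul_right_cancel (b := y) (by rw [← e, one_mul])))]
  have hidx : U.index = 2 := by
    have := Subgroup.card_mul_index U
    rw [hUcard, hc] at this
    omega
  obtain ⟨z, hz⟩ : ∃ z, z ∉ U := by
    by_contra hno
    push Not at hno
    rw [(eq_top_iff' U).2 hno, index_top] at hidx
    omega
  have det : ∀ p : MulAut V, (∀ v ∈ U, p v = v) → p z = r z → r = p := by
    intro p hp hpz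
    refine MulEquiv.ext fun v => ?_
    by_cases hv : v ∈ U
    · rw [hrU v hv, hp v hv]
    · have : z * v ∈ U := (mul_mem_iff_of_index_two hidx).2 (iff_of_false hz hv)
      calc r v = r (z * (z * v)) := by rw [← mul_assoc, h.sq, one_mul]
        _ = p (z * (z * v)) := by rw [map_mul r, map_mul p, hrU _ this, hp _ this, hpz]
        _ = p v := by rw [← mul_assoc, h.sq, one_mul]
  have hzr : z * r z ∈ U := by
    refine (mul_mem_iff_of_index_two hidx).2 (iff_of_false hz fun hr => hz ?_)
    have e := hrU _ hr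
    rwa [r.injective e] at hr
  set c := z * r z with hc'
  by_cases hc1 : c = 1
  · rw [det 1 (fun v _ => rfl) ((mul_eq_one_iff_of_sq h.sq).1 hc1).symm]
    exact one_mem _
  obtain ⟨e', he', hec⟩ : ∃ e' ∈ U, e' ≠ 1 ∧ e' ≠ c := by
    obtain ⟨⟨w, hw⟩, hw1, hwc⟩ := exists_third (V := U) (by omega) ⟨c, hzr⟩
    exact ⟨w, hw, fun e => hw1 (Subtype.ext e), fun e => hwc (Subtype.ext e)⟩
  obtain ⟨g', hg', hg'x, hg'y⟩ := h.two x y c e' hx1 hy1 hyx.symm hc1 hec.1 hec.2.symm
  have ht' : Elation c (g' * t * g'⁻¹) := by have := ht.conj g'; rwa [hg'x] at this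
  set p := g' * t * g'⁻¹ with hp
  have hpe : p e' = e' := by
    rw [hp, MulAut.mul_apply, MulAut.mul_apply, ← hg'y, MulAut.inv_apply_self, hty]
  have hU' : U ≤ (moved h.sq p).ker := by
    have h4 : closure {c, e'} ≤ (moved h.sq p).ker := by
      rw [closure_le]
      rintro v (rfl | rfl)
      · exact (mul_eq_one_iff_of_sq h.sq).2 ht'.2.1
      · exact (mul_eq_one_iff_of_sq h.sq).2 hpe
    refine le_trans (le_of_eq ?_) h4
    symm
    refine eq_of_le_of_card_ge (by rw [closure_le]; rintro v (rfl | rfl); exacts [hzr, he']) ?_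
    rw [hUcard]
    by_contra hlt
    have hle : ({1, c, e', c * e'} : Set V) ⊆ (closure {c, e'} : Subgroup V) := by
      simp only [Set.insert_subset_iff, Set.singleton_subset_iff, SetLike.mem_coe]
      exact ⟨one_mem _, subset_closure (by simp), subset_closure (by simp),
        mul_mem (subset_closure (by simp)) (subset_closure (by simp))⟩
    have h5 := Set.ncard_le_ncard hle (Set.toFinite _)
    have hce : c * e' ≠ 1 := fun e => hec.2 ((mul_eq_one_iff_of_sq h.sq).1 e)
    rw [Set.ncard_insert_of_notMem (by simp [Ne.symm hc1, hec.1.symm, hce.symm]),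
      Set.ncard_insert_of_notMem (by
        simp only [Set.mem_insert_iff, Set.mem_singleton_iff, not_or]
        exact ⟨hec.2.symm, fun e => hec.1 (mul_left_cancel (a := c) (by rw [← e, mul_one]))⟩),
      Set.ncard_pair (fun e => hc1 (mul_right_cancel (b := e') (by rw [← e, one_mul]))),
      ← Nat.card_coe_set_eq] at h5
    exact hlt h5
  rw [det p (fun v hv => (mul_eq_one_iff_of_sq h.sq).1 (hU' hv)) ?_]
  · exact mul_mem (mul_mem hg' htQ) (inv_mem hg')
  rcases ht'.2.2 z with e | e
  · exfalso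
    refine ht'.1 (MulEquiv.ext fun v => ?_)
    by_cases hv : v ∈ U
    · exact (mul_eq_one_iff_of_sq h.sq).1 (hU' hv)
    · have hzv : z * v ∈ U := (mul_mem_iff_of_index_two hidx).2 (iff_of_false hz hv)
      calc p v = p (z * (z * v)) := by rw [← mul_assoc, h.sq, one_mul]
        _ = z * (z * v) := by
          rw [map_mul, (mul_eq_one_iff_of_sq h.sq).1 e, (mul_eq_one_iff_of_sq h.sq).1 (hU' hzv)]
        _ = v := by rw [← mul_assoc, h.sq, one_mul]
  · rw [show p z = z * c by rw [← e, ← mul_assoc, h.sq, one_mul], hc', ← mul_assoc, h.sq, one_mul]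

end

end Cfsg.Lib.Pyramidal
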