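import Cfsg.Agent.Pyramidal.Base
import Cfsg.Agent.Walter.Main
import Cfsg.Agent.Walter.Structure
import Cfsg.Agent.Walter.Consumers.Types
import Cfsg.Agent.GenDihedral.Red.Tools
import Cfsg.Agent.PrimTypes.Basic
import Cfsg.Agent.Components.Layer
import Cfsg.Agent.Transfer.Abelian
import Cfsg.Agent.OddChar.PF.OddOrder

/-!
A perfect group whose involutions are central, with elementary abelian Sylow 2-subgroups modulo them: the
squares of the lifted involutions of the simple subnormal subgroups satisfy no relation of length three.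
-/

set_option autoImplicit false
set_option linter.style.haveILetI false
set_option linter.unusedSectionVars false

namespace Cfsg.Lib.Pyramidal

open Subgroup
open scoped commutatorElement

universe u

theorem rot_of_simple {S : Type u} [Group S] [Finite S] [IsSimpleGroup S] (hna : ¬ IsMulCommutative S)
    (hab : Walter.AbTwo S) (P : Sylow 2 S) : Walter.Rot (P : Subgroup S) := by
  classical
  haveI : Fact (Nat.Prime 2) := ⟨Nat.prime_two⟩
  rcases Walter.walterProp S hna hab with h | h | h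
  · exact (Walter.binary_facts h P).2.2.1
  · obtain ⟨F, iF, iFt, hq, h5, ⟨f⟩⟩ := h
    have K : FourGW.Top F (⊤ : Subgroup S) :=
      ⟨inferInstance, by rw [index_top]; exact odd_one, ⟨Subgroup.topEquiv.trans f⟩, hq⟩
    haveI hK : IsKleinFour ↥(P : Subgroup S) := by
      have hQ := Cfsg.Lib.AbCentMax.psl_sylow_klein (FourGW.Top.odd_q K) (P.mapSurjective (f := f.toMonoidHom) f.surjective) (by
        rintro _ ⟨x, hx, rfl⟩ _ ⟨y, hy, rfl⟩
        rw [← map_mul, ← map_mul, hab P x hx y hy])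
      let e := (P : Subgroup S).equivMapOfInjective f.toMonoidHom f.injective
      exact ⟨(Nat.card_congr e.toEquiv).trans hQ.card_four,
        (Monoid.exponent_eq_of_mulEquiv e).trans hQ.exponent_two⟩
    exact Walter.rot_small K P
  · exact ((Walter.jr_facts hna hab h).1 P).2.2

/-- A semiregular rotation is transitive. -/
theorem exists_conj_of_rot {S : Type u} [Group S] [Finite S] {P : Subgroup S} (h : Walter.Rot P)
    {x y : S} (hx : x ∈ P) (hx1 : x ≠ 1) (hy : y ∈ P) (hy1 : y ≠ 1) : ∃ g : S, g * x * g⁻¹ = y := by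
  classical
  obtain ⟨r, hr, -, hfree⟩ := h
  have hmem : ∀ (k : ℕ) (z : S), z ∈ P → r ^ k * z * (r ^ k)⁻¹ ∈ P := fun k z hz =>
    (mem_normalizer_iff.1 (pow_mem hr k) z).1 hz
  let f : Fin (Nat.card P - 1) → {z : P // z ≠ 1} := fun k => ⟨⟨_, hmem k x hx⟩, fun e =>
    hx1 (conj_eq_one_iff.1 (congrArg Subtype.val e))⟩
  have key : ∀ a b : ℕ, a ≤ b → b < Nat.card P - 1 →
      r ^ a * x * (r ^ a)⁻¹ = r ^ b * x * (r ^ b)⁻¹ → a = b := by
    intro a b hab hb he
    obtain ⟨d, rfl⟩ := Nat.exists_eq_add_of_le hab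
    by_contra hd
    refine hx1 (hfree d (fun hdvd => hd ?_) x hx ?_)
    · rcases Nat.eq_zero_or_pos d with h0 | h0
      · omega
      · have := Nat.le_of_dvd h0 hdvd; omega
    · rw [pow_add] at he
      calc r ^ d * x * (r ^ d)⁻¹ = (r ^ a)⁻¹ * (r ^ a * r ^ d * x * (r ^ a * r ^ d)⁻¹) * r ^ a := by group
        _ = x := by rw [← he]; group
  have hinj : Function.Injective f := by
    intro a b e
    have e' : r ^ (a : ℕ) * x * (r ^ (a : ℕ))⁻¹ = r ^ (b : ℕ) * x * (r ^ (b : ℕ))⁻¹ :=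
      congrArg (fun z : {z : P // z ≠ 1} => ((z.1 : P) : S)) e
    rcases le_total (a : ℕ) b with h1 | h1
    · exact Fin.ext (key a b h1 b.2 e')
    · exact Fin.ext (key b a h1 a.2 e'.symm).symm
  have hcard : Nat.card {z : P // z ≠ 1} = Nat.card P - 1 := by
    haveI := Fintype.ofFinite P
    rw [Nat.card_eq_fintype_card, Nat.card_eq_fintype_card, Fintype.card_subtype_compl,
      Fintype.card_subtype_eq]
  obtain ⟨k, hk⟩ := ((Nat.bijective_iff_injective_and_card f).2 ⟨hinj, by rw [Nat.card_fin, hcard]⟩).2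
    ⟨⟨y, hy⟩, fun e => hy1 (congrArg Subtype.val e)⟩
  exact ⟨r ^ (k : ℕ), congrArg (fun z : {z : P // z ≠ 1} => ((z.1 : P) : S)) hk⟩

theorem conj_of_simple {S : Type u} [Group S] [Finite S] [IsSimpleGroup S] (hna : ¬ IsMulCommutative S)
    (hab : Walter.AbTwo S) {x y : S} (hx : x * x = 1) (hx1 : x ≠ 1) (hy : y * y = 1) (hy1 : y ≠ 1) :
    ∃ g : S, g * x * g⁻¹ = y := by
  haveI : Fact (Nat.Prime 2) := ⟨Nat.prime_two⟩
  have hp : ∀ z : S, z * z = 1 → IsPGroup 2 (zpowers z) := fun z hz => by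
    obtain ⟨k, -, hk⟩ := (Nat.dvd_prime_pow Nat.prime_two).1
      (show orderOf z ∣ 2 ^ 1 from orderOf_dvd_of_pow_eq_one (by rw [pow_one, sq]; exact hz))
    exact IsPGroup.of_card (n := k) (by rw [Nat.card_zpowers, hk])
  obtain ⟨P, hP⟩ := (hp x hx).exists_le_sylow
  obtain ⟨R, hR⟩ := (hp y hy).exists_le_sylow
  obtain ⟨g, hg⟩ := MulAction.exists_smul_eq S R P
  have hyP : g * y * g⁻¹ ∈ (P : Subgroup S) := by
    rw [← hg, Sylow.coe_subgroup_smul]
    exact ⟨y, hR (mem_zpowers y), rfl⟩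
  obtain ⟨k, hk⟩ := exists_conj_of_rot (rot_of_simple hna hab P) (hP (mem_zpowers x)) hx1 hyP
    fun e => hy1 (conj_eq_one_iff.1 e)
  refine ⟨g⁻¹ * k, ?_⟩
  calc g⁻¹ * k * x * (g⁻¹ * k)⁻¹ = g⁻¹ * (k * x * k⁻¹) * g := by group
    _ = y := by rw [hk]; group

/-- A simple nonabelian subnormal subgroup. -/
def Simp {Q : Type u} [Group Q] (S : Subgroup Q) : Prop :=
  S.IsSubnormal ∧ IsSimpleGroup S ∧ ¬ IsMulCommutative S

theorem Simp.component {Q : Type u} [Group Q] {S : Subgroup Q} (h : Simp S) : Cfsg.IsComponent S := by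
  haveI := h.2.1
  have hz : center S = ⊥ := (IsSimpleGroup.eq_bot_or_eq_top_of_normal _ inferInstance).resolve_right fun e =>
    h.2.2 ⟨⟨fun a b => mem_center_iff.mp (e ▸ mem_top b) a⟩⟩
  refine ⟨h.1, (Group.isPerfect_def (G := S)).mpr
    ((IsSimpleGroup.eq_bot_or_eq_top_of_normal _ inferInstance).resolve_left fun e =>
      h.2.2 ⟨⟨fun a b => commutatorElement_eq_one_iff_mul_comm.mp
        (Subgroup.mem_bot.mp (e ▸ Subgroup.commutator_mem_commutator (mem_top a) (mem_top b)))⟩⟩), ?_⟩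
  exact ((QuotientGroup.quotientMulEquivOfEq hz).trans QuotientGroup.quotientBot).isSimpleGroup

/-- The hypotheses. -/
structure Core (L : Type u) [Group L] (A : Subgroup L) : Prop where
  central : A ≤ center L
  sq : ∀ a ∈ A, a * a = 1
  invol : ∀ x : L, x * x = 1 → x ∈ A
  sq_mem : ∀ P : Sylow 2 L, ∀ x ∈ P, x * x ∈ A
  perfect : commutator L = ⊤
  noOdd : GenDihedral.NoOdd L
  nontriv : Nontrivial L

/-- `z` is the square of a lifted involution of a simple subnormal subgroup. -/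
def Val {L : Type u} [Group L] (A : Subgroup L) [A.Normal] (z : L) : Prop :=
  ∃ S : Subgroup (L ⧸ A), Simp S ∧ ∃ x : L, (x : L ⧸ A) ∈ S ∧ x ∉ A ∧ x * x = z ∧ z ∈ A

variable {L : Type u} [Group L] [Finite L] {A : Subgroup L} [A.Normal]

namespace Core

variable (h : Core L A)
include h

theorem sylow_sq (R : Sylow 2 (L ⧸ A)) : ∀ x ∈ (R : Subgroup (L ⧸ A)), x * x = 1 := by
  haveI : Fact (Nat.Prime 2) := ⟨Nat.prime_two⟩
  obtain ⟨P⟩ : Nonempty (Sylow 2 L) := inferInstance
  refine Walter.Consumers.sylow_sq_of_one (P.mapSurjective (QuotientGroup.mk'_surjective A)) (fun x hx => ?_) R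
  obtain ⟨y, hy, rfl⟩ := hx
  rw [← map_mul]
  exact (QuotientGroup.eq_one_iff _).2 (h.sq_mem P y hy)

theorem abTwo : Walter.AbTwo (L ⧸ A) := fun R x hx y hy =>
  congrArg Subtype.val (comm_of_sq (V := (R : Subgroup (L ⧸ A)))
    (fun v => Subtype.ext (h.sylow_sq R v v.2)) ⟨x, hx⟩ ⟨y, hy⟩)

theorem quot_noOdd : GenDihedral.NoOdd (L ⧸ A) := by
  haveI : Fact (Nat.Prime 2) := ⟨Nat.prime_two⟩
  intro N hN hodd
  set K := N.comap (QuotientGroup.mk' A) with hK
  haveI : K.Normal := hN.comap _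
  have hKn := GenDihedral.noOdd_sub h.noOdd K
  have hAK : A ≤ K := fun a ha => by
    rw [hK, mem_comap, show QuotientGroup.mk' A a = 1 from (QuotientGroup.eq_one_iff a).2 ha]
    exact one_mem _
  have hmap : K.map (QuotientGroup.mk' A) = N := map_comap_eq_self_of_surjective (QuotientGroup.mk'_surjective A) N
  have hA2 : IsPGroup 2 A := fun a => ⟨1, Subtype.ext (by rw [pow_one, _root_.sq]; exact h.sq a a.2)⟩
  set R : Subgroup K := A.subgroupOf K with hR
  obtain ⟨m, hm⟩ := IsPGroup.iff_card.1 hA2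
  have hRc : Nat.card R = 2 ^ m := by rw [hR, Nat.card_congr (subgroupOfEquivOfLe hAK).toEquiv, hm]
  have hRi : R.index = Nat.card N := by
    have e : R = ((QuotientGroup.mk' A).comp K.subtype).ker := by
      rw [← MonoidHom.comap_ker, QuotientGroup.ker_mk']; rfl
    rw [e, index_ker, MonoidHom.range_comp, range_subtype, hmap]
  haveI : R.Normal := inferInstance
  obtain ⟨H, hH⟩ := exists_right_complement'_of_coprime (N := R)
    (by rw [hRc, hRi]; exact (Nat.coprime_two_left.2 hodd).pow_left m)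
  haveI : H.Normal := by
    refine ⟨fun x hx k => ?_⟩
    obtain ⟨⟨r, y⟩, rfl⟩ := hH.surjective k
    have hr : ((r : K) : L) ∈ center L := h.central r.2
    have e : (r : K) * (y * x * (y : K)⁻¹) * (r : K)⁻¹ = y * x * (y : K)⁻¹ := Subtype.ext (by
      simp only [Subgroup.coe_mul, Subgroup.coe_inv]
      rw [← mem_center_iff.1 hr, mul_inv_cancel_right])
    show (r : K) * y * x * ((r : K) * y)⁻¹ ∈ H
    rw [show (r : K) * y * x * ((r : K) * y)⁻¹ = (r : K) * (y * x * (y : K)⁻¹) * (r : K)⁻¹ by group, e]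
    exact mul_mem (mul_mem y.2 hx) (inv_mem y.2)
  have hHodd : Odd (Nat.card H) := by rw [← hH.symm.index_eq_card, hRi]; exact hodd
  have hH1 : H = ⊥ := hKn H inferInstance hHodd
  rw [hH1] at hH
  have hRtop : R = ⊤ := isComplement'_bot_right.1 hH
  rw [← hmap]
  refine (Subgroup.map_eq_bot_iff _).2 ?_
  rw [QuotientGroup.ker_mk']
  intro k hk
  exact (hRtop ▸ mem_top (⟨k, hk⟩ : K) : (⟨k, hk⟩ : K) ∈ R)

theorem quot_perfect : commutator (L ⧸ A) = ⊤ := by
  rw [_root_.commutator_def, ← map_top_of_surjective _ (QuotientGroup.mk'_surjective A), ← map_commutator,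
    ← _root_.commutator_def, h.perfect]

theorem quot_noTwo : GenDihedral.NoTwo (L ⧸ A) := by
  classical
  haveI : Fact (Nat.Prime 2) := ⟨Nat.prime_two⟩
  intro N hN hsq
  have hN2 : IsPGroup 2 N := fun a => ⟨1, Subtype.ext (by rw [pow_one, _root_.sq]; exact hsq a a.2)⟩
  obtain ⟨P⟩ : Nonempty (Sylow 2 (L ⧸ A)) := inferInstance
  have hNP : N ≤ (P : Subgroup (L ⧸ A)) := by
    obtain ⟨R, hR⟩ := hN2.exists_le_sylow
    obtain ⟨g, hg⟩ := MulAction.exists_smul_eq (L ⧸ A) R P
    intro x hx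
    rw [← hg, Sylow.coe_subgroup_smul]
    exact ⟨g⁻¹ * x * g, hR (by simpa using hN.conj_mem x hx g⁻¹), show g * (g⁻¹ * x * g) * g⁻¹ = x by group⟩
  set C := centralizer (N : Set (L ⧸ A)) with hC
  have hPC : (P : Subgroup (L ⧸ A)) ≤ C := fun x hx => mem_centralizer_iff.2 fun n hn =>
    h.abTwo P n (hNP hn) x hx
  have hodd : Odd (Nat.card ((L ⧸ A) ⧸ C)) := by
    refine Nat.not_even_iff_odd.1 fun he => P.not_dvd_index (he.two_dvd.trans ?_)
    rw [← index_eq_card]
    exact index_dvd_of_le hPC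
  have hC1 : C = ⊤ := by
    by_contra hne
    haveI : Nontrivial ((L ⧸ A) ⧸ C) := QuotientGroup.nontrivial_iff.mpr hne
    haveI : Group.IsSolvable ((L ⧸ A) ⧸ C) := Cfsg.Agent.PF.isSolvable_of_odd _ hodd
    refine (Group.IsSolvable.commutator_lt_top_of_nontrivial ((L ⧸ A) ⧸ C)).ne ?_
    rw [_root_.commutator_def, ← map_top_of_surjective _ (QuotientGroup.mk'_surjective C), ← map_commutator,
      ← _root_.commutator_def, h.quot_perfect]
  haveI : IsMulCommutative (P : Subgroup (L ⧸ A)) := ⟨⟨fun a b => Subtype.ext (h.abTwo P a a.2 b b.2)⟩⟩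
  refine eq_bot_iff.2 fun x hx => mem_bot.2 ?_
  refine Transfer.eq_one_of_mem_commutator_of_central (P : Subgroup (L ⧸ A)) P.card_coprime_index (hNP hx)
    (h.quot_perfect ▸ mem_top x) (mem_center_iff.2 fun g => ?_)
  exact (mem_centralizer_iff.1 (hC1 ▸ mem_top g : g ∈ C) x hx).symm

theorem sq_const {S : Subgroup (L ⧸ A)} (hS : Simp S) {x y : L} (hx : (x : L ⧸ A) ∈ S) (hxA : x ∉ A)
    (hx2 : x * x ∈ A) (hy : (y : L ⧸ A) ∈ S) (hyA : y ∉ A) (hy2 : y * y ∈ A) : x * x = y * y := by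
  haveI := hS.2.1
  obtain ⟨⟨g, hg'⟩, hg⟩ := conj_of_simple hS.2.2 (h.abTwo.subgroup S) (x := (⟨_, hx⟩ : S)) (y := ⟨_, hy⟩)
    (Subtype.ext (show (x : L ⧸ A) * x = 1 by rw [← QuotientGroup.mk_mul]; exact (QuotientGroup.eq_one_iff _).2 hx2))
    (fun e => hxA ((QuotientGroup.eq_one_iff x).1 (congrArg Subtype.val e)))
    (Subtype.ext (show (y : L ⧸ A) * y = 1 by rw [← QuotientGroup.mk_mul]; exact (QuotientGroup.eq_one_iff _).2 hy2))
    (fun e => hyA ((QuotientGroup.eq_one_iff y).1 (congrArg Subtype.val e)))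
  induction g using QuotientGroup.induction_on with | _ g =>
  have hg2 : ((g * x * g⁻¹ : L) : L ⧸ A) = (y : L ⧸ A) := by
    rw [QuotientGroup.mk_mul, QuotientGroup.mk_mul, QuotientGroup.mk_inv]
    exact congrArg Subtype.val hg
  have hc : y⁻¹ * (g * x * g⁻¹) ∈ A := QuotientGroup.eq.1 hg2.symm
  set c := y⁻¹ * (g * x * g⁻¹)
  have e1 : g * (x * x) * g⁻¹ = x * x := by rw [mem_center_iff.1 (h.central hx2) g, mul_inv_cancel_right]
  have e2 : g * (x * x) * g⁻¹ = y * c * (y * c) := by simp only [c]; group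
  rw [← e1, e2, show y * c * (y * c) = y * (c * y) * c by group, ← mem_center_iff.1 (h.central hc) y,
    show y * (y * c) * c = y * y * (c * c) by group, h.sq c hc, mul_one]

theorem lifts_commute {S S' : Subgroup (L ⧸ A)} (hS : Simp S) (hS' : Simp S') (hne : S ≠ S') {x y : L}
    (hx : (x : L ⧸ A) ∈ S) (hy : (y : L ⧸ A) ∈ S') : x * y = y * x := by
  set π := QuotientGroup.mk' A
  set K := S.comap π with hK
  set K' := S'.comap π with hK'
  have h12 : ⁅K, K'⁆ ≤ A := by
    have : (⁅K, K'⁆).map π = ⊥ := by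
      rw [map_commutator, map_comap_eq_self_of_surjective (QuotientGroup.mk'_surjective A),
        map_comap_eq_self_of_surjective (QuotientGroup.mk'_surjective A)]
      exact Components.comp_commute hS.component hS'.component hne
    rwa [Subgroup.map_eq_bot_iff, QuotientGroup.ker_mk'] at this
  have hz : ∀ H : Subgroup L, H ≤ A → ⁅H, K⁆ = ⊥ := fun H hH => by
    rw [commutator_eq_bot_iff_le_centralizer]
    exact fun a ha => mem_centralizer_iff.2 fun k _ => mem_center_iff.1 (h.central (hH ha)) k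
  have h3 : ⁅⁅K, K⁆, K'⁆ = ⊥ := commutator_commutator_eq_bot_of_rotate (hz _ h12)
    (hz _ ((commutator_comm K' K).le.trans h12))
  obtain ⟨d, hd, hdx⟩ : π x ∈ (⁅K, K⁆).map π := by
    rw [map_commutator, map_comap_eq_self_of_surjective (QuotientGroup.mk'_surjective A),
      Components.comp_perfect hS.component]
    exact hx
  have hdy : d * y = y * d :=
    (mem_centralizer_iff.1 (commutator_eq_bot_iff_le_centralizer.1 h3 hd) y hy).symm
  have ha : x * d⁻¹ ∈ A := (QuotientGroup.eq_one_iff _).1 (by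
    rw [QuotientGroup.mk_mul, QuotientGroup.mk_inv]
    exact mul_inv_eq_one.2 hdx.symm)
  calc x * y = x * d⁻¹ * (d * y) := by group
    _ = x * d⁻¹ * y * d := by rw [hdy]; group
    _ = y * (x * d⁻¹) * d := by rw [mem_center_iff.1 (h.central ha) y]
    _ = y * x := by group

theorem val_ne_one {z : L} (hz : Val A z) : z ≠ 1 := by
  obtain ⟨S, -, x, -, hx, rfl, -⟩ := hz
  exact fun e => hx (h.invol x e)

theorem exists_val : ∃ z : L, Val A z := by
  classical
  haveI : Fact (Nat.Prime 2) := ⟨Nat.prime_two⟩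
  haveI := h.nontriv
  have hA : A ≠ ⊤ := fun e => by
    haveI : IsMulCommutative L := ⟨⟨fun a b => (mem_center_iff.1 (h.central (e ▸ mem_top a)) b).symm⟩⟩
    have := h.perfect
    rw [(_root_.commutator_eq_bot_iff L).2 inferInstance] at this
    exact bot_ne_top this
  haveI : Nontrivial (L ⧸ A) := QuotientGroup.nontrivial_iff.mpr hA
  obtain ⟨N, -, hN, hNb, hmin⟩ :=
    Cfsg.Lib.Coprime.exists_minimal_normal (K := (⊤ : Subgroup (L ⧸ A))) inferInstance top_ne_bot
  have hNna : ¬ IsMulCommutative N := fun hc => hNb (GenDihedral.rad_bot h.quot_noOdd h.quot_noTwo hN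
    (Group.isSolvable_of_comm fun a b => hc.is_comm.comm a b))
  obtain ⟨S, hSN, hSs, hSna, hnorm, -⟩ := PrimTypes.exists_simple_factor hN hNb hmin hNna
  have hsub : S.IsSubnormal :=
    IsSubnormal.trans hSN (normal_subgroupOf_iff_le_normalizer hSN |>.2 hnorm).isSubnormal hN.isSubnormal
  have heven : 2 ∣ Nat.card S := by
    by_contra h2
    haveI := hSs
    haveI : Group.IsSolvable S := Cfsg.Agent.PF.isSolvable_of_odd _ (Nat.not_even_iff_odd.1 fun he => h2 he.two_dvd)
    exact hSna (IsSimpleGroup.comm_iff_isSolvable.2 inferInstance |> fun hc => ⟨⟨hc⟩⟩)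
  obtain ⟨⟨v, hv⟩, hv2⟩ := exists_prime_orderOf_dvd_card' (G := S) 2 heven
  induction v using QuotientGroup.induction_on with | _ x =>
  rw [Subgroup.orderOf_mk] at hv2
  have hxx : x * x ∈ A := (QuotientGroup.eq_one_iff _).1 (by
    have := pow_orderOf_eq_one (x : L ⧸ A)
    rw [hv2, _root_.sq, ← QuotientGroup.mk_mul] at this
    exact this)
  have hxA : x ∉ A := fun hxA => by
    rw [(QuotientGroup.eq_one_iff x).2 hxA, orderOf_one] at hv2
    omega
  exact ⟨x * x, S, ⟨hsub, hSs, hSna⟩, x, hv, hxA, rfl, hxx⟩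

theorem val_relation {a b : L} (hab : a ≠ b) (ha : Val A a) (hb : Val A b) (hc : Val A (a * b)) :
    False := by
  have hb1 := h.val_ne_one hb
  have ha1 := h.val_ne_one ha
  obtain ⟨S, hS, x, hx, hxA, rfl, hxa⟩ := ha
  obtain ⟨S', hS', y, hy, hyA, rfl, hyb⟩ := hb
  obtain ⟨S'', hS'', w, hw, hwA, hww, hwc⟩ := hc
  have hne : S ≠ S' := by rintro rfl; exact hab (h.sq_const hS hx hxA hxa hy hyA hyb)
  have hne' : S ≠ S'' := by
    rintro rfl
    have := h.sq_const hS hx hxA hxa hw hwA (hww ▸ hwc)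
    rw [hww, eq_comm, mul_eq_left] at this
    exact hb1 this
  have hne'' : S' ≠ S'' := by
    rintro rfl
    have := h.sq_const hS' hy hyA hyb hw hwA (hww ▸ hwc)
    rw [hww, eq_comm, mul_eq_right] at this
    exact ha1 this
  have c1 := h.lifts_commute hS hS' hne hx hy
  have c2 := h.lifts_commute hS hS'' hne' hx hw
  have c3 := h.lifts_commute hS' hS'' hne'' hy hw
  have hsq : x * y * w * (x * y * w) = 1 := by
    have e1 : Commute (x * y) w := Commute.mul_left c2 c3
    have e2 : Commute x y := c1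
    rw [e1.symm.mul_mul_mul_comm, e2.symm.mul_mul_mul_comm, hww]
    exact h.sq _ (mul_mem hxa hyb)
  have hm := h.invol _ hsq
  haveI := hS''.2.1
  have hcen : (⟨(w : L ⧸ A), hw⟩ : S'') ∈ center S'' := by
    refine mem_center_iff.2 fun v => ?_
    obtain ⟨v, hv⟩ := v
    induction v using QuotientGroup.induction_on with | _ v =>
    have d2 := h.lifts_commute hS hS'' hne' hx hv
    have d3 := h.lifts_commute hS' hS'' hne'' hy hv
    refine Subtype.ext ?_
    show (v : L ⧸ A) * w = w * v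
    rw [← QuotientGroup.mk_mul, ← QuotientGroup.mk_mul]
    congr 1
    have d4 : v * (x * y * w) = (x * y * w) * v := mem_center_iff.1 (h.central hm) v
    have d5 : v * (x * y) = x * y * v := by rw [← mul_assoc, ← d2, mul_assoc, ← d3, mul_assoc]
    rw [← mul_assoc, d5, mul_assoc, mul_assoc (x * y) w] at d4
    exact mul_left_cancel d4
  rcases IsSimpleGroup.eq_bot_or_eq_top_of_normal (center S'') inferInstance with e | e
  · rw [e, mem_bot] at hcen
    exact hwA ((QuotientGroup.eq_one_iff w).1 (congrArg Subtype.val hcen))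
  · exact hS''.2.2 ⟨⟨fun a b => mem_center_iff.1 (e ▸ mem_top b) a⟩⟩

end Core

theorem Val.map {z : L} (hz : Val A z) (φ : MulAut L) (hφ : A.map φ.toMonoidHom = A) : Val A (φ z) := by
  obtain ⟨S, ⟨hs, hsi, hna⟩, x, hx, hxA, rfl, hz⟩ := hz
  set Φ := QuotientGroup.congr A A φ hφ
  have hmem : ∀ a : L, φ a ∈ A ↔ a ∈ A := fun a => by
    conv_lhs => rw [← hφ]
    exact mem_map_iff_mem φ.injective
  set e := S.equivMapOfInjective Φ.toMonoidHom Φ.injective
  refine ⟨S.map Φ.toMonoidHom, ⟨Components.isSubnormal_conj hs Φ, ?_, ?_⟩, φ x, ⟨_, hx, rfl⟩,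
    fun e => hxA ((hmem x).1 e), (map_mul φ x x).symm, (hmem _).2 hz⟩
  · exact e.symm.isSimpleGroup
  · exact fun hc => hna ⟨⟨fun a b => e.injective (by rw [map_mul, map_mul]; exact hc.is_comm.comm _ _)⟩⟩

end Cfsg.Lib.Pyramidal
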