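import Mathlib

/-!
# Explicit automorphisms of an elementary abelian group of order eight
-/

set_option autoImplicit false

set_option maxRecDepth 100000
set_option maxHeartbeats 4000000
set_option synthInstance.maxSize 4000
set_option synthInstance.maxHeartbeats 400000

namespace Cfsg.Lib.Pyramidal.Eight

/-- The elementary abelian group of order 8. -/
abbrev W := Multiplicative (Fin 3 → ZMod 2)

/-- Its standard generators. -/
def e (i : Fin 3) : W := Multiplicative.ofAdd (Pi.single i 1)

/-- The endomorphism with the given images of the generators. -/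
def mk (a b c : W) : W → W := fun v =>
  a ^ ((Multiplicative.toAdd v) 0).val * b ^ ((Multiplicative.toAdd v) 1).val * c ^ ((Multiplicative.toAdd v) 2).val

theorem sq : ∀ v : W, v * v = 1 := by decide

theorem card_W : Nat.card W = 8 := by rw [Nat.card_eq_fintype_card]; decide

theorem mk_mul (a b c : W) : ∀ v w : W, mk a b c (v * w) = mk a b c v * mk a b c w := by
  intro v w
  simp only [mk]
  have key : ∀ (a : W) (r s : ZMod 2), a ^ (r + s).val = a ^ r.val * a ^ s.val := by decide
  simp only [toAdd_mul, Pi.add_apply, key]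
  simp only [mul_assoc, mul_comm, mul_left_comm]

/-- An automorphism from the images of the generators and those of the inverse. -/
def auto (a b c a' b' c' : W) (h₁ : ∀ v, mk a' b' c' (mk a b c v) = v) (h₂ : ∀ v, mk a b c (mk a' b' c' v) = v) :
    MulAut W :=
  { toFun := mk a b c, invFun := mk a' b' c', left_inv := h₁, right_inv := h₂, map_mul' := mk_mul a b c }

theorem gen_split : ∀ v : W, mk (e 0) (e 1) (e 2) v = v := by decide

theorem aut_ext {f g : MulAut W} (h0 : f (e 0) = g (e 0)) (h1 : f (e 1) = g (e 1)) (h2 : f (e 2) = g (e 2)) :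
    f = g := by
  refine MulEquiv.ext fun v => ?_
  rw [← gen_split v]
  simp only [mk, map_mul, map_pow, h0, h1, h2]

theorem apply_mk (f : MulAut W) (v : W) : f v = mk (f (e 0)) (f (e 1)) (f (e 2)) v := by
  conv_lhs => rw [← gen_split v]
  simp only [mk, map_mul, map_pow]

/-- Elations with centre `e 0`. -/
def ta : MulAut W := auto (e 0) (e 1 * e 0) (e 2) (e 0) (e 1 * e 0) (e 2) (by decide) (by decide)
/-- Elations with centre `e 0`. -/
def tb : MulAut W := auto (e 0) (e 1) (e 2 * e 0) (e 0) (e 1) (e 2 * e 0) (by decide) (by decide)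
/-- An elation with centre `e 1` and axis `⟨e 0, e 1⟩`. -/
def tc : MulAut W := auto (e 0) (e 1) (e 2 * e 1) (e 0) (e 1) (e 2 * e 1) (by decide) (by decide)
/-- An element of order 3 fixing `e 0`. -/
def u : MulAut W := auto (e 0) (e 2) (e 1 * e 2) (e 0) (e 1 * e 2) (e 1) (by decide) (by decide)
/-- Exchanges `e 1` and `e 2`. -/
def j : MulAut W := auto (e 0) (e 2) (e 1) (e 0) (e 2) (e 1) (by decide) (by decide)
/-- Exchanges `e 0` and `e 1`. -/
def sw : MulAut W := auto (e 1) (e 0) (e 2) (e 1) (e 0) (e 2) (by decide) (by decide)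
/-- An element of order 4. -/
def h : MulAut W := auto (e 0) (e 0 * e 1) (e 1 * e 2) (e 0) (e 0 * e 1) (e 0 * e 1 * e 2) (by decide) (by decide)
/-- An element of order 7. -/
def σ : MulAut W := auto (e 1) (e 2) (e 0 * e 1) (e 0 * e 2) (e 0) (e 1) (by decide) (by decide)
/-- An element of order 3. -/
def f : MulAut W := auto (e 1) (e 2) (e 0) (e 2) (e 0) (e 1) (by decide) (by decide)
/-- An element of order 3. -/
def g : MulAut W := auto (e 2) (e 0 * e 2) (e 0 * e 1) (e 0 * e 1) (e 0 * e 1 * e 2) (e 0) (by decide) (by decide)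

theorem h_eq : h = f * g := aut_ext (by decide) (by decide) (by decide)
theorem f_cube : f ^ 3 = 1 := aut_ext (by decide) (by decide) (by decide)
theorem g_cube : g ^ 3 = 1 := aut_ext (by decide) (by decide) (by decide)
theorem h_four : h ^ 4 = 1 := aut_ext (by decide) (by decide) (by decide)
theorem h_fix : ∀ v : W, h v = v → v = 1 ∨ v = e 0 := by decide
theorem h_sq_moves : e 2 * (h * h) (e 2) = e 0 := by decide
theorem h_gen : ∀ v : W, mk (e 2) (h (e 2)) (h (h (e 2))) v = 1 → v = 1 := by decide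
theorem h_span : ∀ w : W, ∃ v : W, mk (e 2) (h (e 2)) (h (h (e 2))) v = w := by decide
theorem σ_seven : σ ^ 7 = 1 := aut_ext (by decide) (by decide) (by decide)
theorem σ_fix : ∀ v : W, σ v = v → v = 1 := by decide
theorem σ_orbit : ∀ v w : W, v ≠ 1 → w ≠ 1 →
    ∃ n : Fin 7, (σ ^ (n : ℕ)) v = w := by decide
theorem u_σ : u * σ = σ ^ 2 * u := aut_ext (by decide) (by decide) (by decide)
theorem u_cube : u ^ 3 = 1 := aut_ext (by decide) (by decide) (by decide)
theorem u_e : u (e 0) = e 0 := by decide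
theorem ta_e : ta (e 0) = e 0 := by decide
theorem tb_e : tb (e 0) = e 0 := by decide
theorem j_e : j (e 0) = e 0 := by decide
theorem sw_e0 : sw (e 0) = e 1 := by decide
theorem sw_e1 : sw (e 1) = e 0 := by decide
theorem tb_e1 : tb (e 1) = e 1 := by decide
theorem tc_e0 : tc (e 0) = e 0 := by decide
theorem tc_e1 : tc (e 1) = e 1 := by decide
theorem ta_sq : ta * ta = 1 := aut_ext (by decide) (by decide) (by decide)
theorem tb_sq : tb * tb = 1 := aut_ext (by decide) (by decide) (by decide)
theorem j_sq : j * j = 1 := aut_ext (by decide) (by decide) (by decide)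
theorem ta_tb : ta * tb = tb * ta := aut_ext (by decide) (by decide) (by decide)
theorem u_ta : u * ta = ta * tb * u := aut_ext (by decide) (by decide) (by decide)
theorem u_tb : u * tb = ta * u := aut_ext (by decide) (by decide) (by decide)
theorem j_ta : j * ta = tb * j := aut_ext (by decide) (by decide) (by decide)
theorem j_u : j * u = u ^ 2 * j := aut_ext (by decide) (by decide) (by decide)
theorem V4_fix : ∀ v : W, ta v = v → tb v = v → v = 1 ∨ v = e 0 := by decide
theorem u_fix : ∀ v : W, u v = v → v = 1 ∨ v = e 0 := by decide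
theorem pair_fix : ∀ v : W, tb v = v → tc v = v → sw v = v → v = 1 ∨ v = e 0 * e 1 := by decide

theorem stab_word_aux : ∀ p q : W, p ≠ 1 → p ≠ e 0 → q ≠ 1 → q ≠ e 0 → q ≠ p → q ≠ p * e 0 →
    ∃ (a b : Fin 2) (c : Fin 3) (d : Fin 2),
      (ta ^ (a : ℕ) * tb ^ (b : ℕ) * u ^ (c : ℕ) * j ^ (d : ℕ)) (e 1) = p ∧
      (ta ^ (a : ℕ) * tb ^ (b : ℕ) * u ^ (c : ℕ) * j ^ (d : ℕ)) (e 2) = q := by decide

/-- The stabiliser of `e 0` is generated by `ta`, `tb`, `u` and `j`. -/
theorem stab_word (x : MulAut W) (hx : x (e 0) = e 0) :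
    ∃ (a b : ℕ) (c d : ℕ), x = ta ^ a * tb ^ b * u ^ c * j ^ d := by
  have inj := x.injective
  have ne : ∀ {v w : W}, v ≠ w → x v ≠ x w := fun hvw e' => hvw (inj e')
  obtain ⟨a, b, c, d, h1, h2⟩ := stab_word_aux (x (e 1)) (x (e 2))
    (by rw [← map_one x]; exact ne (by decide)) (by rw [← hx]; exact ne (by decide))
    (by rw [← map_one x]; exact ne (by decide)) (by rw [← hx]; exact ne (by decide))
    (ne (by decide)) (by rw [← hx, ← map_mul]; exact ne (by decide))
  refine ⟨a, b, c, d, aut_ext ?_ h1.symm h2.symm⟩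
  rw [hx]
  have hp : ∀ {y : MulAut W}, y (e 0) = e 0 → ∀ n : ℕ, (y ^ n) (e 0) = e 0 := fun hy n => by
    induction n with
    | zero => simp
    | succ n ih => rw [pow_succ, MulAut.mul_apply, hy, ih]
  simp only [MulAut.mul_apply, hp ta_e, hp tb_e, hp u_e, hp j_e]

theorem two_aux : ∀ a b : W, a ≠ 1 → b ≠ 1 → a ≠ b → ∃ c : W, ∀ v, mk a b c v = 1 → v = 1 := by decide

/-- Double transitivity. -/
theorem exists_map (a b : W) (ha : a ≠ 1) (hb : b ≠ 1) (hab : a ≠ b) :
    ∃ x : MulAut W, x (e 0) = a ∧ x (e 1) = b := by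
  obtain ⟨c, hc⟩ := two_aux a b ha hb hab
  let F : W →* W := MonoidHom.mk' (mk a b c) (mk_mul a b c)
  have hinj : Function.Injective F := (injective_iff_map_eq_one F).2 hc
  refine ⟨MulEquiv.ofBijective F ⟨hinj, Finite.surjective_of_injective hinj⟩, ?_, ?_⟩
  · show mk a b c (e 0) = a
    have : ∀ a b c : W, mk a b c (e 0) = a := by decide
    exact this a b c
  · show mk a b c (e 1) = b
    have : ∀ a b c : W, mk a b c (e 1) = b := by decide
    exact this a b c

theorem three_cases : ∀ v : W, ∃ r s t : Fin 2, v = e 0 ^ (r : ℕ) * e 1 ^ (s : ℕ) * e 2 ^ (t : ℕ) := by decide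

end Cfsg.Lib.Pyramidal.Eight
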