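import Mathlib
import Cfsg.Agent.Known.Laws

/-!
`F² ⋊ SL(2, F)` has `|F|²` involutions, all conjugate, and is not solvable.
-/

set_option autoImplicit false
set_option linter.style.haveILetI false
set_option linter.unusedSectionVars false

namespace Cfsg.Lib.Pyramidal.Example

open Matrix

variable (F : Type) [Field F]

/-- The natural action. -/
def act : SpecialLinearGroup (Fin 2) F →* MulAut (Multiplicative (Fin 2 → F)) where
  toFun g := AddEquiv.toMultiplicative (SpecialLinearGroup.toLin' g).toAddEquiv
  map_one' := MulEquiv.ext fun v => by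
    show Multiplicative.ofAdd (SpecialLinearGroup.toLin' (1 : SpecialLinearGroup (Fin 2) F) v.toAdd) = v
    rw [map_one]; rfl
  map_mul' a b := MulEquiv.ext fun v => by
    show Multiplicative.ofAdd (SpecialLinearGroup.toLin' (a * b) v.toAdd) =
      Multiplicative.ofAdd (SpecialLinearGroup.toLin' a (SpecialLinearGroup.toLin' b v.toAdd))
    rw [map_mul]; rfl

/-- The group. -/
abbrev Grp : Type := Multiplicative (Fin 2 → F) ⋊[act F] SpecialLinearGroup (Fin 2) F

variable {F}

theorem act_neg_one (v : Multiplicative (Fin 2 → F)) : act F (-1) v = v⁻¹ := by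
  refine Multiplicative.toAdd.injective ?_
  show SpecialLinearGroup.toLin' (-1 : SpecialLinearGroup (Fin 2) F) v.toAdd = -v.toAdd
  funext i
  fin_cases i <;>
    simp [SpecialLinearGroup.toLin'_apply, Matrix.toLin'_apply, Matrix.mulVec, dotProduct, Fin.sum_univ_two]

theorem sq_eq_one {g : SpecialLinearGroup (Fin 2) F} (h2 : (2 : F) ≠ 0) (hg : g * g = 1) : g = 1 ∨ g = -1 := by
  have hm : (g : Matrix (Fin 2) (Fin 2) F) * g = 1 := congrArg Subtype.val hg
  have hdet := g.2
  rw [det_fin_two] at hdet
  have e00 := congrFun (congrFun hm 0) 0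
  have e01 := congrFun (congrFun hm 0) 1
  have e10 := congrFun (congrFun hm 1) 0
  simp [Matrix.mul_apply, Fin.sum_univ_two] at e00 e01 e10
  set a := (g : Matrix (Fin 2) (Fin 2) F) 0 0 with ha
  set b := (g : Matrix (Fin 2) (Fin 2) F) 0 1 with hb
  set c := (g : Matrix (Fin 2) (Fin 2) F) 1 0 with hc
  set d := (g : Matrix (Fin 2) (Fin 2) F) 1 1 with hd
  have htr : a + d ≠ 0 := fun h0 => h2 (by linear_combination a * h0 - e00 - hdet)
  have hb0 : b = 0 := (mul_eq_zero.1 (show (a + d) * b = 0 by linear_combination e01)).resolve_left htr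
  have hc0 : c = 0 := (mul_eq_zero.1 (show (a + d) * c = 0 by linear_combination e10)).resolve_left htr
  have haa : a * a = 1 := by rw [hb0] at e00; linear_combination e00
  have had : a * d = 1 := by rw [hb0] at hdet; linear_combination hdet
  have hda : d = a := by linear_combination d * (-haa) + a * had
  rcases mul_self_eq_one_iff.1 haa with e | e
  · left
    ext i j
    fin_cases i <;> fin_cases j <;> simp [← ha, ← hb, ← hc, ← hd, hb0, hc0, hda, e]
  · right
    ext i j
    fin_cases i <;> fin_cases j <;> simp [← ha, ← hb, ← hc, ← hd, hb0, hc0, hda, e]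

theorem two_order_iff (h2 : (2 : F) ≠ 0) (x : Grp F) : orderOf x = 2 ↔ x.right = -1 := by
  have hne : (-1 : SpecialLinearGroup (Fin 2) F) ≠ 1 := fun e => h2 (by
    have := congrFun (congrFun (congrArg Subtype.val e) 0) 0
    simp at this
    linear_combination -this)
  rw [orderOf_eq_prime_iff, sq]
  constructor
  · rintro ⟨hx, hx1⟩
    have hr : x.right * x.right = 1 := congrArg SemidirectProduct.right hx
    rcases sq_eq_one h2 hr with e | e
    · exfalso
      have hl : x.left * act F x.right x.left = 1 := congrArg SemidirectProduct.left hx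
      rw [e, map_one, MulAut.one_apply] at hl
      refine hx1 (SemidirectProduct.ext ?_ e)
      refine Multiplicative.toAdd.injective ?_
      have h0 : x.left.toAdd + x.left.toAdd = 0 := congrArg Multiplicative.toAdd hl
      funext i
      have h1 : x.left.toAdd i + x.left.toAdd i = 0 := congrFun h0 i
      exact (mul_eq_zero.1 (show (2 : F) * x.left.toAdd i = 0 by linear_combination h1)).resolve_left h2
    · exact e
  · intro e
    refine ⟨SemidirectProduct.ext ?_ ?_, fun h1 => hne ?_⟩
    · show x.left * act F x.right x.left = 1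
      rw [e, act_neg_one, mul_inv_cancel]
    · show x.right * x.right = 1
      rw [e]
      exact Subtype.ext (by simp)
    · rw [← e, h1]; rfl

theorem card_involutions (h2 : (2 : F) ≠ 0) :
    Nat.card {x : Grp F // orderOf x = 2} = Nat.card (Fin 2 → F) :=
  Nat.card_congr
    { toFun := fun x => x.1.left.toAdd
      invFun := fun v => ⟨⟨Multiplicative.ofAdd v, -1⟩, (two_order_iff h2 _).2 rfl⟩
      left_inv := fun x => Subtype.ext (SemidirectProduct.ext rfl ((two_order_iff h2 _).1 x.2).symm)
      right_inv := fun v => rfl }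

theorem involutions_conj (h2 : (2 : F) ≠ 0) (x y : Grp F) (hx : orderOf x = 2) (hy : orderOf y = 2) :
    ∃ g : Grp F, g * x * g⁻¹ = y := by
  have hxr := (two_order_iff h2 x).1 hx
  have hyr := (two_order_iff h2 y).1 hy
  set w : Multiplicative (Fin 2 → F) := Multiplicative.ofAdd ((2 : F)⁻¹ • (y.left.toAdd - x.left.toAdd)) with hw
  refine ⟨SemidirectProduct.inl w, SemidirectProduct.ext ?_ ?_⟩
  · simp only [SemidirectProduct.mul_left, SemidirectProduct.mul_right, SemidirectProduct.inv_left,
      SemidirectProduct.left_inl, SemidirectProduct.right_inl, map_one, MulAut.one_apply, one_mul, inv_one, hxr,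
      act_neg_one, inv_inv]
    refine Multiplicative.toAdd.injective (funext fun i => ?_)
    simp only [hw, toAdd_mul, toAdd_ofAdd, Pi.add_apply, Pi.smul_apply, Pi.sub_apply, smul_eq_mul]
    field_simp
    ring
  · simp [hxr, hyr]

theorem not_solvable [Fintype F] (h4 : 4 ≤ Fintype.card F) : ¬ Group.IsSolvable (Grp F) := fun h => by
  haveI := h
  haveI : Group.IsSolvable (SpecialLinearGroup (Fin 2) F) :=
    solvable_of_surjective (f := (SemidirectProduct.rightHom : Grp F →* _)) SemidirectProduct.rightHom_surjective
  haveI : Nontrivial (SpecialLinearGroup (Fin 2) F) := ⟨⟨⟨!![1, 1; 0, 1], by simp [det_fin_two]⟩, 1, fun e => by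
    have := congrFun (congrFun (congrArg Subtype.val e) 0) 1
    simp at this⟩⟩
  exact (Group.IsSolvable.commutator_lt_top_of_nontrivial _).ne (Cfsg.Lib.Known.sl2_commutator_eq_top F h4)

end Cfsg.Lib.Pyramidal.Example
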