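import Cfsg.Agent.Pyramidal.Eight

/-!
# No anisotropic quadratic map equivariant for all automorphisms of a group of order eight
-/

set_option autoImplicit false
set_option linter.style.haveILetI false
set_option linter.unusedSectionVars false

set_option maxRecDepth 100000
set_option maxHeartbeats 4000000
set_option synthInstance.maxSize 4000
set_option synthInstance.maxHeartbeats 400000

namespace Cfsg.Lib.Pyramidal

open Eight Subgroup

theorem three_neg_ne : (3 : ZMod 7) * (-1) ≠ 0 := by decide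

variable {V : Type*} [CommGroup V] [Finite V]

/-- The polar form. -/
def polar (q : V → W) (v w : V) : W := q (v * w) * q v * q w

/-- The data coming from a 2-group with commutator subgroup of order eight. -/
structure Quad (χ : MulAut W →* MulAut V) (q : V → W) : Prop where
  sqV : ∀ v : V, v * v = 1
  card : Nat.card V = 8 ∨ Nat.card V = 64
  q1 : q 1 = 1
  aniso : ∀ v, q v = 1 → v = 1
  equiv : ∀ x v, q (χ x v) = x (q v)
  bilin : ∀ v v' w, polar q (v * v') w = polar q v w * polar q v' w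
  rad : ∀ v, (∀ w, polar q v w = 1) → v = 1

namespace Quad

variable {χ : MulAut W →* MulAut V} {q : V → W} (h : Quad χ q)
include h

theorem eqV {a b : V} (e : a * b = 1) : a = b := by
  rw [mul_eq_one_iff_eq_inv] at e; rw [e, inv_eq_of_mul_eq_one_left (h.sqV b)]

theorem polar_comm (v w : V) : polar q v w = polar q w v := by
  rw [polar, polar, mul_comm v w, mul_assoc, mul_assoc, mul_comm (q v) (q w)]

theorem q_mul (v w : V) : q (v * w) = q v * q w * polar q v w := by
  have : ∀ a b c : W, c = a * b * (c * a * b) := by decide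
  exact this _ _ _

theorem polar_one (w : V) : polar q 1 w = 1 := by rw [polar, one_mul, h.q1, mul_one, Eight.sq]

theorem polar_self (v : V) : polar q v v = 1 := by rw [polar, h.sqV, h.q1, one_mul, Eight.sq]

theorem polar_equiv (x : MulAut W) (v w : V) : polar q (χ x v) (χ x w) = x (polar q v w) := by
  rw [polar, polar, ← map_mul (χ x), h.equiv, h.equiv, h.equiv, map_mul x, map_mul x]

theorem chi_mul (x y : MulAut W) (v : V) : χ (x * y) v = χ x (χ y v) := by rw [map_mul]; rfl

theorem q_fixed {x : MulAut W} {v : V} (hv : χ x v = v) : x (q v) = q v := by rw [← h.equiv, hv]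

theorem exists_u_fixed : ∃ c : V, c ≠ 1 ∧ χ u c = c := by
  by_contra hno
  push Not at hno
  have hN : ∀ v : V, v * χ u v * χ (u * u) v = 1 := by
    intro v
    by_contra hne
    refine hno _ hne ?_
    have hu3 : χ u (χ (u * u) v) = v := by
      rw [← h.chi_mul, show u * (u * u) = 1 by rw [← mul_assoc, ← u_cube, pow_succ, pow_succ, pow_one], map_one]
      rfl
    rw [map_mul (χ u), map_mul (χ u), hu3, ← h.chi_mul u u, mul_comm _ v, mul_assoc]
  obtain ⟨v, hv⟩ : ∃ v : V, v ≠ 1 := by
    haveI : Nontrivial V := Finite.one_lt_card_iff_nontrivial.1 (by rcases h.card with e | e <;> omega)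
    exact exists_ne 1
  haveI : Fact (Nat.Prime 7) := ⟨by norm_num⟩
  let τ : ZMod 7 → MulAut W := fun k => σ ^ k.val
  have τadd : ∀ a b, τ (a + b) = τ a * τ b := fun a b => by
    simp only [τ, ← pow_add, ZMod.val_add]
    exact (pow_eq_pow_mod (M := MulAut W) _ σ_seven).symm
  have orbit : ∀ w : V, ∏ k : ZMod 7, χ (τ k) w = 1 := by
    intro w
    refine h.aniso _ (σ_fix _ (h.q_fixed (x := σ) ?_))
    rw [map_prod]
    refine Fintype.prod_equiv (Equiv.addLeft (1 : ZMod 7)) _ _ fun k => ?_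
    show χ σ (χ (τ k) w) = χ (τ (1 + k)) w
    rw [τadd, h.chi_mul]
    congr 2
  -- conjugates of `u`
  have hu : ∀ n : ℕ, u * σ ^ n = σ ^ (2 * n) * u := by
    intro n
    induction n with
    | zero => simp
    | succ n ih => rw [pow_succ, ← mul_assoc, ih, mul_assoc, u_σ, ← mul_assoc, ← pow_add]; rfl
  have huu : ∀ n : ℕ, u * u * σ ^ n = σ ^ (4 * n) * (u * u) := by
    intro n
    rw [mul_assoc, hu, ← mul_assoc, hu, mul_assoc, show 2 * (2 * n) = 4 * n by ring]
  have τmul : ∀ (c : ℕ) (k : ZMod 7), σ ^ (c * k.val) = τ ((c : ZMod 7) * k) := by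
    intro c k
    simp only [τ, ZMod.val_mul, ZMod.val_natCast, Nat.mul_mod_mod, Nat.mod_mul_mod]
    exact pow_eq_pow_mod (M := MulAut W) _ σ_seven
  have hterm : ∀ k : ZMod 7, v * χ (τ (-k)) (χ u v) * χ (τ ((3 : ZMod 7) * (-1) * k)) (χ (u * u) v) = 1 := by
    intro k
    have e1 : τ (-k) * u = τ k * u * τ (-k) := by
      conv_rhs => rw [show τ (-k) = σ ^ (-k).val from rfl, mul_assoc, hu, τmul, ← mul_assoc, ← τadd,
        show k + ((2 : ℕ) : ZMod 7) * -k = -k by push_cast; ring]
    have e2 : τ ((3 : ZMod 7) * (-1) * k) * (u * u) = τ k * (u * u) * τ (-k) := by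
      conv_rhs => rw [show τ (-k) = σ ^ (-k).val from rfl, mul_assoc, huu, τmul, ← mul_assoc, ← τadd,
        show k + ((4 : ℕ) : ZMod 7) * -k = (3 : ZMod 7) * (-1) * k by push_cast; ring]
    have p1 : χ (τ k) (χ (τ (-k)) v) = v := by
      rw [← h.chi_mul, ← τadd, add_neg_cancel, show τ 0 = 1 by simp [τ], map_one]; rfl
    have p2 : χ (τ k) (χ u (χ (τ (-k)) v)) = χ (τ (-k)) (χ u v) := by
      rw [← h.chi_mul, ← h.chi_mul, ← h.chi_mul, e1, mul_assoc]
    have p3 : χ (τ k) (χ (u * u) (χ (τ (-k)) v)) = χ (τ ((3 : ZMod 7) * (-1) * k)) (χ (u * u) v) := by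
      rw [← h.chi_mul, ← h.chi_mul, ← h.chi_mul, e2, ← mul_assoc]
    have := congrArg (χ (τ k)) (hN (χ (τ (-k)) v))
    rwa [map_mul (χ (τ k)), map_mul (χ (τ k)), map_one (χ (τ k)), p1, p2, p3] at this
  have key := Finset.prod_congr rfl (fun k (_ : k ∈ (Finset.univ : Finset (ZMod 7))) => hterm k)
  rw [Finset.prod_mul_distrib, Finset.prod_mul_distrib, Finset.prod_const_one, Finset.prod_const,
    Finset.card_univ, ZMod.card] at key
  rw [Fintype.prod_equiv (Equiv.neg (ZMod 7)) (fun k => χ (τ (-k)) (χ u v)) (fun k => χ (τ k) (χ u v))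
      (fun k => rfl), orbit,
    Fintype.prod_equiv (Equiv.mulLeft₀ ((3 : ZMod 7) * (-1)) three_neg_ne)
      (fun k => χ (τ ((3 : ZMod 7) * (-1) * k)) (χ (u * u) v)) (fun k => χ (τ k) (χ (u * u) v))
      (fun k => rfl), orbit, mul_one, mul_one] at key
  refine hv ?_
  rw [show (7 : ℕ) = 1 + 2 * 3 from rfl, pow_add, pow_one, pow_mul, _root_.sq, h.sqV, one_pow, mul_one] at key
  exact key

/-- The fibre over `e 0`. -/
abbrev Fib (_ : Quad χ q) := {v : V // q v = e 0}

theorem card_fib : 7 * Nat.card h.Fib + 1 = Nat.card V := by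
  classical
  haveI := Fintype.ofFinite V
  let F : Option (Fin 7 × h.Fib) → V := fun o => o.elim 1 (fun p => χ (σ ^ (p.1 : ℕ)) p.2.1)
  have hne : ∀ n : Fin 7, ∀ v : h.Fib, χ (σ ^ (n : ℕ)) v.1 ≠ 1 := fun n v e => by
    have : v.1 = 1 := (χ (σ ^ (n : ℕ))).map_eq_one_iff.1 e
    have h2 := v.2
    rw [this, h.q1] at h2
    exact absurd h2 (by decide)
  have hinj : ∀ n m : Fin 7, (σ ^ (n : ℕ)) (e 0) = (σ ^ (m : ℕ)) (e 0) → n = m := by decide
  have hF : Function.Bijective F := by
    refine ⟨fun a b e => ?_, fun v => ?_⟩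
    · rcases a with _ | ⟨n, a⟩ <;> rcases b with _ | ⟨m, b⟩
      · rfl
      · exact absurd e.symm (hne m b)
      · exact absurd e (hne n a)
      · have e' : χ (σ ^ (n : ℕ)) a.1 = χ (σ ^ (m : ℕ)) b.1 := e
        have := congrArg q e'
        rw [h.equiv, h.equiv, a.2, b.2] at this
        obtain rfl := hinj n m this
        obtain rfl : a = b := Subtype.ext ((χ _).injective e')
        rfl
    · by_cases hv : v = 1
      · exact ⟨none, hv.symm⟩
      obtain ⟨n, hn⟩ := σ_orbit (e 0) (q v) (by decide) (fun e => hv (h.aniso _ e))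
      refine ⟨some (n, ⟨χ (σ ^ (n : ℕ))⁻¹ v, ?_⟩), ?_⟩
      · rw [h.equiv, ← hn, MulAut.inv_apply_self]
      · show χ (σ ^ (n : ℕ)) (χ (σ ^ (n : ℕ))⁻¹ v) = v
        rw [← h.chi_mul, mul_inv_cancel, map_one]; rfl
  rw [← Nat.card_eq_of_bijective F hF, Finite.card_option, Nat.card_prod, Nat.card_fin]

theorem root_of_fixed {v : V} (hv : v ≠ 1) {x y : MulAut W} (hxy : ∀ w, x w = w → y w = w → w = 1 ∨ w = e 0)
    (hx : χ x v = v) (hy : χ y v = v) : q v = e 0 :=
  (hxy _ (h.q_fixed hx) (h.q_fixed hy)).resolve_left fun e => hv (h.aniso _ e)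

theorem exists_root : ∃ a : V, q a = e 0 ∧ χ ta a = a ∧ χ tb a = a ∧ χ u a = a := by
  classical
  haveI := Fintype.ofFinite V
  by_contra hno
  push Not at hno
  obtain ⟨c₀, hc₀, hcu₀⟩ := h.exists_u_fixed
  have huF : ∀ {c}, c ≠ 1 → χ u c = c → q c = e 0 := fun hc hcu =>
    h.root_of_fixed hc (fun w hw _ => u_fix w hw) hcu hcu
  -- the fibre has nine elements
  have hcf := h.card_fib
  rcases h.card with hV | hV
  · have h1 : Nat.card h.Fib = 1 := by omega
    haveI := (Nat.card_eq_one_iff_unique.1 h1).1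
    have hfix : ∀ x, x (e 0) = e 0 → χ x c₀ = c₀ := fun x hx => by
      have hq : q (χ x c₀) = e 0 := by rw [h.equiv, huF hc₀ hcu₀, hx]
      exact congrArg Subtype.val (Subsingleton.elim (⟨χ x c₀, hq⟩ : h.Fib) ⟨c₀, huF hc₀ hcu₀⟩)
    exact hno c₀ (huF hc₀ hcu₀) (hfix ta ta_e) (hfix tb tb_e) hcu₀
  have h9 : Nat.card h.Fib = 9 := by omega
  -- a second fixed point of `u` in the fibre
  obtain ⟨c₁, hc₁, hc₁u, hne⟩ : ∃ c₁, c₁ ≠ 1 ∧ χ u c₁ = c₁ ∧ c₁ ≠ c₀ := by
    by_contra hno'
    push Not at hno'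
    haveI := Fact.mk Nat.prime_three
    let π : Equiv.Perm h.Fib :=
      { toFun := fun v => ⟨χ u v.1, by rw [h.equiv, v.2, u_e]⟩
        invFun := fun v => ⟨χ (u * u) v.1, by rw [h.equiv, v.2, MulAut.mul_apply, u_e, u_e]⟩
        left_inv := fun v => Subtype.ext (by
          show χ (u * u) (χ u v.1) = v.1
          rw [← h.chi_mul, show u * u * u = 1 by rw [← u_cube, pow_succ, pow_succ, pow_one], map_one]; rfl)
        right_inv := fun v => Subtype.ext (by
          show χ u (χ (u * u) v.1) = v.1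
          rw [← h.chi_mul, show u * (u * u) = 1 by rw [← u_cube, pow_succ, pow_succ, pow_one, mul_assoc],
            map_one]; rfl) }
    obtain ⟨b, hb1, hb2⟩ := Equiv.Perm.exists_fixed_point_of_prime' (p := 3) (n := 1) (σ := π)
      (by rw [Nat.card_eq_fintype_card] at h9; rw [h9]; norm_num)
      (Equiv.ext fun v => Subtype.ext (by
        show χ u (χ u (χ u v.1)) = v.1
        rw [← h.chi_mul, ← h.chi_mul, show u * u * u = 1 by rw [← u_cube, pow_succ, pow_succ, pow_one], map_one]
        rfl))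
      (a := ⟨c₀, huF hc₀ hcu₀⟩) (Subtype.ext hcu₀)
    refine hb2 (Subtype.ext (hno' b.1 ?_ (congrArg Subtype.val hb1)))
    intro e
    have := b.2
    rw [e, h.q1] at this
    exact absurd this (by decide)
  set c₂ := c₀ * c₁ with hc₂
  have hc₂u : χ u c₂ = c₂ := by rw [hc₂, map_mul (χ u), hcu₀, hc₁u]
  have hc₂1 : c₂ ≠ 1 := fun e => hne (h.eqV e).symm
  let C : Fin 3 → V := ![c₀, c₁, c₂]
  have hC : ∀ i, C i ≠ 1 ∧ χ u (C i) = C i := by
    intro i; fin_cases i
    exacts [⟨hc₀, hcu₀⟩, ⟨hc₁, hc₁u⟩, ⟨hc₂1, hc₂u⟩]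
  have hCinj : Function.Injective C := by
    have e02 : c₀ ≠ c₂ := fun e => hc₁ (mul_left_cancel (a := c₀) (by rw [← hc₂, ← e, mul_one]))
    have e12 : c₁ ≠ c₂ := fun e => hc₀ (mul_right_cancel (b := c₁) (by rw [← hc₂, ← e, one_mul]))
    intro i i' e
    fin_cases i <;> fin_cases i' <;> simp_all [C, Ne.symm hne]
  let E : Fin 2 × Fin 2 → MulAut W := fun p => ta ^ (p.1 : ℕ) * tb ^ (p.2 : ℕ)
  have hfix : ∀ c, c ≠ 1 → χ u c = c → ∀ p, p ≠ (0, 0) → χ (E p) c ≠ c := by
    intro c hc hcu p hp e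
    have uconj : ∀ {x y : MulAut W}, u * x = y * u → χ x c = c → χ y c = c := fun {x y} hxy hx => by
      have := congrArg (fun z => χ z c) hxy
      simp only [h.chi_mul, hx, hcu] at this
      exact this.symm
    have htb : χ tb c = c → False := fun ht => hno c (huF hc hcu) (uconj u_tb ht) ht hcu
    have hta : χ ta c = c → False := fun ht => by
      have h2 : χ (ta * tb) c = c := uconj u_ta ht
      refine htb ?_
      rw [h.chi_mul] at h2
      have h3 := congrArg (χ ta) h2
      rwa [← h.chi_mul ta ta, ta_sq, map_one, MulAut.one_apply, ht] at h3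
    obtain ⟨a, b⟩ := p
    fin_cases a <;> fin_cases b
    · exact hp rfl
    · exact htb (by simpa [E] using e)
    · exact hta (by simpa [E] using e)
    · have e' : χ (ta * tb) c = c := by simpa [E] using e
      refine htb (uconj (x := ta * tb) ?_ e')
      rw [← mul_assoc, u_ta, mul_assoc, u_tb, ta_tb, mul_assoc, ← mul_assoc ta, ta_sq, one_mul]
  have hFib : ∀ i p, q (χ (E p) (C i)) = e 0 := fun i p => by
    rw [h.equiv, huF (hC i).1 (hC i).2]
    have : ∀ a b : Fin 2, (ta ^ (a : ℕ) * tb ^ (b : ℕ)) (e 0) = e 0 := by decide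
    exact this _ _
  let G : Fin 3 × (Fin 2 × Fin 2) → h.Fib := fun x => ⟨χ (E x.2) (C x.1), hFib _ _⟩
  have hG : Function.Injective G := by
    rintro ⟨i, p⟩ ⟨i', p'⟩ e
    have e' : χ (E p) (C i) = χ (E p') (C i') := congrArg Subtype.val e
    have hEE : ∀ a b : Fin 2 × Fin 2, E a * E b = E (a.1 + b.1, a.2 + b.2) := by
      rintro ⟨a, b⟩ ⟨a', b'⟩
      have key : ∀ a b a' b' : Fin 2, ∀ k : Fin 3,
          (ta ^ (a : ℕ) * tb ^ (b : ℕ) * (ta ^ (a' : ℕ) * tb ^ (b' : ℕ))) (Eight.e k) =
            (ta ^ ((a + a' : Fin 2) : ℕ) * tb ^ ((b + b' : Fin 2) : ℕ)) (Eight.e k) := by decide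
      exact aut_ext (key a b a' b' 0) (key a b a' b' 1) (key a b a' b' 2)
    set d := (p'.1 + p.1, p'.2 + p.2)
    have ed : χ (E d) (C i) = C i' := by
      rw [← hEE, h.chi_mul, e', ← h.chi_mul, hEE,
        show (p'.1 + p'.1, p'.2 + p'.2) = ((0, 0) : Fin 2 × Fin 2) by
          have : ∀ a : Fin 2, a + a = 0 := by decide
          simp [this]]
      simp [E]
    by_cases hd : d = (0, 0)
    · rw [hd] at ed
      have hii : C i = C i' := by simpa [E] using ed
      obtain rfl := hCinj hii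
      have hpp : p = p' := by
        have : ∀ a b : Fin 2, b + a = 0 → a = b := by decide
        exact Prod.ext (this _ _ (congrArg Prod.fst hd)) (this _ _ (congrArg Prod.snd hd))
      rw [hpp]
    · exfalso
      -- conjugate the connecting elation by `u`
      obtain ⟨d', hd', hne'⟩ : ∃ d', u * E d = E d' * u ∧ (d.1 + d'.1, d.2 + d'.2) ≠ ((0, 0) : Fin 2 × Fin 2) := by
        obtain ⟨a, b⟩ := d
        fin_cases a <;> fin_cases b
        · exact absurd rfl hd
        · exact ⟨(1, 0), by simpa [E] using u_tb, by decide⟩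
        · exact ⟨(1, 1), by simpa [E] using u_ta, by decide⟩
        · refine ⟨(0, 1), ?_, by decide⟩
          have : u * (ta * tb) = tb * u := by
            rw [← mul_assoc, u_ta, mul_assoc, u_tb, ta_tb, mul_assoc, ← mul_assoc ta, ta_sq, one_mul]
          simpa [E] using this
      have h1 : χ (E d') (C i) = C i' := by
        have := congrArg (fun z => χ z (C i)) hd'
        simp only [h.chi_mul, (hC i).2, ed, (hC i').2] at this
        exact this.symm
      refine hfix (C i) (hC i).1 (hC i).2 _ hne' ?_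
      rw [← hEE, h.chi_mul, h1, ← ed, ← h.chi_mul, hEE,
        show (d.1 + d.1, d.2 + d.2) = ((0, 0) : Fin 2 × Fin 2) by
          have : ∀ a : Fin 2, a + a = 0 := by decide
          simp [this]]
      simp [E]
  have := Nat.card_le_card_of_injective G hG
  rw [h9, Nat.card_prod, Nat.card_prod, Nat.card_fin, Nat.card_fin] at this
  omega

theorem exists_section : ∃ s : W → V, (∀ α, q (s α) = α) ∧ ∀ (x : MulAut W) α, χ x (s α) = s (x α) := by
  classical
  obtain ⟨a, ha, haa, hab, hau⟩ := h.exists_root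
  -- a root fixed by the whole stabiliser
  obtain ⟨b, hb, hba, hbb, hbu, hbj⟩ : ∃ b, q b = e 0 ∧ χ ta b = b ∧ χ tb b = b ∧ χ u b = b ∧ χ j b = b := by
    by_cases hj : χ j a = a
    · exact ⟨a, ha, haa, hab, hau, hj⟩
    have conj : ∀ {x y : MulAut W}, j * x = y * j → χ x a = a → χ y (χ j a) = χ j a := fun {x y} hxy hx => by
      have := congrArg (fun z => χ z a) hxy
      simp only [h.chi_mul, hx] at this
      exact this.symm
    have hjb : χ tb (χ j a) = χ j a := conj j_ta haa
    have hja : χ ta (χ j a) = χ j a := conj (x := tb) (y := ta) (by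
      have := j_ta
      calc j * tb = j * (tb * j) * j := by rw [mul_assoc, mul_assoc, j_sq, mul_one]
        _ = j * (j * ta) * j := by rw [this]
        _ = ta * j := by rw [← mul_assoc j j, j_sq, one_mul]) hab
    have hju2 : χ (u ^ 2) (χ j a) = χ j a := conj j_u hau
    have hju : χ u (χ j a) = χ j a := by
      have h4 : χ (u ^ 2 * u ^ 2) (χ j a) = χ j a := by rw [h.chi_mul, hju2, hju2]
      rwa [show u ^ 2 * u ^ 2 = u by rw [← pow_add, pow_succ, show 2 + 1 = 3 from rfl, u_cube, one_mul]] at h4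
    have hne : a * χ j a ≠ 1 := fun e => hj (h.eqV e).symm
    refine ⟨a * χ j a, ?_, ?_, ?_, ?_, ?_⟩
    · exact h.root_of_fixed hne (fun w h1 h2 => V4_fix w h1 h2)
        (by rw [map_mul (χ ta), haa, hja]) (by rw [map_mul (χ tb), hab, hjb])
    · rw [map_mul (χ ta), haa, hja]
    · rw [map_mul (χ tb), hab, hjb]
    · rw [map_mul (χ u), hau, hju]
    · rw [map_mul (χ j), ← h.chi_mul, j_sq, map_one, MulAut.one_apply, mul_comm]
  have hpow : ∀ (y : MulAut W) (v : V), χ y v = v → ∀ n : ℕ, χ (y ^ n) v = v := fun y v hy n => by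
    induction n with
    | zero => simp
    | succ n ih => rw [pow_succ, h.chi_mul, hy, ih]
  have hstab : ∀ x : MulAut W, x (e 0) = e 0 → χ x b = b := fun x hx => by
    obtain ⟨k, l, m, n, rfl⟩ := stab_word x hx
    simp only [h.chi_mul, hpow _ _ hba, hpow _ _ hbb, hpow _ _ hbu, hpow _ _ hbj]
  have hex : ∀ α : W, α ≠ 1 → ∃ x : MulAut W, x (e 0) = α := by
    intro α hα
    obtain ⟨n, hn⟩ := σ_orbit (e 0) α (by decide) hα
    exact ⟨σ ^ (n : ℕ), hn⟩
  refine ⟨fun α => if hα : α = 1 then 1 else χ (hex α hα).choose b, fun α => ?_, fun x α => ?_⟩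
  · by_cases hα : α = 1
    · simp [hα, h.q1]
    · simp only [dif_neg hα]
      rw [h.equiv, hb, (hex α hα).choose_spec]
  · by_cases hα : α = 1
    · simp [hα]
    · have hxα : x α ≠ 1 := fun e => hα (x.map_eq_one_iff.1 e)
      simp only [dif_neg hα, dif_neg hxα]
      set y := (hex α hα).choose with hy
      set z := (hex (x α) hxα).choose with hz
      have hy' : y (e 0) = α := (hex α hα).choose_spec
      have hz' : z (e 0) = x α := (hex (x α) hxα).choose_spec
      have := hstab (z⁻¹ * (x * y)) (by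
        rw [MulAut.mul_apply, MulAut.mul_apply, hy', ← hz', MulAut.inv_apply_self])
      rw [h.chi_mul, h.chi_mul] at this
      have := congrArg (χ z) this
      rwa [← h.chi_mul z, mul_inv_cancel, map_one, MulAut.one_apply] at this

theorem false : False := by
  classical
  haveI := Fintype.ofFinite V
  obtain ⟨s, hqs, hs⟩ := h.exists_section
  have hinj : Function.Injective s := fun a b e => by rw [← hqs a, e, hqs b]
  have pair : ∀ α β : W, α ≠ 1 → β ≠ 1 → α ≠ β → polar q (s α) (s β) = 1 := by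
    intro α β hα hβ hab
    obtain ⟨x, hx0, hx1⟩ := exists_map α β hα hβ hab
    rw [← hx0, ← hx1, ← hs, ← hs, h.polar_equiv]
    refine x.map_eq_one_iff.2 ?_
    have fixp : ∀ y : MulAut W, y (e 0) = e 0 → y (e 1) = e 1 →
        y (polar q (s (e 0)) (s (e 1))) = polar q (s (e 0)) (s (e 1)) := fun y h0 h1 => by
      rw [← h.polar_equiv, hs, hs, h0, h1]
    have hsw : sw (polar q (s (e 0)) (s (e 1))) = polar q (s (e 0)) (s (e 1)) := by
      rw [← h.polar_equiv, hs, hs, sw_e0, sw_e1, h.polar_comm]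
    rcases pair_fix _ (fixp tb tb_e tb_e1) (fixp tc tc_e0 tc_e1) hsw with e1 | e1
    · exact e1
    · exfalso
      have e2 : q (s (e 0) * s (e 1)) = 1 := by rw [h.q_mul, hqs, hqs, e1, Eight.sq]
      have := hinj (h.eqV (h.aniso _ e2))
      exact absurd this (by decide)
  have s1 : s 1 = 1 := h.aniso _ (hqs 1)
  have comm : ∀ α β, polar q (s α) (s β) = 1 := by
    intro α β
    by_cases hα : α = 1
    · rw [hα, s1, h.polar_one]
    by_cases hβ : β = 1
    · rw [hβ, s1, h.polar_comm, h.polar_one]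
    by_cases hab : α = β
    · rw [hab, h.polar_self]
    exact pair α β hα hβ hab
  have slin : ∀ α β, s (α * β) = s α * s β := by
    intro α β
    have e : q (s α * s β * s (α * β)) = 1 := by
      rw [h.q_mul, h.q_mul, h.bilin, comm, comm, comm, hqs, hqs, hqs]
      have : ∀ a b : W, a * b * 1 * (a * b) * (1 * 1) = 1 := by decide
      exact this α β
    exact (h.eqV (h.aniso _ e)).symm
  let S : W →* V := MonoidHom.mk' s slin
  set N := S.range with hN
  have hNcard : Nat.card N = 8 := by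
    rw [hN, ← card_W]; exact (Nat.card_congr (MonoidHom.ofInjective hinj).toEquiv).symm
  let b : W → V →* W := fun α => MonoidHom.mk' (fun m => polar q (s α) m) fun m m' => by
    rw [h.polar_comm, h.bilin, h.polar_comm, h.polar_comm m']
  have hbN : ∀ α m, m ∈ N → b α m = 1 := by
    rintro α _ ⟨β, rfl⟩; exact comm α β
  have hbadd : ∀ α β m, b (α * β) m = b α m * b β m := fun α β m => by
    show polar q (s (α * β)) m = _; rw [slin, h.bilin]; rfl
  have hbeq : ∀ (x : MulAut W) α m, b (x α) (χ x m) = x (b α m) := fun x α m => by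
    show polar q (s (x α)) (χ x m) = _; rw [← hs, h.polar_equiv]; rfl
  rcases h.card with hV | hV
  · have htop : N = ⊤ := Subgroup.eq_top_of_card_eq _ (by rw [hNcard, hV])
    have hse : s (e 0) = 1 := h.rad _ fun w => hbN (e 0) w (htop ▸ mem_top w)
    have := hinj (hse.trans s1.symm)
    exact absurd this (by decide)
  have hidx : N.index = 8 := by
    have := Subgroup.card_mul_index N
    rw [hNcard, hV] at this; omega
  have out : ∀ m, m ∉ N → ∃ α, α ≠ 1 ∧ b α m = α := by
    intro m hm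
    by_contra hno
    push Not at hno
    let ψ : W →* W := MonoidHom.mk' (fun α => α * b α m) fun α β => by
      rw [hbadd]; exact mul_mul_mul_comm _ _ _ _
    have hψ : Function.Injective ψ := (injective_iff_map_eq_one ψ).2 fun α hα => by
      by_contra hα1
      have : ∀ a c : W, a * c = 1 → c = a := by decide
      exact hno α hα1 (this _ _ hα)
    obtain ⟨α, hα⟩ := Finite.surjective_of_injective hψ (q m)
    refine hm ⟨α, ?_⟩
    refine (h.eqV (h.aniso _ ?_) : s α = m)
    rw [h.q_mul, hqs]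
    change α * b α m = q m at hα
    show α * q m * b α m = 1
    rw [mul_right_comm, hα, Eight.sq]
  have ranges : ∀ α, α ≠ 1 → (∀ m, b α m = 1 ∨ b α m = α) ∨ Function.Surjective (b α) := by
    intro α hα
    by_cases hsm : ∀ m, b α m = 1 ∨ b α m = α
    · exact Or.inl hsm
    push Not at hsm
    obtain ⟨m, hm1, hmα⟩ := hsm
    refine Or.inr fun γ => ?_
    have other : ∀ γ, γ ≠ 1 → γ ≠ α → γ ∈ (b α).range := fun γ hγ1 hγα => by
      obtain ⟨x, hx0, hx1⟩ := exists_map α (b α m) hα hm1 (Ne.symm hmα)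
      obtain ⟨y, hy0, hy1⟩ := exists_map α γ hα hγ1 (Ne.symm hγα)
      refine ⟨χ (y * x⁻¹) m, ?_⟩
      have hxα : (y * x⁻¹) α = α := by rw [MulAut.mul_apply, ← hx0, MulAut.inv_apply_self, hy0, hx0]
      have := hbeq (y * x⁻¹) α m
      rw [hxα] at this
      rw [this, MulAut.mul_apply, ← hx1, MulAut.inv_apply_self, hy1]
    by_cases hγ1 : γ = 1
    · exact ⟨1, by rw [hγ1, map_one]⟩
    by_cases hγα : γ = α
    · obtain ⟨β, hβ1, hβα, hγ⟩ : ∃ β, β ≠ 1 ∧ β ≠ α ∧ γ * β ≠ 1 ∧ γ * β ≠ α := by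
        have : ∀ a : W, a ≠ 1 → ∃ β, β ≠ 1 ∧ β ≠ a ∧ a * β ≠ 1 ∧ a * β ≠ a := by decide
        subst hγα; exact this _ hα
      have := mul_mem (other _ hγ.1 hγ.2) (other β hβ1 hβα)
      rwa [mul_assoc, Eight.sq, mul_one] at this
    exact other γ hγ1 hγα
  have trans : ∀ α β : W, α ≠ 1 → β ≠ 1 → ∃ x : MulAut W, x α = β := fun α β hα hβ => by
    obtain ⟨n, hn⟩ := σ_orbit α β hα hβ
    exact ⟨σ ^ (n : ℕ), hn⟩
  rcases ranges (e 0) (by decide) with hlow | hsur
  · have all : ∀ α m, b α m = 1 ∨ b α m = α := by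
      intro α m
      by_cases hα : α = 1
      · left
        show polar q (s α) m = 1
        rw [hα, s1, h.polar_one]
      obtain ⟨x, hx⟩ := trans (e 0) α (by decide) hα
      have := hbeq x (e 0) (χ x⁻¹ m)
      rw [← h.chi_mul, mul_inv_cancel, map_one, MulAut.one_apply, hx] at this
      rw [this]
      rcases hlow (χ x⁻¹ m) with e' | e'
      · left; rw [e', map_one]
      · right; rw [e', hx]
    have full : ∀ m, m ∉ N → ∀ β, b β m = β := by
      intro m hm β
      obtain ⟨α, hα, hbα⟩ := out m hm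
      have h2 := all (α * β) m
      rw [hbadd, hbα] at h2
      have key : ∀ a c d : W, a ≠ 1 → (d = 1 ∨ d = c) → (a * d = 1 ∨ a * d = a * c) → d = c := by decide
      exact key _ _ _ hα (all β m) h2
    obtain ⟨m₁, m₂, h1, h2, h12⟩ : ∃ m₁ m₂, m₁ ∉ N ∧ m₂ ∉ N ∧ m₁ * m₂ ∉ N := by
      by_contra hno
      push Not at hno
      obtain ⟨m, hm⟩ : ∃ m, m ∉ N := by
        by_contra hall
        push Not at hall
        rw [(eq_top_iff' N).2 hall, index_top] at hidx
        omega
      have : N.index = 2 := Subgroup.index_eq_two_iff.2 ⟨m, fun v => by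
        by_cases hv : v ∈ N
        · exact Or.inr ⟨hv, fun hvm => hm (by simpa using mul_mem (inv_mem hv) hvm)⟩
        · exact Or.inl ⟨by rw [mul_comm]; exact hno m v hm hv, hv⟩⟩
      omega
    have := full _ h12 (e 0)
    rw [map_mul, full _ h1, full _ h2, Eight.sq] at this
    exact absurd this (by decide)
  · have sur : ∀ α, α ≠ 1 → ∀ m, b α m = 1 → m ∈ N := by
      intro α hα
      have hs' : Function.Surjective (b α) := by
        intro γ
        obtain ⟨x, hx⟩ := trans (e 0) α (by decide) hα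
        obtain ⟨m, hm⟩ := hsur (x⁻¹ γ)
        exact ⟨χ x m, by rw [← hx, hbeq, hm, MulAut.apply_inv_self]⟩
      have hk : N = (b α).ker := by
        refine eq_of_le_of_card_ge (fun m hm => hbN α m hm) (le_of_eq ?_)
        have h1 := Subgroup.card_mul_index (b α).ker
        rw [Subgroup.index_ker, MonoidHom.range_eq_top.2 hs', Subgroup.card_top, card_W, hV] at h1
        omega
      intro m hm; rw [hk]; exact hm
    obtain ⟨m, hm⟩ := hsur (e 0)
    have hmN : m ∉ N := fun e' => absurd ((hbN _ _ e').symm.trans hm) (by decide)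
    let ψ : W →* W := MonoidHom.mk' (fun β => b β m) fun α β => hbadd α β m
    have hψ : Function.Injective ψ := (injective_iff_map_eq_one ψ).2 fun β hβ => by
      by_contra hne
      exact hmN (sur β hne m hβ)
    have eqv : ∀ y : MulAut W, y (e 0) = e 0 → ∀ β, ψ (y β) = y (ψ β) := by
      intro y hy β
      show b (y β) m = y (b β m)
      rw [← hbeq y β m]
      have hdiff : χ y m * m ∈ N := sur (e 0) (by decide) _ (by
        rw [map_mul, hm]
        have := hbeq y (e 0) m
        rw [hy, hm, hy] at this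
        rw [this, Eight.sq])
      have h1 := hbN (y β) _ hdiff
      rw [map_mul] at h1
      have : ∀ a c : W, a * c = 1 → c = a := by decide
      exact this _ _ h1
    have hψ0 : ψ (e 0) = e 0 := hm
    have f1 : tb (ψ (e 1)) = ψ (e 1) := by rw [← eqv tb tb_e, tb_e1]
    have f2 : tc (ψ (e 1)) = ψ (e 1) := by rw [← eqv tc tc_e0, tc_e1]
    have n0 : ψ (e 1) ≠ 1 := fun e' => absurd (hψ (e'.trans (map_one ψ).symm)) (by decide)
    have n1 : ψ (e 1) ≠ e 0 := fun e' => absurd (hψ (e'.trans hψ0.symm)) (by decide)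
    have cases1 : ∀ v : W, tb v = v → tc v = v → v = 1 ∨ v = e 0 ∨ v = e 1 ∨ v = e 0 * e 1 := by decide
    have je1 : j (e 1) = e 2 := by decide
    have hψ2 : ψ (e 2) = j (ψ (e 1)) := by rw [← eqv j j_e, je1]
    have hψ1 : ψ (e 1) = e 1 := by
      rcases cases1 _ f1 f2 with e' | e' | e' | e'
      · exact absurd e' n0
      · exact absurd e' n1
      · exact e'
      · exfalso
        have ue2 : u (e 2) = e 1 * e 2 := by decide
        have h12 : ψ (e 1 * e 2) = u (ψ (e 2)) := by rw [← eqv u u_e, ue2]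
        rw [map_mul, hψ2, e'] at h12
        exact absurd h12 (by decide)
    have hid : ∀ β, b β m = β := by
      intro β
      obtain ⟨r, t, w, rfl⟩ := three_cases β
      show ψ _ = _
      rw [map_mul, map_mul, map_pow, map_pow, map_pow, hψ0, hψ1, hψ2, hψ1, je1]
    have hsub : ∀ m', m' ∉ N → m' * m ∈ N := fun m' hm' => by
      obtain ⟨α, hα, hbα⟩ := out m' hm'
      exact sur α hα _ (by rw [map_mul, hbα, hid, Eight.sq])
    have : N.index = 2 := Subgroup.index_eq_two_iff.2 ⟨m, fun v => by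
      by_cases hv : v ∈ N
      · exact Or.inr ⟨hv, fun hvm => hmN (by simpa using mul_mem (inv_mem hv) hvm)⟩
      · exact Or.inl ⟨hsub v hv, hv⟩⟩
    omega

end Quad

end Cfsg.Lib.Pyramidal
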