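import Cfsg.Agent.Pyramidal.Lift
import Cfsg.Agent.Pyramidal.Quad
import Cfsg.Agent.CoprimeLie.Nilpotent
import Cfsg.Agent.S1137
import Cfsg.Agent.S1138

/-!
# The case of eight: every automorphism is induced
-/

set_option autoImplicit false
set_option linter.style.haveILetI false
set_option linter.unusedSectionVars false
set_option maxHeartbeats 2000000
set_option maxRecDepth 100000
set_option synthInstance.maxSize 4000

namespace Cfsg.Lib.Pyramidal

open Subgroup Eight

universe u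

theorem h_sq_e2 : (Eight.h ^ 2) (Eight.e 2) ≠ Eight.e 2 := by decide

theorem e_zero_ne_one : Eight.e 0 ≠ Eight.e 1 := by decide

theorem e_one_ne : Eight.e 1 ≠ (1 : W) := by decide

theorem j_ne : Eight.j ≠ 1 := fun h => absurd (DFunLike.congr_fun h (Eight.e 1)) (by decide)

theorem σ_regular : ∀ v : W, v ≠ 1 → ∀ r r' : Fin 7, (σ ^ (r : ℕ)) v = (σ ^ (r' : ℕ)) v → r = r' := by decide

theorem mul_cancel_two : ∀ a b c : W, a * b * c * a * b = c := by decide

theorem zmod_two_val (r s : ZMod 2) : ∃ j : ℕ, r.val + s.val = (r + s).val + 2 * j :=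
  ⟨r.val * s.val, by revert r s; decide⟩

theorem e_zero_ne : Eight.e 0 ≠ (1 : W) := by decide

/-- A minimal group inducing all automorphisms of its subgroup of order eight. -/
structure MinEight (G : Type u) [Group G] (A : Subgroup G) (e : A ≃* W) (Φ : G →* MulAut W) : Prop where
  surj : Function.Surjective Φ
  compat : ∀ (g : G) (a b : A), (b : G) = g * a * g⁻¹ → e b = Φ g (e a)
  invol : ∀ x : G, x * x = 1 → x ∈ A
  minimal : ∀ K : Subgroup G, K ≠ ⊤ → K.map Φ ≠ ⊤

variable {G : Type u} [Group G] [Finite G] {A : Subgroup G} {e : A ≃* W} {Φ : G →* MulAut W}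

namespace MinEight

variable (h : MinEight G A e Φ)
include h

theorem sqA (a : A) : a * a = 1 := e.injective (by rw [map_mul, map_one, Eight.sq])

theorem A_le_ker : A ≤ Φ.ker := fun a ha => by
  refine MulEquiv.ext fun w => ?_
  obtain ⟨b, rfl⟩ := e.surjective w
  refine (h.compat a b b ?_).symm
  rw [eq_mul_inv_iff_mul_eq]
  exact congrArg Subtype.val (comm_of_sq h.sqA b ⟨a, ha⟩)

theorem ker_nilpotent : Group.IsNilpotent Φ.ker := by
  have hle : Φ.ker ≤ frattini G := by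
    simp only [frattini, Order.radical, le_iInf_iff]
    intro K hK
    by_contra hle
    have htop : K ⊔ Φ.ker = ⊤ := hK.2 _ (left_lt_sup.2 hle)
    refine h.minimal K hK.1 ?_
    have hm : K.map Φ = (K ⊔ Φ.ker).map Φ := by
      rw [Subgroup.map_sup, (Subgroup.map_eq_bot_iff _).2 le_rfl, sup_bot_eq]
    rw [hm, htop, Subgroup.map_top_of_surjective _ h.surj]
  haveI := frattini_nilpotent (G := G)
  exact Group.nilpotent_of_mulEquiv (subgroupOfEquivOfLe hle)

/-- The kernel has a Sylow 2-subgroup, normal in `G`, centralised by the elements of odd order. -/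
theorem exists_core : ∃ T : Subgroup G, T.Normal ∧ IsPGroup 2 T ∧ A ≤ T ∧ T ≤ Φ.ker ∧
    (∀ x ∈ Φ.ker, (∃ j : ℕ, x ^ 2 ^ j = 1) → x ∈ T) ∧
    (∀ x ∈ Φ.ker, Odd (orderOf x) → ∀ t ∈ T, x * t = t * x) := by
  haveI := Fact.mk Nat.prime_two
  haveI := h.ker_nilpotent
  obtain ⟨P⟩ : Nonempty (Sylow 2 Φ.ker) := inferInstance
  have hPn : (P : Subgroup Φ.ker).Normal := by
    have hsyl := ((Group.isNilpotent_of_finite_tfae (G := Φ.ker)).out 0 3).1 h.ker_nilpotent
    exact hsyl 2 ⟨Nat.prime_two⟩ P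
  have hall : ∀ x : Φ.ker, (∃ j : ℕ, x ^ 2 ^ j = 1) → x ∈ (P : Subgroup Φ.ker) := by
    rintro x ⟨j, hj⟩
    obtain ⟨i, -, hi⟩ := (Nat.dvd_prime_pow Nat.prime_two).1 (orderOf_dvd_of_pow_eq_one hj)
    haveI := hPn
    obtain ⟨Q, hQ⟩ :=
      (IsPGroup.of_card (n := i) (show Nat.card (zpowers x) = 2 ^ i by rw [Nat.card_zpowers, hi])).exists_le_sylow
    haveI := Sylow.unique_of_normal P hPn
    rw [Subsingleton.elim P Q]
    exact hQ (mem_zpowers x)
  set T := (P : Subgroup Φ.ker).map Φ.ker.subtype with hT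
  have hchar : ∀ x ∈ Φ.ker, (∃ j : ℕ, x ^ 2 ^ j = 1) → x ∈ T := fun x hx ⟨j, hj⟩ =>
    ⟨⟨x, hx⟩, hall _ ⟨j, Subtype.ext (by simpa using hj)⟩, rfl⟩
  have htwo : ∀ x ∈ T, ∃ j : ℕ, x ^ 2 ^ j = 1 := by
    rintro _ ⟨y, hy, rfl⟩
    obtain ⟨j, hj⟩ := P.2 ⟨y, hy⟩
    exact ⟨j, congrArg (fun z : (P : Subgroup Φ.ker) => ((z : Φ.ker) : G)) hj⟩
  refine ⟨T, ⟨fun x hx g => ?_⟩, P.2.map _, fun a ha => hchar a (h.A_le_ker ha)
    ⟨1, by rw [pow_one, _root_.sq]; exact congrArg Subtype.val (h.sqA ⟨a, ha⟩)⟩, map_subtype_le _, hchar, ?_⟩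
  · obtain ⟨j, hj⟩ := htwo x hx
    refine hchar _ (Subgroup.Normal.conj_mem inferInstance x (map_subtype_le _ hx) g) ⟨j, ?_⟩
    rw [conj_pow, hj, mul_one, mul_inv_cancel]
  · intro x hx ho t ht
    obtain ⟨j, hj⟩ := htwo t ht
    have hc : (orderOf (⟨x, hx⟩ : Φ.ker)).Coprime (orderOf (⟨t, map_subtype_le _ ht⟩ : Φ.ker)) := by
      rw [Subgroup.orderOf_mk, Subgroup.orderOf_mk]
      obtain ⟨i, -, hi⟩ := (Nat.dvd_prime_pow Nat.prime_two).1 (orderOf_dvd_of_pow_eq_one hj)
      rw [hi]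
      exact (Nat.coprime_two_right.2 ho).pow_right _
    exact congrArg Subtype.val (Cfsg.Lib.CoprimeLie.commute_of_coprime_orderOf hc)

/-- A lift of prime power order. -/
theorem exists_lift (r n : ℕ) (hr : r.Prime) (x : MulAut W) (hx : x ^ r ^ n = 1) :
    ∃ y : G, Φ y = x ∧ ∃ j : ℕ, y ^ r ^ j = 1 := by
  obtain ⟨y, hy⟩ := h.surj x
  obtain ⟨s, m, hm, hs⟩ := Nat.exists_eq_pow_mul_and_not_dvd (orderOf_pos y).ne' r hr.ne_one
  obtain ⟨c, hc⟩ : ∃ c, m * c ≡ 1 [MOD r ^ (n + 1)] := by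
    obtain ⟨c, hc⟩ := Nat.exists_mul_mod_eq_one_of_coprime (n := m) (k := r ^ (n + 1))
      ((hr.coprime_iff_not_dvd.2 hm).symm.pow_right _) (one_lt_pow₀ hr.one_lt (by omega))
    exact ⟨c, by rw [Nat.ModEq, hc.2, Nat.one_mod_eq_one.2 (one_lt_pow₀ hr.one_lt (by omega)).ne']⟩
  refine ⟨y ^ (m * c), ?_, s, ?_⟩
  · rw [map_pow, hy]
    have hd : orderOf x ∣ r ^ (n + 1) := (orderOf_dvd_of_pow_eq_one hx).trans (pow_dvd_pow _ (by omega))
    conv_rhs => rw [← pow_one x]
    exact pow_eq_pow_iff_modEq.2 (hc.of_dvd hd)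
  · rw [← pow_mul, show m * c * r ^ s = (r ^ s * m) * c by ring, pow_mul, ← hs, pow_orderOf_eq_one, one_pow]

theorem split_two (y : G) : ∃ a b : G, y = a * b ∧ a ∈ zpowers y ∧ b ∈ zpowers y ∧
    (∃ j : ℕ, a ^ 2 ^ j = 1) ∧ Odd (orderOf b) := by
  obtain ⟨s, m, hm, hs⟩ := Nat.exists_eq_pow_mul_and_not_dvd (orderOf_pos y).ne' 2 (by norm_num)
  have hcop : (2 ^ s).Coprime m := (Nat.prime_two.coprime_iff_not_dvd.2 hm).pow_left _
  have hg : ((Nat.gcd (2 ^ s) m : ℕ) : ℤ) = (2 ^ s : ℕ) * Nat.gcdA (2 ^ s) m + m * Nat.gcdB (2 ^ s) m :=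
    Nat.gcd_eq_gcd_ab _ _
  rw [hcop.gcd_eq_one, Nat.cast_one] at hg
  refine ⟨y ^ ((m : ℤ) * Nat.gcdB (2 ^ s) m), y ^ (((2 ^ s : ℕ) : ℤ) * Nat.gcdA (2 ^ s) m), ?_,
    ⟨_, rfl⟩, ⟨_, rfl⟩, ⟨s, ?_⟩, ?_⟩
  · rw [← zpow_add, add_comm, ← hg, zpow_one]
  · rw [← zpow_natCast, ← zpow_mul,
      show (m : ℤ) * Nat.gcdB (2 ^ s) m * ((2 ^ s : ℕ) : ℤ) = ((2 ^ s * m : ℕ) : ℤ) * Nat.gcdB (2 ^ s) m by
        push_cast; ring, zpow_mul, zpow_natCast, ← hs, pow_orderOf_eq_one, one_zpow]
  · refine Odd.of_dvd_nat (Nat.not_even_iff_odd.1 fun he => hm (even_iff_two_dvd.1 he)) (orderOf_dvd_of_pow_eq_one ?_)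
    rw [← zpow_natCast, ← zpow_mul,
      show ((2 ^ s : ℕ) : ℤ) * Nat.gcdA (2 ^ s) m * (m : ℤ) = ((2 ^ s * m : ℕ) : ℤ) * Nat.gcdA (2 ^ s) m by
        push_cast; ring, zpow_mul, zpow_natCast, ← hs, pow_orderOf_eq_one, one_zpow]

theorem false_of_comm {T : Subgroup G} [hTn : T.Normal] (hT2 : IsPGroup 2 T) (hAT : A ≤ T)
    (hTker : ∀ t : T, (t : G) ∈ Φ.ker) (hchar : ∀ x ∈ Φ.ker, (∃ j : ℕ, x ^ 2 ^ j = 1) → x ∈ T)
    (hodd : ∀ x ∈ Φ.ker, Odd (orderOf x) → ∀ t ∈ T, x * t = t * x)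
    (hcomm : ∀ a b : T, a * b = b * a) : False := by
  classical
  haveI := Fact.mk Nat.prime_two
  -- the automorphisms of `W` act on `T`
  set ψ := MulAut.conjNormal (H := T)
  have hψker : Φ.ker ≤ ψ.ker := fun y hy => by
    obtain ⟨a, b, rfl, ha, hb, ha2, hb2⟩ := h.split_two y
    have haT : a ∈ T := hchar a (zpowers_le.2 hy ha) ha2
    refine MulEquiv.ext fun t => Subtype.ext ?_
    have e1 : a * t = t * a := congrArg Subtype.val (hcomm ⟨a, haT⟩ t)
    have e2 := hodd b (zpowers_le.2 hy hb) hb2 t t.2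
    show a * b * t * (a * b)⁻¹ = (t : G)
    calc a * b * t * (a * b)⁻¹ = a * (b * t) * b⁻¹ * a⁻¹ := by group
      _ = (a * t) * a⁻¹ := by rw [e2]; group
      _ = _ := by rw [e1, mul_inv_cancel_right]
  set θ : MulAut W →* MulAut T := Φ.liftOfSurjective h.surj ⟨ψ, hψker⟩ with hθdef
  have hθ : ∀ y, θ (Φ y) = ψ y := fun y => MonoidHom.liftOfRightInverse_comp_apply _ _ _ ⟨ψ, hψker⟩ y
  letI : CommGroup T := { (inferInstance : Group T) with mul_comm := hcomm }
  obtain ⟨N, hN⟩ := IsPGroup.iff_card.1 hT2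
  obtain ⟨k, -, hk⟩ := (Nat.dvd_prime_pow Nat.prime_two).1 (hN ▸ Group.exponent_dvd_nat_card (G := T))
  obtain ⟨a', rfl⟩ : ∃ a', k = a' + 1 := by
    refine ⟨k - 1, (Nat.succ_pred_eq_of_pos (Nat.pos_of_ne_zero fun hk0 => ?_)).symm⟩
    rw [hk0, pow_zero] at hk
    have hsub := Monoid.exp_eq_one_iff.1 hk
    have e1 : (⟨(e.symm (Eight.e 0) : A), hAT (e.symm (Eight.e 0)).2⟩ : T) = 1 := Subsingleton.elim _ _
    have e2 : e.symm (Eight.e 0) = 1 := Subtype.ext (congrArg (fun t : T => (t : G)) e1)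
    rw [MulEquiv.map_eq_one_iff] at e2
    exact e_zero_ne e2
  set n := 2 ^ (a' + 1) with hn
  have hexp : ∀ t : T, t ^ n = 1 := fun t => by rw [← hk]; exact Monoid.pow_exponent_eq_one t
  have hPA : ∀ t : T, ((t ^ 2 ^ a' : T) : G) ∈ A := fun t => h.invol _ (by
    have := hexp t
    rw [hn, pow_succ, pow_mul, _root_.sq] at this
    exact congrArg Subtype.val this)
  let π : T →* W := MonoidHom.mk' (fun t => e ⟨_, hPA t⟩) fun s t => by
    rw [← map_mul]; congr 1; exact Subtype.ext (show (((s * t) ^ 2 ^ a' : T) : G) = _ by rw [mul_pow]; rfl)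
  have hπθ : ∀ x t, π (θ x t) = x (π t) := by
    intro x t
    obtain ⟨y, rfl⟩ := h.surj x
    refine h.compat y ⟨_, hPA t⟩ ⟨_, hPA _⟩ ?_
    show (((θ (Φ y) t) ^ 2 ^ a' : T) : G) = _
    rw [hθ, ← map_pow]; rfl
  obtain ⟨t₀, ht₀⟩ : ∃ t₀, π t₀ ≠ 1 := by
    obtain ⟨t₀, ht₀⟩ := Monoid.exists_orderOf_eq_exponent (Monoid.ExponentExists.of_finite (G := T))
    refine ⟨t₀, fun e1 => ?_⟩
    have e2 : t₀ ^ 2 ^ a' = 1 := Subtype.ext (congrArg Subtype.val ((MulEquiv.map_eq_one_iff e).1 e1) :)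
    have := Nat.le_of_dvd (pow_pos two_pos _) (orderOf_dvd_of_pow_eq_one e2)
    rw [ht₀, hk, hn, pow_succ] at this
    have := Nat.one_le_two_pow (n := a')
    omega
  obtain ⟨m₀, hm₀⟩ := σ_orbit (π t₀) (Eight.e 2) ht₀ (by decide)
  set d := θ (σ ^ (m₀ : ℕ)) t₀ with hd
  have hπd : π d = Eight.e 2 := by rw [hd, hπθ, hm₀]
  -- `T` is free on `d`, `h d`, `h² d`
  haveI : NeZero n := ⟨(pow_pos two_pos _).ne'⟩
  haveI : Module (ZMod n) (Additive T) := AddCommGroup.zmodModule fun x => hexp (Additive.toMul x)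
  have hsmul : ∀ (c : ZMod n) (t : T), (c • Additive.ofMul t).toMul = t ^ c.val := fun c t => by
    conv_lhs => rw [← ZMod.natCast_zmod_val c, Nat.cast_smul_eq_nsmul]
    rfl
  let B : Fin 3 → Additive T := ![Additive.ofMul d, Additive.ofMul (θ Eight.h d), Additive.ofMul (θ Eight.h (θ Eight.h d))]
  set L := Fintype.linearCombination (ZMod n) B with hL
  have hLmul : ∀ c : Fin 3 → ZMod n, Additive.toMul (L c) =
      d ^ (c 0).val * θ Eight.h d ^ (c 1).val * θ Eight.h (θ Eight.h d) ^ (c 2).val := fun c => by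
    rw [hL, Fintype.linearCombination_apply, Fin.sum_univ_three]
    simp only [toMul_add, B, Matrix.cons_val_zero, Matrix.cons_val_one, Matrix.cons_val, hsmul]
  have hgen : ∀ v : W, π (d ^ ((Multiplicative.toAdd v) 0).val * θ Eight.h d ^ ((Multiplicative.toAdd v) 1).val *
      θ Eight.h (θ Eight.h d) ^ ((Multiplicative.toAdd v) 2).val) =
        Eight.mk (Eight.e 2) (Eight.h (Eight.e 2)) (Eight.h (Eight.h (Eight.e 2))) v := fun v => by
    simp only [map_mul, map_pow, hπθ, hπd, Eight.mk]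
  have hsurj : ∀ t : T, ∃ c, Additive.toMul (L c) = t := by
    let H : Subgroup T :=
      { carrier := {t | ∃ c, Additive.toMul (L c) = t}
        one_mem' := ⟨0, by rw [map_zero]; rfl⟩
        mul_mem' := by rintro s t ⟨c, rfl⟩ ⟨c', rfl⟩; exact ⟨c + c', by rw [map_add]; rfl⟩
        inv_mem' := by rintro t ⟨c, rfl⟩; exact ⟨-c, by rw [map_neg]; rfl⟩ }
    have hbase : d ∈ H ∧ θ Eight.h d ∈ H ∧ θ Eight.h (θ Eight.h d) ∈ H := by
      refine ⟨⟨Pi.single 0 1, ?_⟩, ⟨Pi.single 1 1, ?_⟩, ⟨Pi.single 2 1, ?_⟩⟩ <;>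
        · rw [hL, Fintype.linearCombination_apply_single, one_smul]; rfl
    have key : ∀ j, j ≤ a' + 1 → ∀ t : T, t ^ 2 ^ j = 1 → t ∈ H := by
      intro j
      induction j with
      | zero => intro _ t ht; rw [pow_zero, pow_one] at ht; rw [ht]; exact one_mem _
      | succ j ih =>
        intro hj t ht
        set z : T := t ^ 2 ^ j
        have hzz : z * z = 1 := by rw [← _root_.sq, ← pow_mul, ← pow_succ]; exact ht
        have hzA : (z : G) ∈ A := h.invol _ (congrArg Subtype.val hzz)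
        obtain ⟨v, hv⟩ := h_span (e ⟨_, hzA⟩)
        set w := d ^ ((Multiplicative.toAdd v) 0).val * θ Eight.h d ^ ((Multiplicative.toAdd v) 1).val *
          θ Eight.h (θ Eight.h d) ^ ((Multiplicative.toAdd v) 2).val with hw
        have hwH : w ∈ H := mul_mem (mul_mem (pow_mem hbase.1 _) (pow_mem hbase.2.1 _)) (pow_mem hbase.2.2 _)
        have hwz : w ^ 2 ^ a' = z := Subtype.ext (congrArg Subtype.val
          (e.injective ((show π w = _ from hgen v).trans hv)) :)
        have hrec : t * (w ^ 2 ^ (a' - j))⁻¹ ∈ H := ih (by omega) _ (by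
          rw [mul_pow, inv_pow, ← pow_mul, ← pow_add, show a' - j + j = a' by omega, hwz, mul_inv_cancel])
        simpa using mul_mem hrec (pow_mem hwH (2 ^ (a' - j)))
    exact fun t => key (a' + 1) le_rfl t (hexp t)
  have hinj : Function.Injective L := by
    rw [← LinearMap.ker_eq_bot, LinearMap.ker_eq_bot']
    intro c hc
    by_contra hc0
    -- a relation of order two
    obtain ⟨c', hc', hc2, hc'0⟩ : ∃ c', L c' = 0 ∧ c' + c' = 0 ∧ c' ≠ 0 := by
      have hex : ∃ j, (2 ^ j : ℕ) • c = 0 := ⟨a' + 1, by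
        funext i; rw [Pi.smul_apply, nsmul_eq_mul, ← hn, ZMod.natCast_self, zero_mul]; rfl⟩
      have hf0 : Nat.find hex ≠ 0 := fun e0 => hc0 (by
        have := Nat.find_spec hex
        rwa [e0, pow_zero, one_smul] at this)
      refine ⟨(2 ^ (Nat.find hex - 1) : ℕ) • c, by rw [map_nsmul, hc, smul_zero], ?_, Nat.find_min hex (by omega)⟩
      rw [← two_nsmul, smul_smul, mul_comm, ← pow_succ, show Nat.find hex - 1 + 1 = Nat.find hex by omega]
      exact Nat.find_spec hex
    have half : ∀ i, (c' i).val = 0 ∨ (c' i).val = 2 ^ a' := fun i => by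
      have h2 : c' i + c' i = 0 := congrFun hc2 i
      have hv : ((c' i).val + (c' i).val) % n = 0 := by rw [← ZMod.val_add, h2, ZMod.val_zero]
      have hlt := ZMod.val_lt (c' i)
      obtain ⟨w, hw⟩ := Nat.dvd_of_mod_eq_zero hv
      rcases w with _ | _ | w
      · left; omega
      · right
        have hn' : n = 2 * 2 ^ a' := by rw [hn, pow_succ']
        omega
      · exfalso; nlinarith [hlt, hw]
    set v : W := Multiplicative.ofAdd fun i => if (c' i).val = 0 then (0 : ZMod 2) else 1 with hv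
    have hv1 : v ≠ 1 := fun e1 => hc'0 (funext fun i => by
      have e2 := congrFun (congrArg Multiplicative.toAdd e1) i
      simp only [hv, toAdd_ofAdd, toAdd_one, Pi.zero_apply] at e2
      by_cases h0 : (c' i).val = 0
      · exact (ZMod.val_eq_zero _).1 h0
      · rw [if_neg h0] at e2; exact absurd e2 one_ne_zero)
    have hval : ∀ i, (c' i).val = ((Multiplicative.toAdd v) i).val * 2 ^ a' := fun i => by
      simp only [hv, toAdd_ofAdd]
      rcases half i with e0 | e0 <;> simp [e0, ZMod.val_zero, ZMod.val_one]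
    have := hLmul c'
    rw [hc', toMul_zero, hval, hval, hval, pow_mul, pow_mul, pow_mul, ← mul_pow, ← mul_pow] at this
    refine hv1 (h_gen v ?_)
    rw [← hgen v]
    exact (MulEquiv.map_eq_one_iff e).2 (Subtype.ext (congrArg Subtype.val this.symm :))
  set b : Module.Basis (Fin 3) (ZMod n) (Additive T) :=
    Module.Basis.ofEquivFun (LinearEquiv.ofBijective L ⟨hinj, fun x => by
      obtain ⟨c, hc⟩ := hsurj x.toMul
      exact ⟨c, Additive.toMul.injective hc⟩⟩).symm with hb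
  have hbi : ∀ i, b i = B i := fun i => by
    rw [hb, Module.Basis.coe_ofEquivFun, LinearEquiv.symm_symm]
    show L (Pi.single i 1) = B i
    rw [hL, Fintype.linearCombination_apply_single, one_smul]
  -- linear maps and determinants
  let lin : MulAut W →* (Additive T ≃ₗ[ZMod n] Additive T) :=
    { toFun := fun x => (MulEquiv.toAdditive (θ x)).toLinearEquiv
        (fun c m => ZMod.map_smul (MulEquiv.toAdditive (θ x)).toAddMonoidHom c m)
      map_one' := by ext m; simp only [map_one]; rfl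
      map_mul' := fun x y => by ext m; simp only [map_mul]; rfl }
  have hlin : ∀ x t, lin x (Additive.ofMul t) = Additive.ofMul (θ x t) := fun x t => rfl
  have hdet1 : ∀ x : MulAut W, x ^ 3 = 1 → LinearEquiv.det (lin x) = 1 := fun x hx => by
    have h3 : LinearEquiv.det (lin x) ^ 3 = 1 := by rw [← map_pow, ← map_pow, hx, map_one, map_one]
    have h2 := orderOf_dvd_natCard (LinearEquiv.det (lin x))
    have ht : Nat.totient n = 2 ^ a' := by rw [hn, Nat.totient_prime_pow_succ Nat.prime_two]; simp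
    rw [Nat.card_eq_fintype_card, ZMod.card_units_eq_totient, ht] at h2
    have h2' : orderOf (LinearEquiv.det (lin x)) ∣ 2 ^ a' := h2
    exact orderOf_eq_one_iff.1 (Nat.eq_one_of_dvd_coprimes
      (Nat.Coprime.pow_left a' (by norm_num : Nat.Coprime 2 3)) h2' (orderOf_dvd_of_pow_eq_one h3))
  set H := (lin Eight.h).toLinearMap with hH
  have hH0 : H (b 0) = b 1 := by rw [hbi, hbi]; rfl
  have hH1 : H (b 1) = b 2 := by rw [hbi, hbi]; rfl
  set α := b.repr (H (b 2)) 0 with hα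
  set β := b.repr (H (b 2)) 1 with hβ
  set γ := b.repr (H (b 2)) 2 with hγ
  have hH2 : H (b 2) = α • b 0 + β • b 1 + γ • b 2 := by
    conv_lhs => rw [← b.sum_repr (H (b 2)), Fin.sum_univ_three]
  have hα1 : α = 1 := by
    have hdet : LinearMap.det H = 1 := by
      rw [hH, ← LinearEquiv.coe_det, h_eq, map_mul, map_mul, hdet1 f f_cube, hdet1 g g_cube, mul_one,
        Units.val_one]
    rw [← LinearMap.det_toMatrix b, Matrix.det_fin_three] at hdet
    simp only [LinearMap.toMatrix_apply, hH0, hH1, Module.Basis.repr_self] at hdet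
    simpa [Finsupp.single_apply, hα] using hdet
  have hH4 : H (H (H (H (b 0)))) = b 0 := by
    have e4 : lin Eight.h (lin Eight.h (lin Eight.h (lin Eight.h (b 0)))) = lin (Eight.h ^ 4) (b 0) := by
      simp only [pow_succ, pow_zero, one_mul, map_mul]; rfl
    show lin Eight.h (lin Eight.h (lin Eight.h (lin Eight.h (b 0)))) = _
    rw [e4, h_four, map_one]; rfl
  rw [hH0, hH1, hH2, map_add, map_add, map_smul, map_smul, map_smul, hH0, hH1, hH2, hα1] at hH4
  have e0 := congrArg (fun x => b.repr x 0) hH4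
  have e2 := congrArg (fun x => b.repr x 2) hH4
  simp [Finsupp.single_apply] at e0 e2
  have hγ1 : γ = 1 := e0
  have hβ1 : β = -1 := by
    rw [hγ1] at e2
    exact eq_neg_of_add_eq_zero_left (by simpa using e2)
  -- `h` fixes the image of `v ↦ v · i v`
  have hfix : ∀ v, H (v + H (H v)) = v + H (H v) := by
    have e0' : H (b 0 + H (H (b 0))) = b 0 + H (H (b 0)) := by
      rw [map_add, hH0, hH1, hH2, hα1, hβ1, hγ1]; simp; abel
    have e1' : H (b 1 + H (H (b 1))) = b 1 + H (H (b 1)) := by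
      have := congrArg H e0'
      simp only [map_add, hH0] at this ⊢
      exact this
    have e2' : H (b 2 + H (H (b 2))) = b 2 + H (H (b 2)) := by
      have := congrArg H e1'
      simp only [map_add, hH1] at this ⊢
      exact this
    have key : H.comp (LinearMap.id + H.comp H) = LinearMap.id + H.comp H := by
      refine b.ext fun i => ?_
      fin_cases i
      exacts [e0', e1', e2']
    exact fun v => LinearMap.congr_fun key v
  -- the fixed points are generated by `s`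
  set i := Eight.h * Eight.h with hi
  have hiH : ∀ v : T, Additive.ofMul (θ i v) = H (H (Additive.ofMul v)) := fun v => by
    rw [hi, map_mul]; rfl
  set s : T := d * θ i d with hs
  have hsfix : θ Eight.h s = s := by
    have := hfix (Additive.ofMul d)
    rw [← hiH] at this
    exact Additive.ofMul.injective this
  have hπs : π s = Eight.e 0 := by rw [hs, map_mul, hπd, hπθ, hπd]; exact h_sq_moves
  have hsne : s ^ 2 ^ a' ≠ 1 := fun e1 => by
    have : π s = 1 := (MulEquiv.map_eq_one_iff e).2 (Subtype.ext (congrArg Subtype.val e1 :))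
    rw [hπs] at this
    exact e_zero_ne this
  have hfixed : ∀ j, ∀ t : T, θ Eight.h t = t → t ^ 2 ^ j ∈ zpowers s → t ∈ zpowers s := by
    intro j
    induction j with
    | zero => intro t _ ht; simpa using ht
    | succ j ih =>
      intro t ht hpow
      have h2 : t ^ 2 ∈ zpowers s := ih _ (by rw [map_pow, ht]) (by rwa [← pow_mul, mul_comm, ← pow_succ])
      obtain ⟨m, hm⟩ := mem_powers_iff_mem_zpowers.2 h2
      simp only at hm
      rcases Nat.even_or_odd' m with ⟨l, rfl | rfl⟩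
      · set z := t * (s ^ l)⁻¹ with hz
        have hzz : z * z = 1 := by
          rw [hz, ← _root_.sq, mul_pow, inv_pow, ← pow_mul, mul_comm l 2, hm, mul_inv_cancel]
        have hzfix : θ Eight.h z = z := by rw [hz, map_mul, map_inv, map_pow, ht, hsfix]
        have hzA : (z : G) ∈ A := h.invol _ (congrArg Subtype.val hzz)
        have hzW : Eight.h (e ⟨_, hzA⟩) = e ⟨_, hzA⟩ := by
          obtain ⟨y, hy⟩ := h.surj Eight.h
          rw [← hy]
          refine (h.compat y ⟨_, hzA⟩ ⟨_, hzA⟩ ?_).symm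
          rw [← hy, hθ] at hzfix
          exact (congrArg Subtype.val hzfix).symm
        have hz' : z ∈ zpowers s := by
          rcases h_fix _ hzW with e1 | e1
          · have : z = 1 := Subtype.ext (congrArg Subtype.val ((MulEquiv.map_eq_one_iff e).1 e1) :)
            rw [this]; exact one_mem _
          · have : z = s ^ 2 ^ a' := Subtype.ext (congrArg Subtype.val (e.injective (e1.trans hπs.symm)) :)
            rw [this]; exact pow_mem (mem_zpowers _) _
        simpa [hz] using mul_mem hz' (pow_mem (mem_zpowers s) l)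
      · exfalso
        refine hsne ?_
        have e1 : (s ^ (2 * l + 1)) ^ 2 ^ a' = 1 := by
          rw [hm, ← pow_mul, ← pow_succ']; exact hexp t
        rwa [← pow_mul, show (2 * l + 1) * 2 ^ a' = 2 ^ (a' + 1) * l + 2 ^ a' by ring, pow_add, pow_mul, ← hn,
          hexp, one_pow, one_mul] at e1
  -- a lift of `h`
  obtain ⟨y, hy, jy, hjy⟩ := h.exists_lift 2 2 Nat.prime_two Eight.h (by simpa using h_four)
  have hy4 : y ^ 4 ∈ T := hchar _ (by rw [MonoidHom.mem_ker, map_pow, hy, h_four])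
    ⟨jy, by rw [← pow_mul, mul_comm, pow_mul, hjy, one_pow]⟩
  have htfix : θ Eight.h ⟨_, hy4⟩ = ⟨_, hy4⟩ := by
    rw [← hy, hθ]
    refine Subtype.ext ?_
    show y * y ^ 4 * y⁻¹ = y ^ 4
    group
  obtain ⟨m, hm⟩ := mem_powers_iff_mem_zpowers.2
    (hfixed (a' + 1) _ htfix (by rw [← hn, hexp]; exact one_mem _))
  simp only at hm
  set v := d ^ m with hv
  have htv : (⟨_, hy4⟩ : T) = v * θ i v := by rw [← hm, hs, mul_pow, hv, map_pow]
  have hconj : ((θ i v : T) : G) = y ^ 2 * v * (y ^ 2)⁻¹ := by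
    rw [show i = Φ (y ^ 2) by rw [map_pow, hy, hi, _root_.sq], hθ]; rfl
  have hinv : (y ^ 2 * (v : G)⁻¹) * (y ^ 2 * (v : G)⁻¹) = 1 := by
    have e1 : y ^ 4 = (v : G) * (y ^ 2 * v * (y ^ 2)⁻¹) := by
      rw [← hconj]; exact congrArg Subtype.val htv
    have e2 : (v : G) * y ^ 4 = y ^ 4 * v := congrArg Subtype.val (hcomm v ⟨_, hy4⟩)
    calc (y ^ 2 * (v : G)⁻¹) * (y ^ 2 * (v : G)⁻¹)
        = (y ^ 2 * v * (y ^ 2)⁻¹)⁻¹ * y ^ 4 * (v : G)⁻¹ := by group
      _ = (y ^ 2 * v * (y ^ 2)⁻¹)⁻¹ * ((v : G)⁻¹ * y ^ 4) := by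
          rw [mul_assoc]; congr 1
          rw [eq_inv_mul_iff_mul_eq, ← mul_assoc, e2, mul_inv_cancel_right]
      _ = 1 := by rw [e1]; group
  have hker := h.A_le_ker (h.invol _ hinv)
  have hvk : (v : G)⁻¹ ∈ Φ.ker := by
    refine inv_mem ?_
    have : ∀ t : T, (t : G) ∈ Φ.ker := hTker
    exact this v
  rw [MonoidHom.mem_ker, map_mul, map_pow, hy, MonoidHom.mem_ker.1 hvk, mul_one] at hker
  exact h_sq_e2 (DFunLike.congr_fun hker (Eight.e 2))

theorem false_of_not_comm {T : Subgroup G} [hTn : T.Normal] (hT2 : IsPGroup 2 T) (hAT : A ≤ T)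
    (hTker : ∀ t : T, (t : G) ∈ Φ.ker) (hchar : ∀ x ∈ Φ.ker, (∃ j : ℕ, x ^ 2 ^ j = 1) → x ∈ T)
    (hodd : ∀ x ∈ Φ.ker, Odd (orderOf x) → ∀ t ∈ T, x * t = t * x)
    (hcomm : ¬ ∀ a b : T, a * b = b * a) : False := by
  classical
  haveI := Fact.mk Nat.prime_two
  set ψ := MulAut.conjNormal (H := T)
  have memA : ∀ {x : T}, x * x = 1 → (x : G) ∈ A := fun hx => h.invol _ (congrArg Subtype.val hx)
  let ι : A → T := fun a => ⟨a, hAT a.2⟩
  have hψι : ∀ (y : G) (a b : A), ψ y (ι a) = ι b → e b = Φ y (e a) := fun y a b hab =>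
    h.compat y a b (congrArg Subtype.val hab).symm
  -- a cyclic group of order seven, regular on the involutions
  obtain ⟨y₁, hy₁, hj⟩ := h.exists_lift 7 1 (by norm_num) σ (by simpa using σ_seven)
  have hk7 : ψ y₁ ^ 7 = 1 := by
    rw [← map_pow]
    refine MulEquiv.ext fun t => Subtype.ext ?_
    obtain ⟨j, hj⟩ := hj
    have hmem : y₁ ^ 7 ∈ Φ.ker := by rw [MonoidHom.mem_ker, map_pow, hy₁, σ_seven]
    have ho : Odd (orderOf (y₁ ^ 7)) := Odd.of_dvd_nat (Odd.pow (n := j) (by decide : Odd 7))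
      ((orderOf_pow_dvd 7).trans (orderOf_dvd_of_pow_eq_one hj))
    show y₁ ^ 7 * t * (y₁ ^ 7)⁻¹ = (t : G)
    rw [hodd _ hmem ho t t.2, mul_inv_cancel_right]
  have hpow : ∀ (n : ℕ) (a b : A), (ψ y₁ ^ n) (ι a) = ι b → e b = (σ ^ n) (e a) := fun n a b hab => by
    rw [← hy₁, ← map_pow]; exact hψι _ _ _ (by rwa [map_pow])
  have inv_mk : ∀ {x : T}, x * x = 1 → ∃ a : A, ι a = x := fun hx => ⟨⟨_, memA hx⟩, rfl⟩
  have hsuz : Cfsg.IsSuzukiTwoGroup T := by
    refine ⟨inferInstance, hT2, ?_, ?_, zpowers (ψ y₁), inferInstance, ?_⟩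
    · push Not at hcomm; exact hcomm
    · refine ⟨ι (e.symm (Eight.e 0)), ι (e.symm (Eight.e 1)), ?_, ?_, ?_, ?_, ?_⟩
      · intro e1
        have := e.symm.injective (Subtype.ext (congrArg Subtype.val e1 :))
        exact e_zero_ne_one this
      · intro e1
        exact e_zero_ne ((MulEquiv.map_eq_one_iff e.symm).1 (Subtype.ext (congrArg Subtype.val e1 :)))
      · exact Subtype.ext (congrArg Subtype.val (h.sqA _) :)
      · intro e1
        exact e_one_ne ((MulEquiv.map_eq_one_iff e.symm).1 (Subtype.ext (congrArg Subtype.val e1 :)))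
      · exact Subtype.ext (congrArg Subtype.val (h.sqA _) :)
    · intro x x' hx hxx hx' hxx'
      obtain ⟨a, rfl⟩ := inv_mk hxx
      obtain ⟨b, rfl⟩ := inv_mk hxx'
      have nz : ∀ {c : A}, ι c ≠ 1 → e c ≠ 1 := fun hc e1 => hc
        (Subtype.ext (congrArg Subtype.val ((MulEquiv.map_eq_one_iff e).1 e1) :))
      obtain ⟨n, hn⟩ := σ_orbit (e a) (e b) (nz hx) (nz hx')
      have hmove : ∀ m : ℕ, ∃ c : A, (ψ y₁ ^ m) (ι a) = ι c := fun m => by
        obtain ⟨c, hc⟩ := inv_mk (x := (ψ y₁ ^ m) (ι a)) (by rw [← map_mul, hxx, map_one])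
        exact ⟨c, hc.symm⟩
      obtain ⟨c, hc⟩ := hmove n
      have hcb : c = b := e.injective ((hpow _ _ _ hc).trans hn)
      refine ⟨⟨ψ y₁ ^ (n : ℕ), pow_mem (mem_zpowers _) _⟩, hcb ▸ hc, ?_⟩
      rintro ⟨k, hk⟩ hkab
      obtain ⟨m, rfl⟩ := mem_powers_iff_mem_zpowers.2 hk
      refine Subtype.ext ?_
      show ψ y₁ ^ m = ψ y₁ ^ (n : ℕ)
      have e1 : (σ ^ m) (e a) = (σ ^ (n : ℕ)) (e a) := by rw [← hpow _ _ _ hkab, hn]
      rw [pow_eq_pow_mod m σ_seven] at e1
      have hu : ∀ v : W, v ≠ 1 → ∀ r r' : Fin 7, (σ ^ (r : ℕ)) v = (σ ^ (r' : ℕ)) v → r = r' := σ_regular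
      have := hu _ (nz hx) ⟨m % 7, Nat.mod_lt _ (by norm_num)⟩ n e1
      rw [pow_eq_pow_mod m hk7]
      rw [← this]
  obtain ⟨hinv, hzz⟩ := Cfsg.Agent.S1137.result hsuz
  obtain ⟨hsqc, hcomc, hcard, hexp⟩ := Cfsg.Agent.S1138.result hsuz
  have hAZ : ∀ a : A, ι a ∈ center T := fun a => by
    by_cases ha : ι a = 1
    · rw [ha]; exact one_mem _
    · exact ((hinv _).1 ⟨ha, Subtype.ext (congrArg Subtype.val (h.sqA a) :)⟩).1
  have hZcard : Nat.card (center T) = 8 := by
    rw [← card_W, ← Nat.card_congr e.toEquiv]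
    refine (Nat.card_eq_of_bijective (fun a : A => (⟨ι a, hAZ a⟩ : center T)) ⟨fun a b e1 => ?_, fun z => ?_⟩).symm
    · exact Subtype.ext (congrArg (fun w : center T => ((w : T) : G)) e1 :)
    · obtain ⟨a, ha⟩ := inv_mk (hzz z z.2)
      exact ⟨a, Subtype.ext ha⟩
  let Z : Subgroup T := center T
  letI : CommGroup (T ⧸ Z) :=
    { (inferInstance : Group (T ⧸ Z)) with
      mul_comm := fun a b => by
        induction a using QuotientGroup.induction_on with | _ a =>
        induction b using QuotientGroup.induction_on with | _ b =>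
        rw [← QuotientGroup.mk_mul, ← QuotientGroup.mk_mul, QuotientGroup.eq]
        have := hcomc b a
        simpa [mul_assoc] using this }
  let q : T ⧸ Z → W := fun v => Quotient.liftOn' v (fun t => e ⟨_, memA (hzz _ (hsqc t))⟩) fun t t' htt => by
    rw [QuotientGroup.leftRel_apply] at htt
    have key : t * t = t' * t' := by
      have e1 : t' = t * (t⁻¹ * t') := by group
      have e2 := hzz _ htt
      have e3 : (t⁻¹ * t') * t = t * (t⁻¹ * t') := (mem_center_iff.1 htt t).symm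
      conv_rhs => rw [e1, mul_assoc, ← mul_assoc (t⁻¹ * t') t, e3, mul_assoc t (t⁻¹ * t'), e2, mul_one]
    congr 1
    exact Subtype.ext (congrArg Subtype.val key :)
  have hq : ∀ t : T, q (QuotientGroup.mk t) = e ⟨_, memA (hzz _ (hsqc t))⟩ := fun t => rfl
  -- the action on the quotient
  let ψV : G →* MulAut (T ⧸ Z) :=
    { toFun := fun y => QuotientGroup.congr Z Z (ψ y) (Subgroup.characteristic_iff_map_eq.1 inferInstance (ψ y))
      map_one' := by
        ext v; induction v using QuotientGroup.induction_on with | _ t =>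
        show QuotientGroup.mk (ψ 1 t) = QuotientGroup.mk t
        rw [map_one]; rfl
      map_mul' := fun y y' => by
        ext v; induction v using QuotientGroup.induction_on with | _ t =>
        show QuotientGroup.mk (ψ (y * y') t) = QuotientGroup.mk (ψ y (ψ y' t))
        rw [map_mul]; rfl }
  have hψV : ∀ (y : G) (t : T), ψV y (QuotientGroup.mk t) = QuotientGroup.mk (ψ y t) := fun y t => rfl
  have hkerV : Φ.ker ≤ ψV.ker := fun y hy => by
    obtain ⟨a, b, rfl, ha, hb, ha2, hb2⟩ := h.split_two y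
    have haT : a ∈ T := hchar a (zpowers_le.2 hy ha) ha2
    refine MulEquiv.ext fun v => ?_
    induction v using QuotientGroup.induction_on with | _ t =>
    rw [hψV, MulAut.one_apply]
    have e2 := hodd b (zpowers_le.2 hy hb) hb2 t t.2
    have e3 : ψ (a * b) t = ⟨a, haT⟩ * t * (⟨a, haT⟩ : T)⁻¹ := Subtype.ext (by
      show a * b * t * (a * b)⁻¹ = a * t * a⁻¹
      calc a * b * t * (a * b)⁻¹ = a * (b * t) * b⁻¹ * a⁻¹ := by group
        _ = _ := by rw [e2]; group)
    rw [e3, QuotientGroup.eq]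
    have := hcomc t ⟨a, haT⟩⁻¹
    simpa [mul_assoc] using inv_mem this
  set χ : MulAut W →* MulAut (T ⧸ Z) := Φ.liftOfSurjective h.surj ⟨ψV, hkerV⟩ with hχdef
  have hχ : ∀ y, χ (Φ y) = ψV y := fun y => MonoidHom.liftOfRightInverse_comp_apply _ _ _ ⟨ψV, hkerV⟩ y
  have hpolar : ∀ t w : T, ∃ hc, polar q (QuotientGroup.mk t) (QuotientGroup.mk w) =
      e ⟨((w⁻¹ * t⁻¹ * w * t : T) : G), hc⟩ := by
    intro t w
    have hc := memA (hzz _ (hcomc w t))
    refine ⟨hc, ?_⟩
    have e1 : (t * w) * (t * w) = (t * t) * (w * w) * (w⁻¹ * t⁻¹ * w * t) := by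
      have hx := mem_center_iff.1 (hcomc w t)
      calc (t * w) * (t * w) = t * t * (w * (w⁻¹ * t⁻¹ * w * t)) * w := by group
        _ = t * t * (w * ((w⁻¹ * t⁻¹ * w * t) * w)) := by group
        _ = t * t * (w * (w * (w⁻¹ * t⁻¹ * w * t))) := by rw [hx w]
        _ = _ := by group
    have e2 : e ⟨_, memA (hzz _ (hsqc (t * w)))⟩ =
        e ⟨_, memA (hzz _ (hsqc t))⟩ * e ⟨_, memA (hzz _ (hsqc w))⟩ * e ⟨_, hc⟩ := by
      rw [← map_mul, ← map_mul]; congr 1
      exact Subtype.ext (congrArg Subtype.val e1 :)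
    rw [polar, ← QuotientGroup.mk_mul, hq, hq, hq, e2]
    exact mul_cancel_two _ _ _
  refine Quad.false (χ := χ) (q := q) ⟨?_, ?_, ?_, ?_, ?_, ?_, ?_⟩
  · intro v; induction v using QuotientGroup.induction_on with | _ t =>
    exact (QuotientGroup.eq_one_iff _).2 (hsqc t)
  · have h1 := Subgroup.card_eq_card_quotient_mul_card_subgroup Z
    rw [hZcard] at hcard
    rw [show Nat.card Z = 8 from hZcard] at h1
    rcases hcard with e1 | e1 <;> rw [e1] at h1
    · left; omega
    · right; omega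
  · show q (QuotientGroup.mk 1) = 1
    rw [hq, MulEquiv.map_eq_one_iff]
    exact Subtype.ext (by simp)
  · intro v hv; induction v using QuotientGroup.induction_on with | _ t =>
    rw [hq, MulEquiv.map_eq_one_iff] at hv
    have htt : t * t = 1 := Subtype.ext (congrArg Subtype.val hv :)
    refine (QuotientGroup.eq_one_iff _).2 ?_
    obtain ⟨a, ha⟩ := inv_mk htt
    exact ha ▸ hAZ a
  · intro x v
    obtain ⟨y, rfl⟩ := h.surj x
    induction v using QuotientGroup.induction_on with | _ t =>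
    rw [hχ, hψV, hq, hq]
    refine h.compat y _ _ ?_
    show ((ψ y t * ψ y t : T) : G) = _
    rw [← map_mul]; rfl
  · intro v v' w
    induction v using QuotientGroup.induction_on with | _ t =>
    induction v' using QuotientGroup.induction_on with | _ t' =>
    induction w using QuotientGroup.induction_on with | _ w =>
    obtain ⟨c1, h1⟩ := hpolar (t * t') w
    obtain ⟨c2, h2⟩ := hpolar t w
    obtain ⟨c3, h3⟩ := hpolar t' w
    rw [← QuotientGroup.mk_mul, h1, h2, h3, ← map_mul]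
    congr 1
    refine Subtype.ext (congrArg Subtype.val (?_ : w⁻¹ * (t * t')⁻¹ * w * (t * t') =
      (w⁻¹ * t⁻¹ * w * t) * (w⁻¹ * t'⁻¹ * w * t')) :)
    have hx := mem_center_iff.1 (hcomc w t)
    calc w⁻¹ * (t * t')⁻¹ * w * (t * t') = (w⁻¹ * t'⁻¹ * w) * (w⁻¹ * t⁻¹ * w * t) * t' := by group
      _ = (w⁻¹ * t⁻¹ * w * t) * (w⁻¹ * t'⁻¹ * w) * t' := by rw [hx (w⁻¹ * t'⁻¹ * w)]
      _ = _ := by group
  · intro v hv; induction v using QuotientGroup.induction_on with | _ t =>
    refine (QuotientGroup.eq_one_iff _).2 (mem_center_iff.2 fun w => ?_)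
    obtain ⟨hc, h1⟩ := hpolar t w
    have := hv (QuotientGroup.mk w)
    rw [h1, MulEquiv.map_eq_one_iff] at this
    have e1 : w⁻¹ * t⁻¹ * w * t = 1 := Subtype.ext (congrArg Subtype.val this :)
    calc w * t = t * (w * (w⁻¹ * t⁻¹ * w * t)) := by group
      _ = t * w := by rw [e1, mul_one]

theorem false : False := by
  obtain ⟨T, hTn, hT2, hAT, hTker, hchar, hodd⟩ := h.exists_core
  haveI := hTn
  by_cases hcomm : ∀ a b : T, a * b = b * a
  · exact h.false_of_comm hT2 hAT (fun t => hTker t.2) hchar hodd hcomm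
  · exact h.false_of_not_comm hT2 hAT (fun t => hTker t.2) hchar hodd hcomm

end MinEight

theorem exists_iso {Y : Type u} [Group Y] [Finite Y] {A : Subgroup Y} (hsq : ∀ a : A, a * a = 1)
    (hc : Nat.card A = 8) : Nonempty (A ≃* W) := by
  classical
  obtain ⟨x, hx, -⟩ := exists_third (V := A) (by omega) 1
  obtain ⟨y, hy, hyx⟩ := exists_third (V := A) (by omega) x
  haveI := Fintype.ofFinite A
  obtain ⟨z, hz1, hzx, hzy, hzxy⟩ : ∃ z : A, z ≠ 1 ∧ z ≠ x ∧ z ≠ y ∧ z ≠ x * y := by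
    by_contra hno
    push Not at hno
    have : (Finset.univ : Finset A) ⊆ {1, x, y, x * y} := fun z _ => by
      simp only [Finset.mem_insert, Finset.mem_singleton]
      by_contra hz
      push Not at hz
      exact hz.2.2.2 (hno z hz.1 hz.2.1 hz.2.2.1)
    have h1 := Finset.card_le_card this
    rw [Finset.card_univ, ← Nat.card_eq_fintype_card, hc] at h1
    have h2 : ({1, x, y, x * y} : Finset A).card ≤ 4 := Finset.card_le_four
    omega
  let F : W → A := fun v => x ^ ((Multiplicative.toAdd v) 0).val * y ^ ((Multiplicative.toAdd v) 1).val *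
    z ^ ((Multiplicative.toAdd v) 2).val
  have key : ∀ (a : A) (r s : ZMod 2), a ^ (r + s).val = a ^ r.val * a ^ s.val := fun a r s => by
    obtain ⟨j, hj⟩ := zmod_two_val r s
    rw [← pow_add, hj, pow_add, pow_mul, _root_.sq, hsq, one_pow, mul_one]
  letI : CommGroup A := { (inferInstance : Group A) with mul_comm := comm_of_sq hsq }
  let F' : W →* A := MonoidHom.mk' F fun v w => by
    simp only [F, toAdd_mul, Pi.add_apply, key]
    simp only [mul_assoc, mul_comm, mul_left_comm]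
  have hinj : Function.Injective F' := (injective_iff_map_eq_one F').2 fun v hv => by
    have two : ∀ a : ZMod 2, a = 0 ∨ a = 1 := by decide
    have eqA : ∀ {a b : A}, a * b = 1 → b = a := fun e => (mul_eq_one_iff_of_sq hsq).1 e
    refine Multiplicative.toAdd.injective (funext ?_)
    change F v = 1 at hv
    simp only [F] at hv
    rcases two ((Multiplicative.toAdd v) 0) with h0 | h0 <;> rcases two ((Multiplicative.toAdd v) 1) with h1 | h1 <;>
      rcases two ((Multiplicative.toAdd v) 2) with h2 | h2 <;>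
      simp only [h0, h1, h2, ZMod.val_zero, ZMod.val_one, pow_zero, pow_one, one_mul, mul_one] at hv
    · intro i; fin_cases i <;> simp [h0, h1, h2]
    · exact absurd hv hz1
    · exact absurd hv hy
    · exact absurd (eqA hv) hzy
    · exact absurd hv hx
    · exact absurd (eqA hv) hzx
    · exact absurd (eqA hv) hyx
    · exact absurd (eqA hv) hzxy
  exact ⟨(MulEquiv.ofBijective F' ((Nat.bijective_iff_injective_and_card _).2
    ⟨hinj, by rw [hc, card_W]⟩)).symm⟩

theorem noThree : NoThree.{u} := by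
  intro Y _ _ A _ h hc hsurj
  classical
  haveI := Fact.mk Nat.prime_two
  have hsq : ∀ a : A, a * a = 1 := fun a => Subtype.ext (h.sq _ a.2)
  obtain ⟨e⟩ := exists_iso hsq hc
  set Φ : Y →* MulAut W := (MulAut.congr e).toMonoidHom.comp (MulAut.conjNormal (H := A)) with hΦ
  have hΦs : Function.Surjective Φ := (MulAut.congr e).surjective.comp hsurj
  have hcompat : ∀ (g : Y) (a b : A), (b : Y) = g * a * g⁻¹ → e b = Φ g (e a) := fun g a b hab => by
    have : b = MulAut.conjNormal g a := Subtype.ext hab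
    rw [this, hΦ]
    simp [MulAut.congr]
  obtain ⟨Y₀, hY₀⟩ := exists_minimal_of_wellFoundedLT (P := fun K : Subgroup Y => K.map Φ = ⊤)
    ⟨⊤, Subgroup.map_top_of_surjective _ hΦs⟩
  -- `A` lies in `Y₀`
  have hAle : A ≤ Y₀ := by
    obtain ⟨g, hg, hgj⟩ : ∃ g ∈ Y₀, Φ g = Eight.j := by
      have : Eight.j ∈ Y₀.map Φ := hY₀.prop ▸ mem_top _
      exact this
    have heven : 2 ∣ Nat.card Y₀ := by
      have h2 : orderOf Eight.j = 2 := orderOf_eq_prime (by rw [_root_.sq]; exact j_sq) j_ne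
      refine h2 ▸ dvd_trans ?_ (Subgroup.orderOf_dvd_natCard _ hg)
      rw [← hgj]; exact orderOf_map_dvd Φ g
    obtain ⟨a, ha⟩ := exists_prime_orderOf_dvd_card' 2 heven
    have haa : (a : Y) * a = 1 := by
      have := pow_orderOf_eq_one a
      rw [ha, _root_.sq] at this
      exact congrArg Subtype.val this
    have ha1 : (⟨(a : Y), h.invol _ haa⟩ : A) ≠ 1 := fun e1 => by
      have : a = 1 := Subtype.ext (congrArg Subtype.val e1 :)
      rw [this, orderOf_one] at ha
      omega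
    intro b hb
    by_cases hb1 : b = 1
    · rw [hb1]; exact one_mem _
    obtain ⟨n, hn⟩ := σ_orbit (e ⟨(a : Y), h.invol _ haa⟩) (e ⟨b, hb⟩)
      (fun e1 => ha1 ((MulEquiv.map_eq_one_iff e).1 e1))
      (fun e1 => hb1 (congrArg Subtype.val ((MulEquiv.map_eq_one_iff e).1 e1)))
    obtain ⟨m, hm, hmΦ⟩ : σ ^ (n : ℕ) ∈ Y₀.map Φ := hY₀.prop ▸ mem_top _
    have hmem : m * (a : Y) * m⁻¹ ∈ A := h.normal.conj_mem _ (h.invol _ haa) m
    have := hcompat m ⟨(a : Y), h.invol _ haa⟩ ⟨_, hmem⟩ rfl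
    rw [hmΦ, hn] at this
    have e2 : m * (a : Y) * m⁻¹ = b := congrArg Subtype.val (e.injective this)
    rw [← e2]
    exact mul_mem (mul_mem hm a.2) (inv_mem hm)
  let E : (A.subgroupOf Y₀) ≃* W := (subgroupOfEquivOfLe hAle).trans e
  refine MinEight.false (G := Y₀) (A := A.subgroupOf Y₀) (e := E) (Φ := Φ.comp Y₀.subtype)
    ⟨fun x => ?_, fun g a b hab => ?_, fun x hx => ?_, fun K hK hKtop => ?_⟩
  · obtain ⟨m, hm, rfl⟩ : x ∈ Y₀.map Φ := hY₀.prop ▸ mem_top x
    exact ⟨⟨m, hm⟩, rfl⟩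
  · exact hcompat g _ _ (congrArg Subtype.val hab)
  · exact mem_subgroupOf.2 (h.invol _ (congrArg Subtype.val hx))
  · have h1 : (K.map Y₀.subtype).map Φ = ⊤ := by rw [Subgroup.map_map]; exact hKtop
    have h2 := hY₀.eq_of_le h1 (map_subtype_le K)
    refine hK (Subgroup.map_injective Y₀.subtype_injective ?_)
    rw [h2, ← MonoidHom.range_eq_map, range_subtype]

end Cfsg.Lib.Pyramidal
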