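import Cfsg.Agent.Pyramidal.Lift
import Cfsg.Agent.Pyramidal.Three
import Cfsg.Agent.Pyramidal.Blocks
import Cfsg.Agent.S0675
import Cfsg.Agent.S3776
import Cfsg.Agent.PGroups.Basic

/-!
No odd core, the involutions form the non-identity elements of a normal elementary subgroup, a prime number of
them, conjugate: the group is solvable.
-/

set_option autoImplicit false
set_option linter.style.haveILetI false
set_option linter.unusedSectionVars false

namespace Cfsg.Lib.Pyramidal

open Subgroup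
open scoped commutatorElement

universe u

variable {X : Type u} [Group X] [Finite X]

theorem noOdd_of_core (hO : Cfsg.pPrimeCore 2 X = ⊥) : GenDihedral.NoOdd X := fun N hN ho =>
  le_bot_iff.1 (hO ▸ @Cfsg.Lib.Components.le_pPrimeCore _ _ 2 N hN (Nat.coprime_two_right.2 ho))

theorem exists_perfect_normal (M : Subgroup X) (hMn : M.Normal) (hM : ¬ Group.IsSolvable M) :
    ∃ L : Subgroup X, L.Normal ∧ L ≤ M ∧ ¬ Group.IsSolvable L ∧ commutator ↥L = ⊤ := by
  obtain ⟨L, hL⟩ := exists_minimal_of_wellFoundedLT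
    (P := fun H : Subgroup X => H.Normal ∧ H ≤ M ∧ ¬ Group.IsSolvable H) ⟨M, hMn, le_rfl, hM⟩
  obtain ⟨hLn, hLM, hLs⟩ := hL.prop
  refine ⟨L, hLn, hLM, hLs, ?_⟩
  haveI := hLn
  have hle : ⁅L, L⁆ ≤ L := commutator_le_left L L
  have hns : ¬ Group.IsSolvable ↥⁅L, L⁆ := fun hs => hLs (by
    haveI : Group.IsSolvable ↥(commutator ↥L) := by
      haveI := hs
      have : (commutator ↥L).map L.subtype = ⁅L, L⁆ := map_subtype_commutator L
      exact solvable_of_solvable_injective
        (f := ((commutator ↥L).equivMapOfInjective L.subtype L.subtype_injective).trans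
          (MulEquiv.subgroupCongr this) |>.toMonoidHom) (MulEquiv.injective _)
    refine GenDihedral.solvable_ext (commutator ↥L) inferInstance ?_
    exact Group.isSolvable_of_comm fun a b =>
      ((Subgroup.Normal.quotient_commutative_iff_commutator_le).2 le_rfl).is_comm.comm a b)
  have he := hL.eq_of_le ⟨inferInstance, hle.trans hLM, hns⟩ hle
  refine Subgroup.map_injective L.subtype_injective ?_
  rw [map_subtype_commutator, ← MonoidHom.range_eq_map, range_subtype]
  exact he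

/-- The non-identity elements. -/
abbrev NonId (A : Subgroup X) := {a : A // a ≠ 1}

/-- Conjugation on the non-identity elements of a normal subgroup. -/
@[reducible] def nonIdAction (A : Subgroup X) [A.Normal] : MulAction X (NonId A) where
  smul g a := ⟨MulAut.conjNormal g a.1, fun h => a.2 ((MulEquiv.map_eq_one_iff _).1 h)⟩
  one_smul a := Subtype.ext (by show MulAut.conjNormal 1 a.1 = a.1; rw [map_one]; rfl)
  mul_smul g k a := Subtype.ext (by
    show MulAut.conjNormal (g * k) a.1 = MulAut.conjNormal g (MulAut.conjNormal k a.1)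
    rw [map_mul]; rfl)

theorem kernel_solvable (A : Subgroup X) [A.Normal] (hO : Cfsg.pPrimeCore 2 X = ⊥)
    (hsq : ∀ a ∈ A, a * a = 1) (hinv : ∀ x : X, x * x = 1 → x ∈ A) {e p : ℕ} (he : 2 ≤ e)
    (hcard : Nat.card A = 2 ^ e) (hp : p.Prime) (hpe : p + 1 = 2 ^ e)
    (htr : ∀ a b : X, a ∈ A → b ∈ A → a ≠ 1 → b ≠ 1 → ∃ g : X, g * a * g⁻¹ = b) :
    Group.IsSolvable X := by
  classical
  haveI : Fact (Nat.Prime 2) := ⟨Nat.prime_two⟩
  haveI : Fact p.Prime := ⟨hp⟩
  have h4 : 4 ≤ Nat.card A := hcard ▸ (Nat.pow_le_pow_right two_pos he :)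
  letI := nonIdAction A
  haveI : Fintype (NonId A) := Fintype.ofFinite _
  have hval : ∀ (g : X) (a : (NonId A)), (((g • a : (NonId A)).1 : A) : X) = g * (a.1 : X) * g⁻¹ := fun g a => MulAut.conjNormal_apply g a.1
  have hext : ∀ {a b : (NonId A)}, ((a.1 : A) : X) = ((b.1 : A) : X) → a = b := fun e => Subtype.ext (Subtype.ext e)
  have hne1 : ∀ a : (NonId A), ((a.1 : A) : X) ≠ 1 := fun a e => a.2 (Subtype.ext e)
  have hΩ : Nat.card (NonId A) = p := by
    haveI := Fintype.ofFinite A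
    have h1 : Nat.card (NonId A) = Nat.card A - 1 := by
      rw [Nat.card_eq_fintype_card, Nat.card_eq_fintype_card, Fintype.card_subtype_compl,
        Fintype.card_subtype_eq]
    omega
  have htΩ : MulAction.IsPretransitive X (NonId A) := ⟨fun a b => by
    obtain ⟨g, hg⟩ := htr a.1 b.1 a.1.2 b.1.2 (hne1 a) (hne1 b)
    exact ⟨g, hext (by rw [hval, hg])⟩⟩
  set ρ : X →* Equiv.Perm (NonId A) := MulAction.toPermHom X (NonId A) with hρ
  have hρval : ∀ (g : X) (a : (NonId A)), ρ g a = g • a := fun g a => rfl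
  haveI : MulAction.IsPretransitive ρ.range (NonId A) := ⟨fun a b => by
    obtain ⟨g, hg⟩ := MulAction.exists_smul_eq X a b
    exact ⟨⟨ρ g, g, rfl⟩, hg⟩⟩
  rcases Cfsg.Agent.S0675.result (α := (NonId A)) (by rwa [← Nat.card_eq_fintype_card, hΩ]) ρ.range with hs | h2
  swap
  · -- doubly transitive
    exfalso
    have hcfg : TwoCfg X A := ⟨inferInstance, hsq, hinv, fun a b c d ha hb hc hd ha1 hb1 hab hc1 hd1 hcd => by
      let mk : ∀ x : X, x ∈ A → x ≠ 1 → NonId A := fun x hx hx1 =>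
        ⟨⟨x, hx⟩, fun e => hx1 (congrArg Subtype.val e)⟩
      have h2t : ∀ v w v' w' : NonId A, v ≠ w → v' ≠ w' → ∃ g : ρ.range, g • v = v' ∧ g • w = w' :=
        fun _ _ _ _ n1 n2 => MulAction.is_two_pretransitive_iff.1 h2 n1 n2
      obtain ⟨⟨_, g, rfl⟩, h1, h2'⟩ := h2t (mk a ha ha1) (mk b hb hb1) (mk c hc hc1) (mk d hd hd1)
        (fun e => hab (congrArg (fun w : NonId A => ((w.1 : A) : X)) e))
        (fun e => hcd (congrArg (fun w : NonId A => ((w.1 : A) : X)) e))
      exact ⟨g, (hval g _).symm.trans (congrArg (fun w : NonId A => ((w.1 : A) : X)) h1), (hval g _).symm.trans (congrArg (fun w : NonId A => ((w.1 : A) : X)) h2')⟩, h4⟩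
    exact no_twoCfg noThree (Nat.card A) X A hcfg le_rfl
  by_contra hns
  have hM : ¬ Group.IsSolvable ρ.ker := fun hk => hns (by
    haveI := hk
    haveI := hs
    exact Group.isSolvable_of_ker_le_range ρ.ker.subtype ρ.rangeRestrict (by simp))
  obtain ⟨L, hLn, hLM, hLs, hperf⟩ := exists_perfect_normal ρ.ker inferInstance hM
  haveI := hLn
  have hfix : ∀ l ∈ L, ∀ a ∈ A, l * a = a * l := by
    intro l hl a ha
    by_cases ha1 : a = 1
    · rw [ha1, mul_one, one_mul]
    have := DFunLike.congr_fun (MonoidHom.mem_ker.1 (hLM hl)) (⟨⟨a, ha⟩, fun e => ha1 (congrArg Subtype.val e)⟩ : (NonId A))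
    rw [hρval, Equiv.Perm.one_apply] at this
    have h1 : l * a * l⁻¹ = a := by rw [← hval l ⟨⟨a, ha⟩, fun e => ha1 (congrArg Subtype.val e)⟩, this]
    exact mul_inv_eq_iff_eq_mul.1 h1
  -- `A` is inside `L`
  have hAL : A ≤ L := by
    have heven : 2 ∣ Nat.card L := by
      by_contra h2
      exact hLs (Cfsg.Agent.PF.isSolvable_of_odd _ (Nat.not_even_iff_odd.1 fun he => h2 he.two_dvd))
    obtain ⟨⟨a, haL⟩, ha⟩ := exists_prime_orderOf_dvd_card' (G := L) 2 heven
    rw [Subgroup.orderOf_mk] at ha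
    have haa : a * a = 1 := by
      have := pow_orderOf_eq_one a
      rwa [ha, _root_.sq] at this
    have ha1 : a ≠ 1 := fun e => by rw [e, orderOf_one] at ha; omega
    intro b hb
    by_cases hb1 : b = 1
    · exact hb1 ▸ one_mem _
    obtain ⟨g, rfl⟩ := htr a b (hinv a haa) hb ha1 hb1
    exact hLn.conj_mem a haL g
  obtain ⟨a₀, ha₀, -⟩ := exists_third (V := A) h4 1
  set AL := A.subgroupOf L with hALdef
  have hALc : AL ≤ center L := fun a ha => mem_center_iff.2 fun l => Subtype.ext (hfix l l.2 a ha)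
  haveI : AL.Normal := inferInstance
  have hcore : Core L AL := by
    refine ⟨hALc, fun a ha => Subtype.ext (hsq _ ha), fun x hx => hinv _ (congrArg Subtype.val hx),
      fun T x hx => ?_, hperf, GenDihedral.noOdd_sub (noOdd_of_core hO) L,
      (nontrivial_iff_ne_bot L).2 fun e => ha₀ (Subtype.ext (mem_bot.1 (e ▸ hAL a₀.2)))⟩
    have hAT : ∀ {b : X} (hb : b ∈ A), (⟨b, hAL hb⟩ : L) ∈ (T : Subgroup L) := by
      intro b hb
      have h2 : IsPGroup 2 AL := fun a => ⟨1, Subtype.ext (Subtype.ext (by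
        rw [pow_one, SubmonoidClass.coe_pow, SubmonoidClass.coe_pow, _root_.sq]; exact hsq _ a.2))⟩
      obtain ⟨R, hR⟩ := h2.exists_le_sylow
      obtain ⟨g, hg⟩ := MulAction.exists_smul_eq L R T
      rw [← hg, Sylow.coe_subgroup_smul]
      refine ⟨⟨b, hAL hb⟩, hR hb, ?_⟩
      show g * (⟨b, hAL hb⟩ : L) * g⁻¹ = ⟨b, hAL hb⟩
      rw [mem_center_iff.1 (hALc (show (⟨b, hAL hb⟩ : L) ∈ AL from hb)) g, mul_inv_cancel_right]
    by_cases hTc : IsMulCommutative (T : Subgroup L)
    · exfalso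
      haveI := hTc
      exact ha₀ (Subtype.ext (congrArg Subtype.val (Transfer.eq_one_of_mem_commutator_of_central (T : Subgroup L)
        T.card_coprime_index (hAT a₀.2) (hperf ▸ mem_top _) (hALc (show (⟨(a₀ : X), hAL a₀.2⟩ : L) ∈ AL from a₀.2))) :))
    -- an element of the normaliser transitive on the involutions
    set Tx := (T : Subgroup L).map L.subtype with hTx
    set N := normalizer (Tx : Set X) with hN
    have htrN : MulAction.IsPretransitive (ρ.comp N.subtype).range (NonId A) := ⟨fun a b => by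
      obtain ⟨g, hg⟩ := MulAction.exists_smul_eq X a b
      have hmem : g ∈ L ⊔ N := by rw [hN, hTx, sup_comm, Sylow.normalizer_sup_eq_top]; exact mem_top g
      obtain ⟨l, hl, n, hn, rfl⟩ := Subgroup.mem_sup_of_normal_left.1 hmem
      refine ⟨⟨ρ n, ⟨n, hn⟩, rfl⟩, ?_⟩
      show ρ n a = b
      rw [← hg, ← hρval, map_mul, MonoidHom.mem_ker.1 (hLM hl), one_mul]⟩
    have hpd : p ∣ Nat.card (ρ.comp N.subtype).range := by
      obtain ⟨a⟩ : Nonempty (NonId A) := (Nat.card_pos_iff.1 (hΩ ▸ hp.pos)).1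
      have h1 := MulAction.index_stabilizer_of_transitive (ρ.comp N.subtype).range a
      rw [hΩ] at h1
      exact h1 ▸ index_dvd_card _
    obtain ⟨⟨π, n, rfl⟩, hπ⟩ := exists_prime_orderOf_dvd_card' (G := (ρ.comp N.subtype).range) p hpd
    have hπ : orderOf ((ρ.comp N.subtype) n) = p := (Subgroup.orderOf_coe _).trans hπ
    have hcyc := Equiv.Perm.isCycle_of_prime_order' (σ := ρ.comp N.subtype n) (hπ ▸ hp)
      (by rw [hπ, ← Nat.card_eq_fintype_card, hΩ]; have := hp.pos; omega)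
    have hsupp : (ρ.comp N.subtype n).support = Finset.univ := Finset.eq_univ_of_card _ (by
      rw [← hcyc.orderOf, hπ, ← Nat.card_eq_fintype_card, hΩ])
    set T' : Subgroup N := Tx.subgroupOf N with hT'
    haveI : T'.Normal := normal_in_normalizer
    have hTN : Tx ≤ N := le_normalizer
    have hmemT' : ∀ {b : X} (hb : b ∈ A), ∃ w : T', ((w : N) : X) = b := fun {b} hb =>
      ⟨⟨⟨b, hTN ⟨_, hAT hb, rfl⟩⟩, show b ∈ Tx from ⟨_, hAT hb, rfl⟩⟩, rfl⟩
    have hT'2 : IsPGroup 2 T' :=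
      (T.2.map L.subtype).comap_of_injective N.subtype N.subtype_injective
    have hna : ¬ IsMulCommutative T' := fun hc => hTc ⟨⟨fun a b => by
      have ha : (a : L).1 ∈ Tx := ⟨a, a.2, rfl⟩
      have hb : (b : L).1 ∈ Tx := ⟨b, b.2, rfl⟩
      have := hc.is_comm.comm (⟨⟨_, hTN ha⟩, ha⟩ : T') ⟨⟨_, hTN hb⟩, hb⟩
      exact Subtype.ext (Subtype.ext (congrArg (fun w : T' => ((w : N) : X)) this))⟩⟩
    have hiff : ∀ {w : T'}, w ≠ 1 → w ^ 2 = 1 → ∃ c : (NonId A), ((c.1 : A) : X) = ((w : N) : X) := fun {w} h1 h2 =>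
      ⟨⟨⟨_, hinv _ (by rw [← _root_.sq]; exact congrArg (fun w : T' => ((w : N) : X)) h2)⟩,
        fun e => h1 (Subtype.ext (Subtype.ext (congrArg Subtype.val e :)))⟩, rfl⟩
    obtain ⟨-, hZ, hsqc⟩ := Cfsg.Agent.S3776.result hT'2 hna (by
      obtain ⟨b₀, hb₀, hb₀'⟩ := exists_third (V := A) h4 a₀
      obtain ⟨wa, hwa⟩ := hmemT' a₀.2
      obtain ⟨wb, hwb⟩ := hmemT' b₀.2
      have sqw : ∀ {w : T'} {b : A}, ((w : N) : X) = b → w ^ 2 = 1 := fun {w b} e =>
        Subtype.ext (Subtype.ext (by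
          rw [SubmonoidClass.coe_pow, SubmonoidClass.coe_pow, e, _root_.sq]; exact hsq _ b.2))
      refine ⟨wa, wb, fun e => hb₀' (Subtype.ext ?_), fun e => ha₀ (Subtype.ext ?_), sqw hwa,
        fun e => hb₀ (Subtype.ext ?_), sqw hwb⟩
      · rw [← hwa, ← hwb, e]
      · rw [← hwa, e]; rfl
      · rw [← hwb, e]; rfl)
      ⟨zpowers (MulAut.conjNormal (H := T') n), Group.isSolvable_of_comm fun a b => mul_comm' a b,
        fun x y hx hx2 hy hy2 => by
          obtain ⟨a, ha⟩ := hiff hx hx2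
          obtain ⟨b, hb⟩ := hiff hy hy2
          have hmv : ∀ c : (NonId A), (ρ.comp N.subtype n) c ≠ c := fun c =>
            Equiv.Perm.mem_support.1 (hsupp ▸ Finset.mem_univ c)
          obtain ⟨i, hi⟩ := hcyc.exists_zpow_eq (hmv a) (hmv b)
          refine ⟨MulAut.conjNormal n ^ i, zpow_mem (mem_zpowers _) i, ?_⟩
          rw [← map_zpow] at hi ⊢
          refine Subtype.ext (Subtype.ext ?_)
          rw [MulAut.conjNormal_apply]
          show ((n ^ i : N) : X) * ((x : N) : X) * ((n ^ i : N) : X)⁻¹ = ((y : N) : X)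
          rw [← ha, ← hb, ← hi]
          rfl⟩
    have hxT : ((x : L) : X) ∈ Tx := ⟨x, hx, rfl⟩
    set w : T' := ⟨⟨_, hTN hxT⟩, hxT⟩
    have hfr : w ^ 2 ∈ frattini T' := PGroups.pow_mem_frattini hT'2 w
    rw [hZ, hsqc] at hfr
    show ((x * x : L) : X) ∈ A
    refine hinv _ ?_
    have := congrArg (fun z : T' => ((z : N) : X)) hfr
    simpa [_root_.sq, mul_assoc] using this
  -- the squares fill all of `A`
  obtain ⟨z, hz⟩ := hcore.exists_val
  have hz1 := hcore.val_ne_one hz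
  have hzA : (z : X) ∈ A := by
    obtain ⟨S, -, x, -, -, -, hzA⟩ := hz
    exact hzA
  have hall : ∀ b : L, (b : X) ∈ A → b ≠ 1 → Val AL b := by
    intro b hb hb1
    obtain ⟨g, hg⟩ := htr z b hzA hb (fun e => hz1 (Subtype.ext e)) (fun e => hb1 (Subtype.ext e))
    have hφ : AL.map (MulAut.conjNormal (H := L) g).toMonoidHom = AL := by
      refine le_antisymm ?_ fun a ha => ⟨MulAut.conjNormal (H := L) g⁻¹ a, ?_, ?_⟩
      · rintro _ ⟨a, ha, rfl⟩
        show ((MulAut.conjNormal g a : L) : X) ∈ A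
        rw [MulAut.conjNormal_apply]
        exact (inferInstance : A.Normal).conj_mem _ ha g
      · show ((MulAut.conjNormal g⁻¹ a : L) : X) ∈ A
        rw [MulAut.conjNormal_apply]
        exact (inferInstance : A.Normal).conj_mem _ ha g⁻¹
      · show MulAut.conjNormal g (MulAut.conjNormal g⁻¹ a) = a
        rw [← MulAut.mul_apply, ← map_mul, mul_inv_cancel, map_one]; rfl
    have := hz.map _ hφ
    rwa [show MulAut.conjNormal (H := L) g z = b from Subtype.ext (by rw [MulAut.conjNormal_apply, hg])] at this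
  obtain ⟨b₀, hb₀, hb₀'⟩ := exists_third (V := A) h4 a₀
  have hab : (a₀ : X) ≠ b₀ := fun e => hb₀' (Subtype.ext e.symm)
  refine hcore.val_relation (a := ⟨(a₀ : X), hAL a₀.2⟩) (b := ⟨(b₀ : X), hAL b₀.2⟩)
    (fun e => hab (congrArg Subtype.val e :)) (hall _ a₀.2 fun e => ha₀ (Subtype.ext (congrArg Subtype.val e :)))
    (hall _ b₀.2 fun e => hb₀ (Subtype.ext (congrArg Subtype.val e :)))
    (hall _ (mul_mem a₀.2 b₀.2) fun e => ?_)
  have h1 : (a₀ : X) * b₀ = 1 := congrArg Subtype.val e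
  exact hab ((eq_inv_of_mul_eq_one_left h1).trans (inv_eq_of_mul_eq_one_left (hsq _ b₀.2)))

end Cfsg.Lib.Pyramidal
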