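import Cfsg.Agent.Pyramidal.Base

/-!
# A group with all involutions in a normal elementary subgroup on which it is doubly transitive

The descent to the centraliser of a Sylow subgroup of a two-point stabiliser.
-/

set_option autoImplicit false
set_option linter.style.haveILetI false
set_option linter.unusedSectionVars false

namespace Cfsg.Lib.Pyramidal

open Subgroup

universe u

/-- All involutions lie in the normal elementary subgroup `A`, doubly transitively permuted. -/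
structure TwoCfg (Y : Type u) [Group Y] (A : Subgroup Y) : Prop where
  normal : A.Normal
  sq : ∀ a ∈ A, a * a = 1
  invol : ∀ x : Y, x * x = 1 → x ∈ A
  two : ∀ a b c d : Y, a ∈ A → b ∈ A → c ∈ A → d ∈ A → a ≠ 1 → b ≠ 1 → a ≠ b → c ≠ 1 → d ≠ 1 → c ≠ d →
    ∃ g : Y, g * a * g⁻¹ = c ∧ g * b * g⁻¹ = d
  card : 4 ≤ Nat.card A

/-- No such group with a subgroup of order 8. -/
def NoThree : Prop :=
  ∀ (Y : Type u) [Group Y] [Finite Y] (A : Subgroup Y) [A.Normal], TwoCfg Y A → Nat.card A = 8 →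
    Function.Surjective (MulAut.conjNormal (H := A)) → False

variable {Y : Type u} [Group Y] [Finite Y] {A : Subgroup Y}

theorem commute_of_inf_eq_bot {R : Subgroup Y} (hA : A.Normal) (hd : A ⊓ R = ⊥) {a r : Y} (ha : a ∈ A)
    (hn : a ∈ normalizer (R : Set Y)) (hr : r ∈ R) : a * r = r * a := by
  have h1 : a * r * a⁻¹ * r⁻¹ ∈ A ⊓ R := by
    refine mem_inf.2 ⟨?_, mul_mem ((mem_normalizer_iff.1 hn r).1 hr) (inv_mem hr)⟩
    rw [show a * r * a⁻¹ * r⁻¹ = a * (r * a⁻¹ * r⁻¹) by group]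
    exact mul_mem ha (hA.conj_mem _ (inv_mem ha) r)
  rw [hd, mem_bot, mul_inv_eq_one, mul_inv_eq_iff_eq_mul] at h1
  exact h1

theorem inf_eq_bot_of_odd (hA : ∀ a ∈ A, a * a = 1) {R : Subgroup Y} (hR : Odd (Nat.card R)) : A ⊓ R = ⊥ :=
  eq_bot_iff.2 fun a ⟨haA, haR⟩ => by
    have h1 : orderOf a ∣ 2 := orderOf_dvd_of_pow_eq_one (by rw [sq]; exact hA a haA)
    have h2 := Subgroup.orderOf_dvd_natCard _ haR
    rcases (Nat.dvd_prime Nat.prime_two).1 h1 with e | e
    · exact mem_bot.2 (orderOf_eq_one_iff.1 e)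
    · exact absurd (e ▸ h2) (Nat.not_even_iff_odd.2 hR <| even_iff_two_dvd.2 ·)

/-- An element of odd order fixing two members of `A` but not all of them gives a smaller configuration. -/
theorem descend (h : TwoCfg Y A) {x y g : Y} (hx : x ∈ A) (hy : y ∈ A) (hx1 : x ≠ 1) (hy1 : y ≠ 1) (hxy : x ≠ y)
    (hgx : g * x = x * g) (hgy : g * y = y * g) (hgo : Odd (orderOf g)) {a : Y} (ha : a ∈ A)
    (hga : g * a ≠ a * g) :
    ∃ (N : Subgroup Y) (B : Subgroup N), TwoCfg N B ∧ Nat.card B < Nat.card A := by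
  classical
  haveI := h.normal
  -- an element of odd prime power order with the same property
  obtain ⟨r, hr, g₁, hg₁, hrg, hg₁a⟩ : ∃ r : ℕ, r.Prime ∧ ∃ g₁ ∈ zpowers g,
      (∃ j : ℕ, orderOf g₁ = r ^ j) ∧ g₁ * a ≠ a * g₁ := by
    set C := centralizer ({a} : Set Y)
    set K := C.subgroupOf (zpowers g)
    by_contra hno
    push Not at hno
    have hidx : K.index ≠ 1 := fun e => by
      rw [Subgroup.index_eq_one] at e
      have h1 : (⟨g, mem_zpowers g⟩ : zpowers g) ∈ K := e ▸ mem_top _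
      exact hga (mem_centralizer_singleton_iff.1 (mem_subgroupOf.1 h1))
    obtain ⟨r, hr, hrd⟩ := Nat.exists_prime_and_dvd hidx
    haveI := Fact.mk hr
    obtain ⟨P⟩ : Nonempty (Sylow r (zpowers g)) := inferInstance
    refine P.not_dvd_index (hrd.trans (Subgroup.index_dvd_of_le fun w hw => ?_))
    obtain ⟨j, hj⟩ := P.2 ⟨w, hw⟩
    have hj' : (w : Y) ^ r ^ j = 1 := congrArg (fun z : (P : Subgroup (zpowers g)) => ((z : zpowers g) : Y)) hj
    obtain ⟨i, -, hi⟩ := (Nat.dvd_prime_pow hr).1 (orderOf_dvd_of_pow_eq_one hj')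
    exact mem_subgroupOf.2 (mem_centralizer_singleton_iff.2 (hno r hr w w.2 ⟨i, hi⟩))
  haveI := Fact.mk hr
  have hg₁o : Odd (orderOf g₁) := Odd.of_dvd_nat hgo (by
    rw [← Nat.card_zpowers, ← Nat.card_zpowers]; exact Subgroup.card_dvd_of_le (zpowers_le.2 hg₁))
  have hg₁1 : g₁ ≠ 1 := fun e => hg₁a (by rw [e, one_mul, mul_one])
  have hr2 : r ≠ 2 := by
    obtain ⟨j, hj⟩ := hrg
    rintro rfl
    rcases j with _ | j
    · exact hg₁1 (orderOf_eq_one_iff.1 (by rw [hj, pow_zero]))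
    · exact Nat.not_even_iff_odd.2 hg₁o ⟨2 ^ j, by rw [hj, pow_succ, mul_two]⟩
  set H : Subgroup Y := centralizer ({x, y} : Set Y) with hH
  have hgH : g ∈ H := mem_centralizer_iff.2 fun z hz => by
    rcases hz with rfl | hz
    · exact hgx.symm
    · rw [Set.mem_singleton_iff.1 hz]; exact hgy.symm
  have hg₁H : g₁ ∈ H := zpowers_le.2 hgH hg₁
  obtain ⟨j, hj⟩ := hrg
  obtain ⟨P, hP⟩ := (IsPGroup.of_card (p := r) (n := j)
    (show Nat.card (zpowers (⟨g₁, hg₁H⟩ : H)) = r ^ j by rw [Nat.card_zpowers, Subgroup.orderOf_mk, hj])).exists_le_sylow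
  set R : Subgroup Y := (P : Subgroup H).map H.subtype with hR
  have hRH : R ≤ H := map_subtype_le _
  have hRodd : Odd (Nat.card R) := by
    obtain ⟨m, hm⟩ := IsPGroup.iff_card.1 (P.2.map H.subtype)
    rw [hR, hm]
    exact (hr.odd_of_ne_two hr2).pow
  have hg₁R : g₁ ∈ R := ⟨⟨g₁, hg₁H⟩, hP (mem_zpowers _), rfl⟩
  set N : Subgroup Y := normalizer (R : Set Y) with hN
  set B : Subgroup N := (A ⊓ centralizer (R : Set Y)).subgroupOf N with hB
  have hle : A ⊓ centralizer (R : Set Y) ≤ N := inf_le_right.trans (centralizer_le_normalizer _)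
  have hBcard : Nat.card B = Nat.card ↥(A ⊓ centralizer (R : Set Y)) :=
    Nat.card_congr (subgroupOfEquivOfLe hle).toEquiv
  have hxC : x ∈ A ⊓ centralizer (R : Set Y) := mem_inf.2 ⟨hx, mem_centralizer_iff.2 fun w hw =>
    (mem_centralizer_iff.1 (hRH hw) x (Or.inl rfl)).symm⟩
  have hyC : y ∈ A ⊓ centralizer (R : Set Y) := mem_inf.2 ⟨hy, mem_centralizer_iff.2 fun w hw =>
    (mem_centralizer_iff.1 (hRH hw) y (Or.inr rfl)).symm⟩
  have hAC : ∀ w : N, (w : Y) ∈ A → w ∈ B := fun w hw => mem_subgroupOf.2 (mem_inf.2 ⟨hw,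
    mem_centralizer_iff.2 fun s hs => (commute_of_inf_eq_bot h.normal (inf_eq_bot_of_odd h.sq hRodd) hw w.2 hs).symm⟩)
  have hBA : ∀ {w : N}, w ∈ B → (w : Y) ∈ A := fun hw => (mem_subgroupOf.1 hw).1
  refine ⟨N, B, ⟨⟨fun w hw n => hAC _ ?_⟩, fun w hw => Subtype.ext (h.sq _ (hBA hw)), fun w hw =>
    hAC w (h.invol _ (congrArg Subtype.val hw)), ?_, ?_⟩, ?_⟩
  · exact h.normal.conj_mem _ (hBA hw) _
  · -- Witt's lemma
    intro b c b' c' hb hc hb' hc' hb1 hc1 hbc hb'1 hc'1 hbc'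
    have key : ∀ u v : N, u ∈ B → v ∈ B → (u : Y) ≠ 1 → (v : Y) ≠ 1 → (u : Y) ≠ v →
        ∃ m ∈ N, m * x * m⁻¹ = (u : Y) ∧ m * y * m⁻¹ = (v : Y) := by
      intro u v hu hv hu1 hv1 huv
      obtain ⟨m, hmx, hmy⟩ := h.two x y u v hx hy (hBA hu) (hBA hv) hx1 hy1 hxy hu1 hv1 huv
      have hle' : R.map (MulAut.conj m⁻¹).toMonoidHom ≤ H := by
        rintro _ ⟨w, hw, rfl⟩
        refine mem_centralizer_iff.2 fun z hz => ?_
        show z * (m⁻¹ * w * m⁻¹⁻¹) = m⁻¹ * w * m⁻¹⁻¹ * z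
        have e : ∀ q : Y, q * w = w * q → (m⁻¹ * q * m) * (m⁻¹ * w * m⁻¹⁻¹) =
            (m⁻¹ * w * m⁻¹⁻¹) * (m⁻¹ * q * m) := fun q hq => by
          calc _ = m⁻¹ * (q * w) * m := by group
            _ = m⁻¹ * (w * q) * m := by rw [hq]
            _ = _ := by group
        rcases hz with rfl | hz
        · have := e u (mem_centralizer_iff.1 (mem_subgroupOf.1 hu).2 w hw).symm
          rwa [← hmx, show m⁻¹ * (m * z * m⁻¹) * m = z by group] at this
        · rw [Set.mem_singleton_iff.1 hz]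
          have := e v (mem_centralizer_iff.1 (mem_subgroupOf.1 hv).2 w hw).symm
          rwa [← hmy, show m⁻¹ * (m * y * m⁻¹) * m = y by group] at this
      have hp' : IsPGroup r ((R.map (MulAut.conj m⁻¹).toMonoidHom).subgroupOf H) :=
        (((P.2.map H.subtype).map _)).comap_of_injective H.subtype H.subtype_injective
      obtain ⟨Q, hQ⟩ := hp'.exists_le_sylow
      have hQeq : (R.map (MulAut.conj m⁻¹).toMonoidHom).subgroupOf H = Q := by
        refine eq_of_le_of_card_ge hQ (le_of_eq ?_)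
        rw [Nat.card_congr (subgroupOfEquivOfLe hle').toEquiv,
          Nat.card_congr (R.equivMapOfInjective _ (MulEquiv.injective _)).symm.toEquiv, hR,
          Nat.card_congr ((P : Subgroup H).equivMapOfInjective _ H.subtype_injective).symm.toEquiv,
          Sylow.card_eq_multiplicity, Sylow.card_eq_multiplicity]
      obtain ⟨k, hk⟩ := MulAction.exists_smul_eq H P Q
      refine ⟨m * (k : Y), ?_, ?_, ?_⟩
      · rw [hN]
        refine mem_normalizer_iff.2 fun w => ?_
        have hkR : R.map (MulAut.conj (k : Y)).toMonoidHom = R.map (MulAut.conj m⁻¹).toMonoidHom := by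
          have e1 : ((k • P : Sylow r H) : Subgroup H).map H.subtype = R.map (MulAut.conj m⁻¹).toMonoidHom := by
            rw [hk, ← hQeq, map_subgroupOf_eq_of_le hle']
          rw [← e1, Sylow.coe_subgroup_smul, hR]
          ext z
          constructor
          · rintro ⟨_, ⟨p, hp, rfl⟩, rfl⟩
            exact ⟨_, ⟨p, hp, rfl⟩, rfl⟩
          · rintro ⟨_, ⟨p, hp, rfl⟩, rfl⟩
            exact ⟨_, ⟨p, hp, rfl⟩, rfl⟩
        have hR' : R.map (MulAut.conj (m * (k : Y))).toMonoidHom = R := by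
          rw [map_mul, show (MulAut.conj m * MulAut.conj (k : Y)).toMonoidHom =
            (MulAut.conj m).toMonoidHom.comp (MulAut.conj (k : Y)).toMonoidHom from rfl, ← Subgroup.map_map, hkR,
            Subgroup.map_map]
          conv_rhs => rw [← Subgroup.map_id R]
          congr 1
          ext z
          simp [mul_assoc]
        constructor
        · intro hw
          rw [← hR']
          exact ⟨w, hw, rfl⟩
        · intro hw
          rw [← hR'] at hw
          obtain ⟨w', hw', e⟩ := hw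
          have : w' = w := (MulAut.conj (m * (k : Y))).injective e
          rwa [← this]
      · rw [← hmx]
        have := mem_centralizer_iff.1 k.2 x (Or.inl rfl)
        calc m * k * x * (m * k)⁻¹ = m * ((k : Y) * x) * (k : Y)⁻¹ * m⁻¹ := by group
          _ = _ := by rw [← this]; group
      · rw [← hmy]
        have := mem_centralizer_iff.1 k.2 y (Or.inr rfl)
        calc m * k * y * (m * k)⁻¹ = m * ((k : Y) * y) * (k : Y)⁻¹ * m⁻¹ := by group
          _ = _ := by rw [← this]; group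
    have nz : ∀ {u : N}, u ≠ 1 → (u : Y) ≠ 1 := fun hu e => hu (Subtype.ext e)
    obtain ⟨m₁, hm₁, e₁, f₁⟩ := key b c hb hc (nz hb1) (nz hc1) (fun e => hbc (Subtype.ext e))
    obtain ⟨m₂, hm₂, e₂, f₂⟩ := key b' c' hb' hc' (nz hb'1) (nz hc'1) (fun e => hbc' (Subtype.ext e))
    refine ⟨⟨m₂, hm₂⟩ * (⟨m₁, hm₁⟩ : N)⁻¹, Subtype.ext ?_, Subtype.ext ?_⟩
    · show m₂ * m₁⁻¹ * b * (m₂ * m₁⁻¹)⁻¹ = (b' : Y)
      rw [← e₁, ← e₂]; group
    · show m₂ * m₁⁻¹ * c * (m₂ * m₁⁻¹)⁻¹ = (c' : Y)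
      rw [← f₁, ← f₂]; group
  · rw [hBcard]
    set C := A ⊓ centralizer (R : Set Y)
    have hp : IsPGroup 2 C := fun w => ⟨1, Subtype.ext (by rw [pow_one, sq]; exact h.sq _ w.2.1)⟩
    obtain ⟨n, hn⟩ := IsPGroup.iff_card.1 hp
    rcases n with _ | _ | n
    · exact absurd (congrArg Subtype.val ((Nat.card_eq_one_iff_unique.1 hn).1.elim ⟨x, hxC⟩ 1)) hx1
    · exfalso
      obtain ⟨u, v, -, huv⟩ := Nat.card_eq_two_iff.1 hn
      have h3 : ∀ w : C, w = u ∨ w = v := fun w => by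
        have := (huv ▸ Set.mem_univ w : w ∈ ({u, v} : Set C))
        simpa using this
      have hne : (⟨x, hxC⟩ : C) ≠ ⟨y, hyC⟩ := fun e => hxy (congrArg Subtype.val e)
      have hne1 : (⟨x, hxC⟩ : C) ≠ 1 := fun e => hx1 (congrArg Subtype.val e)
      have hne2 : (⟨y, hyC⟩ : C) ≠ 1 := fun e => hy1 (congrArg Subtype.val e)
      rcases h3 ⟨x, hxC⟩ with e1 | e1 <;> rcases h3 ⟨y, hyC⟩ with e2 | e2 <;> rcases h3 1 with e3 | e3 <;>
        simp_all
    · rw [hn, pow_succ, pow_succ]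
      have := Nat.one_le_two_pow (n := n)
      omega
  · rw [hBcard]
    refine lt_of_le_of_ne (Subgroup.card_le_of_le inf_le_left) fun e => hg₁a ?_
    have := eq_of_le_of_card_ge (inf_le_left : A ⊓ centralizer (R : Set Y) ≤ A) e.ge
    exact mem_centralizer_iff.1 (this.ge ha).2 g₁ hg₁R

theorem small_range (h : TwoCfg Y A) [A.Normal]
    (hb : ∀ x y g : Y, x ∈ A → y ∈ A → x ≠ 1 → y ≠ 1 → x ≠ y → g * x = x * g → g * y = y * g →
      Odd (orderOf g) → ∀ a ∈ A, g * a = a * g) :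
    Small (MulAut.conjNormal (H := A)).range := by
  set φ := MulAut.conjNormal (H := A)
  refine ⟨fun v => Subtype.ext (h.sq _ v.2), fun a b c d ha hb hab hc hd hcd => ?_, ?_⟩
  · obtain ⟨g, h1, h2⟩ := h.two a b c d a.2 b.2 c.2 d.2 (fun e => ha (Subtype.ext e))
      (fun e => hb (Subtype.ext e)) (fun e => hab (Subtype.ext e)) (fun e => hc (Subtype.ext e))
      (fun e => hd (Subtype.ext e)) (fun e => hcd (Subtype.ext e))
    exact ⟨φ g, ⟨g, rfl⟩, Subtype.ext h1, Subtype.ext h2⟩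
  · rintro q ⟨g, rfl⟩ hodd a b ha hb' hab hqa hqb
    obtain ⟨s, m, hm, hgm⟩ := Nat.exists_eq_pow_mul_and_not_dvd (orderOf_pos g).ne' 2 (by norm_num)
    set g' := g ^ 2 ^ s with hg'
    have ho : Odd (orderOf g') := by
      rw [orderOf_pow_of_dvd (pow_ne_zero _ two_ne_zero) (hgm ▸ Dvd.intro m rfl), hgm,
        Nat.mul_div_cancel_left _ (pow_pos (by norm_num) s)]
      exact Nat.not_even_iff_odd.1 fun he => hm (even_iff_two_dvd.1 he)
    have fix : ∀ w : A, φ g w = w → g' * w = w * g' := fun w hw => by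
      have h2 : g * w * g⁻¹ = w := congrArg Subtype.val hw
      exact ((show Commute g (w : Y) from mul_inv_eq_iff_eq_mul.1 h2).pow_left _)
    have h1 : φ g ^ 2 ^ s = 1 := by
      rw [← map_pow]
      refine MulEquiv.ext fun w => Subtype.ext ?_
      show g' * w * g'⁻¹ = w
      rw [hb a b g' a.2 b.2 (fun e => ha (Subtype.ext e)) (fun e => hb' (Subtype.ext e))
        (fun e => hab (Subtype.ext e)) (fix a hqa) (fix b hqb) ho w w.2, mul_inv_cancel_right]
    obtain ⟨i, -, hi⟩ := (Nat.dvd_prime_pow Nat.prime_two).1 (orderOf_dvd_of_pow_eq_one h1)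
    rcases i with _ | i
    · exact orderOf_eq_one_iff.1 (by rw [hi, pow_zero])
    · exact absurd hodd (Nat.not_odd_iff_even.2 ⟨2 ^ i, by rw [hi, pow_succ, mul_two]⟩)

/-- Order four. -/
theorem not_four (h : TwoCfg Y A) [A.Normal] (hs : Small (MulAut.conjNormal (H := A)).range)
    (hc : Nat.card A = 4) : False := by
  classical
  set φ := MulAut.conjNormal (H := A)
  haveI := Fact.mk Nat.prime_three
  haveI : Fintype A := Fintype.ofFinite A
  haveI : Finite (MulAut A) := Finite.of_injective (fun e => (e : A → A)) DFunLike.coe_injective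
  obtain ⟨x, hx, -⟩ := exists_third (V := A) hc.ge 1
  obtain ⟨y, hy, hyx⟩ := exists_third (V := A) hc.ge x
  have hgen : ∀ v : A, v = 1 ∨ v = x ∨ v = y ∨ v = x * y := by
    intro v
    by_contra hv
    push Not at hv
    have h5 : ({1, x, y, x * y, v} : Finset A).card = 5 := by
      have hxy : x * y ≠ 1 := fun e => hyx ((mul_eq_one_iff_of_sq hs.sq).1 e)
      have e1 : x ≠ x * y := fun e => hy (mul_left_cancel (a := x) (by rw [← e, mul_one]))
      have e2 : y ≠ x * y := fun e => hx (mul_right_cancel (b := y) (by rw [← e, one_mul]))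
      simp [hx, hy, Ne.symm hyx, hxy.symm, e1, e2, Ne.symm hv.1, Ne.symm hv.2.1, Ne.symm hv.2.2.1,
        Ne.symm hv.2.2.2, Ne.symm hx, Ne.symm hy]
    have := Finset.card_le_univ ({1, x, y, x * y, v} : Finset A)
    rw [h5, ← Nat.card_eq_fintype_card, hc] at this
    omega
  -- the six elements
  set T := {p : A × A // p.1 ≠ 1 ∧ p.2 ≠ 1 ∧ p.1 ≠ p.2}
  have hT : Nat.card T = 6 := by
    obtain ⟨e⟩ : Nonempty (A ≃ Fin 4) := ⟨Finite.equivFinOfCardEq hc⟩
    let e' : A ≃ Fin 4 := e.trans (Equiv.swap (e 1) 0)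
    have he : e' 1 = 0 := by simp [e']
    have hne : ∀ a : A, a ≠ 1 ↔ e' a ≠ 0 := fun a => by rw [← he, e'.injective.ne_iff]
    rw [Nat.card_congr (Equiv.subtypeEquiv (p := fun p : A × A => p.1 ≠ 1 ∧ p.2 ≠ 1 ∧ p.1 ≠ p.2)
      (q := fun p : Fin 4 × Fin 4 => p.1 ≠ 0 ∧ p.2 ≠ 0 ∧ p.1 ≠ p.2) (e'.prodCongr e') fun p => by
        simp [hne]), Nat.card_eq_fintype_card]
    decide
  have hQ : Nat.card φ.range = 6 := by
    rw [← hT]
    refine Nat.card_eq_of_bijective (fun q => (⟨((q : MulAut A) x, (q : MulAut A) y),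
      fun e => hx ((q : MulAut A).map_eq_one_iff.1 e), fun e => hy ((q : MulAut A).map_eq_one_iff.1 e),
      fun e => hyx ((q : MulAut A).injective e).symm⟩ : T)) ⟨fun p q e => ?_, fun t => ?_⟩
    · have e1 := congrArg (fun t : T => t.1.1) e
      have e2 := congrArg (fun t : T => t.1.2) e
      refine Subtype.ext (MulEquiv.ext fun v => ?_)
      rcases hgen v with rfl | rfl | rfl | rfl
      · simp only [map_one]
      · exact e1
      · exact e2
      · simp only [map_mul]; exact congrArg₂ (· * ·) e1 e2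
    · obtain ⟨q, hq, h1, h2⟩ := hs.two x y t.1.1 t.1.2 hx hy (Ne.symm hyx) t.2.1 t.2.2.1 t.2.2.2
      exact ⟨⟨q, hq⟩, Subtype.ext (Prod.ext h1 h2)⟩
  obtain ⟨R⟩ : Nonempty (Sylow 3 Y) := inferInstance
  have hker : φ.ker.index = 6 := by rw [Subgroup.index_ker, hQ]
  set K := (R : Subgroup Y) ⊔ φ.ker with hK
  obtain ⟨r, hrR, hr⟩ : ∃ r ∈ (R : Subgroup Y), φ r ≠ 1 := by
    by_contra hno
    push Not at hno
    exact R.not_dvd_index ((show 3 ∣ φ.ker.index by rw [hker]; norm_num).trans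
      (Subgroup.index_dvd_of_le fun w hw => hno w hw))
  have hK2 : K.index = 2 := by
    have hd := Subgroup.index_dvd_of_le (le_sup_right : φ.ker ≤ K)
    rw [hker] at hd
    have h3 : ¬ 3 ∣ K.index := fun h3 => R.not_dvd_index (h3.trans (Subgroup.index_dvd_of_le le_sup_left))
    have hne : K.index ≠ 1 := fun e1 => by
      have hrel : φ.ker.relIndex K = 6 := by
        have := Subgroup.relIndex_mul_index (le_sup_right : φ.ker ≤ K)
        rwa [hker, e1, mul_one] at this
      rw [hK, Subgroup.relIndex_sup_right] at hrel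
      obtain ⟨n, hn⟩ := IsPGroup.iff_card.1 R.2
      have := Subgroup.relIndex_dvd_card φ.ker (R : Subgroup Y)
      rw [hrel, hn] at this
      exact absurd (Nat.prime_two.dvd_of_dvd_pow ((show 2 ∣ 6 by norm_num).trans this)) (by norm_num)
    have := Nat.le_of_dvd (by norm_num) hd
    interval_cases K.index <;> omega
  haveI : K.Normal := Subgroup.normal_of_index_eq_two hK2
  have hfr : normalizer ((R : Subgroup Y) : Set Y) ⊔ K = ⊤ :=
    Sylow.normalizer_sup_eq_top' R (N := K) le_sup_left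
  have heven : 2 ∣ Nat.card ↥(normalizer ((R : Subgroup Y) : Set Y)) := by
    have := Subgroup.relIndex_dvd_card K (normalizer ((R : Subgroup Y) : Set Y))
    rwa [← Subgroup.relIndex_sup_right, hfr, Subgroup.relIndex_top_right, hK2] at this
  haveI := Fact.mk Nat.prime_two
  obtain ⟨a, ha⟩ := exists_prime_orderOf_dvd_card' 2 heven
  have haY : orderOf (a : Y) = 2 := by rw [orderOf_coe]; exact ha
  have haa : (a : Y) * a = 1 := by
    have := pow_orderOf_eq_one (a : Y)
    rwa [haY, sq] at this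
  have haA := h.invol _ haa
  have hRodd : Odd (Nat.card (R : Subgroup Y)) := by
    obtain ⟨m, hm⟩ := IsPGroup.iff_card.1 R.2
    rw [hm]; exact (by decide : Odd 3).pow
  have hra : φ r ⟨a, haA⟩ = ⟨a, haA⟩ := Subtype.ext (mul_inv_eq_iff_eq_mul.2
    (commute_of_inf_eq_bot h.normal (inf_eq_bot_of_odd h.sq hRodd) haA a.2 hrR).symm)
  have ha1 : (⟨a, haA⟩ : A) ≠ 1 := fun e => by
    have : (a : Y) = 1 := congrArg Subtype.val e
    rw [this, orderOf_one] at haY
    omega
  obtain ⟨b, hb, hba⟩ := exists_third (V := A) hc.ge (⟨a, haA⟩ : A)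
  have ho : Odd (orderOf (φ r)) := Odd.of_dvd_nat hRodd
    ((orderOf_map_dvd φ r).trans (Subgroup.orderOf_dvd_natCard _ hrR))
  -- the only other elements are `b` and `a b`
  have hb2 : (φ r * φ r) b = b := by
    have hcase : ∀ v : A, v ≠ 1 → v ≠ ⟨a, haA⟩ → v = b ∨ v = ⟨a, haA⟩ * b := by
      intro v hv1 hva
      by_contra hv
      push Not at hv
      have e1 : (⟨a, haA⟩ : A) * b ≠ 1 := fun e => hba ((mul_eq_one_iff_of_sq hs.sq).1 e)
      have e2 : (⟨a, haA⟩ : A) * b ≠ ⟨a, haA⟩ := fun e => hb (mul_left_cancel (e.trans (mul_one _).symm))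
      have e3 : (⟨a, haA⟩ : A) * b ≠ b := fun e => ha1 (mul_right_cancel (e.trans (one_mul _).symm))
      have h5 : ({1, ⟨a, haA⟩, b, ⟨a, haA⟩ * b, v} : Finset A).card = 5 := by
        simp [ha1.symm, hb.symm, hba.symm, e1.symm, e2.symm, e3.symm, Ne.symm hv1, Ne.symm hva,
          Ne.symm hv.1, Ne.symm hv.2]
      have := Finset.card_le_univ ({1, ⟨a, haA⟩, b, ⟨a, haA⟩ * b, v} : Finset A)
      rw [h5, ← Nat.card_eq_fintype_card, hc] at this
      omega
    rw [MulAut.mul_apply]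
    rcases hcase (φ r b) (fun e => hb ((φ r).map_eq_one_iff.1 e))
      (fun e => hba ((φ r).injective (e.trans hra.symm))) with e | e
    · rw [e, e]
    · rw [e, map_mul, hra, e, ← mul_assoc, hs.sq, one_mul]
  exact hr (hs.odd_fix _ ⟨r, rfl⟩ ho _ _ ha1 hb hba.symm hra (fix_of_sq_fix ho hb2))

theorem no_twoCfg (h3 : NoThree.{u}) : ∀ n : ℕ, ∀ (Y : Type u) [Group Y] [Finite Y] (A : Subgroup Y),
    TwoCfg Y A → Nat.card A ≤ n → False := by
  intro n
  induction n with
  | zero => intro Y _ _ A h hn; have := h.card; omega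
  | succ n ih =>
    intro Y _ _ A h hn
    haveI := h.normal
    have hb : ∀ x y g : Y, x ∈ A → y ∈ A → x ≠ 1 → y ≠ 1 → x ≠ y → g * x = x * g → g * y = y * g →
        Odd (orderOf g) → ∀ a ∈ A, g * a = a * g := by
      intro x y g hx hy hx1 hy1 hxy hgx hgy ho a ha
      by_contra hga
      obtain ⟨N, B, hB, hlt⟩ := descend h hx hy hx1 hy1 hxy hgx hgy ho ha hga
      exact ih N B hB (by omega)
    have hs := small_range h hb
    haveI := Fact.mk Nat.prime_two
    have hp : IsPGroup 2 A := fun w => ⟨1, Subtype.ext (by rw [pow_one, sq]; exact h.sq _ w.2)⟩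
    obtain ⟨j, hj⟩ := IsPGroup.iff_card.1 hp
    have h8 := card_le hs h.card
    have h4 := h.card
    rw [hj] at h8 h4
    rcases j with _ | _ | _ | _ | j
    · omega
    · omega
    · exact not_four h hs (by rw [hj]; norm_num)
    · exact h3 Y A h (by rw [hj]; norm_num)
        (MonoidHom.range_eq_top.1 (eq_top hs (by rw [hj]; norm_num)))
    · rw [pow_succ, pow_succ, pow_succ, pow_succ] at h8
      have := Nat.one_le_two_pow (n := j)
      omega

end Cfsg.Lib.Pyramidal
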