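import Mathlib
import Cfsg.Agent.GenDihedral.Red.Tools
import Cfsg.Agent.OddChar.PF.OddOrder

/-!
An involution in a perfect group acting on a group of odd order: the number of its conjugates there is a
square, and the exponent of three in it is not two.
-/

set_option autoImplicit false
set_option linter.style.haveILetI false
set_option linter.unusedSectionVars false

namespace Cfsg.Lib.Pyramidal

open Subgroup Module
open scoped commutatorElement

universe u v

/-- Even exponents, the exponent of three not being two. -/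
def Good (n : ℕ) : Prop := n ≠ 0 ∧ (∀ r : ℕ, Even (n.factorization r)) ∧ n.factorization 3 ≠ 2

theorem good_one : Good 1 := ⟨one_ne_zero, fun r => by simp, by simp⟩

theorem Good.mul {a b : ℕ} (ha : Good a) (hb : Good b) : Good (a * b) := by
  have e : ∀ r, (a * b).factorization r = a.factorization r + b.factorization r := fun r => by
    rw [Nat.factorization_mul ha.1 hb.1, Finsupp.add_apply]
  refine ⟨mul_ne_zero ha.1 hb.1, fun r => e r ▸ (ha.2.1 r).add (hb.2.1 r), ?_⟩
  obtain ⟨c, hc⟩ := ha.2.1 3
  obtain ⟨d, hd⟩ := hb.2.1 3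
  have := ha.2.2
  have := hb.2.2
  rw [e]
  omega

theorem relIndex_mul_card_inf {G : Type u} [Group G] (H K : Subgroup G) :
    H.relIndex K * Nat.card ↥(H ⊓ K) = Nat.card K := by
  rw [← inf_relIndex_right, Subgroup.relIndex,
    ← Nat.card_congr (subgroupOfEquivOfLe (inf_le_right : H ⊓ K ≤ K)).toEquiv, index_mul_card]

theorem card_eq_map_mul {G : Type u} [Group G] {G' : Type v} [Group G'] (f : G →* G') (H : Subgroup G) :
    Nat.card H = Nat.card (H.map f) * Nat.card ↥(H ⊓ f.ker) := by
  set g := f.comp H.subtype with hg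
  have h1 := Subgroup.card_eq_card_quotient_mul_card_subgroup g.ker
  rw [Nat.card_congr (QuotientGroup.quotientKerEquivRange g).toEquiv] at h1
  have h2 : g.range = H.map f := by rw [hg, MonoidHom.range_comp, range_subtype]
  have h3 : g.ker.map H.subtype = H ⊓ f.ker := by
    rw [hg, ← MonoidHom.comap_ker, map_comap_eq, range_subtype]
  rwa [h2, ← card_map_of_injective (K := g.ker) H.subtype_injective, h3] at h1

theorem hom_perfect_comm {D : Type u} [Group D] (hD : commutator D = ⊤) {A : Type v} [Group A] (f : D →* A)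
    (hc : ∀ a b : D, f a * f b = f b * f a) (g : D) : f g = 1 := by
  have h : commutator D ≤ f.ker := by
    rw [_root_.commutator_def, Subgroup.commutator_le]
    intro a _ b _
    rw [MonoidHom.mem_ker, map_commutatorElement, commutatorElement_eq_one_iff_commute]
    exact hc a b
  exact h (hD ▸ mem_top g)

theorem hom_perfect_solvable {D : Type u} [Group D] (hD : commutator D = ⊤) {A : Type v} [Group A]
    (f : D →* A) [Group.IsSolvable f.range] (g : D) : f g = 1 := by
  by_contra hne
  haveI : Nontrivial f.range := ⟨⟨⟨f g, g, rfl⟩, 1, fun e => hne (congrArg Subtype.val e)⟩⟩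
  refine (Group.IsSolvable.commutator_lt_top_of_nontrivial f.range).ne ?_
  rw [_root_.commutator_def, ← map_top_of_surjective _ f.rangeRestrict_surjective, ← map_commutator,
    ← _root_.commutator_def, hD]

theorem good_elem_mod {D : Type u} [Group D] [Finite D] (hD : commutator D = ⊤) {q : ℕ} (hq : q.Prime)
    (hq2 : q ≠ 2) {A : Type v} [AddCommGroup A] [Finite A] [Module (ZMod q) A] (f : D → A →+ A)
    (hone : ∀ x, f 1 x = x) (hmul : ∀ a b x, f (a * b) x = f a (f b x)) (t : D)
    (ht : ∀ x, f t x = -x) : Good (Nat.card A) := by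
  classical
  haveI := Fact.mk hq
  haveI : Fact (2 < q) := ⟨lt_of_le_of_ne hq.two_le (Ne.symm hq2)⟩
  haveI : Module.Finite (ZMod q) A := Module.Finite.of_finite
  haveI : Module.Free (ZMod q) A := Module.Free.of_divisionRing _ _
  let ψ : D →* Module.End (ZMod q) A :=
    { toFun := fun d => (f d).toZModLinearMap q
      map_one' := LinearMap.ext hone
      map_mul' := fun a b => LinearMap.ext (hmul a b) }
  have hψt : ψ t = (-1 : ZMod q) • (1 : Module.End (ZMod q) A) := LinearMap.ext fun x => by
    rw [LinearMap.smul_apply, Module.End.one_apply, neg_one_smul]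
    exact ht x
  have hcard : Nat.card A = q ^ finrank (ZMod q) (A) := by
    have := Module.natCard_eq_pow_finrank (K := ZMod q) (V := A)
    rw [Nat.card_zmod] at this
    exact this
  set d := finrank (ZMod q) (A) with hd
  have hdet : LinearMap.det (ψ t) = 1 := by
    have := hom_perfect_comm hD ((LinearMap.det.comp ψ).toHomUnits) (fun a b => mul_comm _ _) t
    exact congrArg Units.val this
  have heven : Even d := by
    rw [hψt, LinearMap.det_smul, map_one, mul_one, ← hd] at hdet
    rcases Nat.even_or_odd d with h | h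
    · exact h
    · rw [h.neg_one_pow] at hdet
      exact absurd hdet (ZMod.neg_one_ne_one)
  refine ⟨Nat.card_pos.ne', fun r => ?_, ?_⟩
  · rw [hcard, Nat.Prime.factorization_pow hq, Finsupp.single_apply]
    split_ifs
    exacts [heven, ⟨0, rfl⟩]
  · rw [hcard, Nat.Prime.factorization_pow hq, Finsupp.single_apply]
    split_ifs with h3
    swap
    · norm_num
    intro hd2
    subst h3
    let b : Basis (Fin 2) (ZMod 3) (A) := Module.finBasisOfFinrankEq _ _ hd2
    let Φ : D →* GL (Fin 2) (ZMod 3) :=
      ((LinearMap.toMatrixAlgEquiv b).toMonoidHom.comp ψ).toHomUnits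
    have hsmall : Nat.card Φ.range < 60 := by
      have hle := Subgroup.card_le_card_group Φ.range
      have h48 : Nat.card (GL (Fin 2) (ZMod 3)) = 48 := by
        rw [Matrix.card_GL_field]
        simp [Fin.prod_univ_two, ZMod.card]
      omega
    haveI := GenDihedral.solvable_small hsmall
    have h1 := congrArg Units.val (hom_perfect_solvable hD Φ t)
    have h2 : LinearMap.toMatrixAlgEquiv b (ψ t) = LinearMap.toMatrixAlgEquiv b 1 := by
      rw [map_one]; exact h1
    have h3' := (LinearMap.toMatrixAlgEquiv b).injective h2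
    rw [hψt] at h3'
    have h4 := LinearMap.congr_fun h3' (b 0)
    rw [LinearMap.smul_apply, Module.End.one_apply] at h4
    have h5 := congrArg (fun x => b.repr x 0) h4
    simp at h5
    exact ZMod.neg_one_ne_one h5

theorem good_elem_add {D : Type u} [Group D] [Finite D] (hD : commutator D = ⊤) {q : ℕ} (hq : q.Prime)
    (hq2 : q ≠ 2) {A : Type v} [AddCommGroup A] [Finite A] (hA : ∀ x : A, q • x = 0) (f : D → A →+ A)
    (hone : ∀ x, f 1 x = x) (hmul : ∀ a b x, f (a * b) x = f a (f b x)) (t : D)
    (ht : ∀ x, f t x = -x) : Good (Nat.card A) :=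
  @good_elem_mod D _ _ hD q hq hq2 A _ _ (AddCommGroup.zmodModule hA) f hone hmul t ht

theorem good_elem {D : Type u} [Group D] [Finite D] (hD : commutator D = ⊤) {q : ℕ} (hq : q.Prime)
    (hq2 : q ≠ 2) {V : Type v} [CommGroup V] [Finite V] (hV : ∀ v : V, v ^ q = 1) (φ : D →* MulAut V) (t : D)
    (ht : ∀ v, φ t v = v⁻¹) : Good (Nat.card V) :=
  good_elem_add (A := Additive V) hD hq hq2 (fun x => hV x.toMul) (fun d => MonoidHom.toAdditive (φ d).toMonoidHom)
    (fun x => by show Additive.ofMul (φ 1 x.toMul) = x; rw [map_one]; rfl)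
    (fun a b x => by
      show Additive.ofMul (φ (a * b) x.toMul) = Additive.ofMul (φ a (φ b x.toMul))
      rw [map_mul]; rfl)
    t fun x => congrArg Additive.ofMul (ht x.toMul)

/-- The action on an invariant subgroup. -/
def restrictAut {D : Type u} [Group D] {V : Type v} [Group V] (φ : D →* MulAut V) (W : Subgroup V)
    (hW : ∀ (d : D), ∀ w ∈ W, φ d w ∈ W) : D →* MulAut W where
  toFun d :=
    { toFun := fun w => ⟨φ d w, hW d w w.2⟩
      invFun := fun w => ⟨φ d⁻¹ w, hW d⁻¹ w w.2⟩
      left_inv := fun w => Subtype.ext (by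
        show φ d⁻¹ (φ d w) = (w : V)
        rw [map_inv]; exact (φ d).symm_apply_apply _)
      right_inv := fun w => Subtype.ext (by
        show φ d (φ d⁻¹ w) = (w : V)
        rw [map_inv]; exact (φ d).apply_symm_apply _)
      map_mul' := fun a b => Subtype.ext (map_mul (φ d) _ _) }
  map_one' := MulEquiv.ext fun w => Subtype.ext (by show φ 1 w = w; rw [map_one]; rfl)
  map_mul' a b := MulEquiv.ext fun w => Subtype.ext (by
    show φ (a * b) w = φ a (φ b w)
    rw [map_mul]; rfl)

@[simp] theorem restrictAut_apply {D : Type u} [Group D] {V : Type v} [Group V] (φ : D →* MulAut V)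
    (W : Subgroup V) (hW : ∀ (d : D), ∀ w ∈ W, φ d w ∈ W) (d : D) (w : W) :
    ((restrictAut φ W hW d w : W) : V) = φ d w := rfl

theorem good_inverted {D : Type u} [Group D] [Finite D] (hD : commutator D = ⊤) (t : D) :
    ∀ (n : ℕ) (V : Type v) [CommGroup V] [Finite V], Nat.card V ≤ n → Odd (Nat.card V) →
      ∀ φ : D →* MulAut V, (∀ v, φ t v = v⁻¹) → Good (Nat.card V) := by
  intro n
  induction n with
  | zero => intro V _ _ hle; have := Nat.card_pos (α := V); omega
  | succ n ih =>
    intro V _ _ hle hodd φ ht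
    rcases eq_or_ne (Nat.card V) 1 with h1 | h1
    · rw [h1]; exact good_one
    obtain ⟨q, hq, hqd⟩ := Nat.exists_prime_and_dvd h1
    haveI := Fact.mk hq
    have hq2 : q ≠ 2 := fun e => Nat.not_even_iff_odd.2 hodd (even_iff_two_dvd.2 (e ▸ hqd))
    set f : V →* V := powMonoidHom q with hf
    have hker : ∀ (d : D), ∀ w ∈ f.ker, φ d w ∈ f.ker := fun d w hw => by
      rw [MonoidHom.mem_ker, hf, powMonoidHom_apply] at hw ⊢
      rw [← map_pow, hw, map_one]
    have hran : ∀ (d : D), ∀ w ∈ f.range, φ d w ∈ f.range := by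
      rintro d _ ⟨v, rfl⟩
      exact ⟨φ d v, (map_pow (φ d) v q).symm⟩
    have hk1 : f.ker ≠ ⊥ := by
      obtain ⟨v, hv⟩ := exists_prime_orderOf_dvd_card' (G := V) q hqd
      intro e
      have : v ∈ f.ker := by
        rw [MonoidHom.mem_ker, hf, powMonoidHom_apply, ← hv]; exact pow_orderOf_eq_one v
      rw [e, mem_bot] at this
      rw [this, orderOf_one] at hv
      exact hq.one_lt.ne hv
    have hmul : Nat.card V = Nat.card f.range * Nat.card f.ker := by
      rw [Subgroup.card_eq_card_quotient_mul_card_subgroup f.ker,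
        Nat.card_congr (QuotientGroup.quotientKerEquivRange f).toEquiv]
    have hgk : Good (Nat.card f.ker) := good_elem hD hq hq2
      (fun v => Subtype.ext v.2) (restrictAut φ f.ker hker) t fun v => Subtype.ext (ht v)
    have hgr : Good (Nat.card f.range) := by
      refine ih f.range ?_ (Odd.of_dvd_nat hodd (card_subgroup_dvd_card _)) (restrictAut φ f.range hran)
        fun v => Subtype.ext (ht v)
      have h2 : 2 ≤ Nat.card f.ker := (one_lt_card_iff_ne_bot _).2 hk1
      have hp := Nat.card_pos (α := f.range)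
      nlinarith
    rw [hmul]
    exact hgr.mul hgk

/-- Two involutions whose product has odd order and lies in `M` are conjugate in `M`. -/
theorem exists_conj_mem {G : Type u} [Group G] {t s : G} (ht : t * t = 1) (hs : s * s = 1) {M : Subgroup G}
    (hw : t * s ∈ M) (hodd : Odd (orderOf (t * s))) : ∃ h ∈ M, h * t * h⁻¹ = s := by
  obtain ⟨i, hi⟩ := hodd
  have ti : t⁻¹ = t := inv_eq_of_mul_eq_one_left ht
  have si : s⁻¹ = s := inv_eq_of_mul_eq_one_left hs
  refine ⟨(t * s) ^ i, pow_mem hw i, ?_⟩
  have hinv : t * ((t * s) ^ i)⁻¹ = (t * s) ^ i * t := by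
    have : t * ((t * s) ^ i)⁻¹ * t⁻¹ = (t * s) ^ i := by
      rw [← inv_pow, ← conj_pow, mul_inv_rev, ti, si,
        show t * (s * t) * t = t * s * (t * t) by group, ht, mul_one]
    calc t * ((t * s) ^ i)⁻¹ = t * ((t * s) ^ i)⁻¹ * t⁻¹ * t := by group
      _ = _ := by rw [this]
  rw [mul_assoc, hinv, ← mul_assoc, ← pow_add, ← two_mul]
  have h1 : (t * s) ^ (2 * i) = (t * s)⁻¹ := eq_inv_of_mul_eq_one_left (by
    rw [← pow_succ, ← hi]; exact pow_orderOf_eq_one _)
  rw [h1, mul_inv_rev, ti, si, mul_assoc, ht, mul_one]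

theorem good_abelian {G : Type u} [Group G] [Finite G] (O : Subgroup G) [O.Normal] (hodd : Odd (Nat.card O))
    (hc : ∀ a ∈ O, ∀ b ∈ O, a * b = b * a) (D : Subgroup G) (hD : commutator D = ⊤) {t : G} (htD : t ∈ D)
    (htc : ∀ d ∈ D, d * t = t * d) (ht : t * t = 1) :
    Good ((centralizer ({t} : Set G)).relIndex O) := by
  letI : CommGroup O := { (inferInstance : Group O) with mul_comm := fun a b => Subtype.ext (hc a a.2 b b.2) }
  set φ : D →* MulAut O := MulAut.conjNormal.comp D.subtype with hφ
  set T : D := ⟨t, htD⟩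
  let g : O →* O := MonoidHom.mk' (fun v => v * (φ T v)⁻¹) fun a b => by
    simp only [map_mul, mul_inv_rev]
    rw [mul_comm (φ T b)⁻¹, mul_mul_mul_comm]
  have hgval : ∀ v, g v = v * (φ T v)⁻¹ := fun v => rfl
  have hval : ∀ (d : D) (v : O), ((φ d v : O) : G) = (d : G) * v * (d : G)⁻¹ := fun d v => rfl
  have hinv : ∀ (d : D), ∀ w ∈ g.range, φ d w ∈ g.range := by
    rintro d _ ⟨v, rfl⟩
    refine ⟨φ d v, ?_⟩
    rw [hgval, hgval, map_mul, map_inv]
    congr 2
    show φ T (φ d v) = φ d (φ T v)
    rw [← MulAut.mul_apply, ← MulAut.mul_apply, ← map_mul, ← map_mul]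
    congr 2
    exact Subtype.ext (htc d d.2).symm
  have hker : g.ker = (centralizer ({t} : Set G)).subgroupOf O := by
    ext v
    rw [MonoidHom.mem_ker, hgval, mul_inv_eq_one, mem_subgroupOf, mem_centralizer_singleton_iff, eq_comm,
      Subtype.ext_iff, hval]
    show t * (v : G) * t⁻¹ = v ↔ _
    rw [mul_inv_eq_iff_eq_mul, eq_comm]
  have hgood := good_inverted hD T (Nat.card g.range) g.range le_rfl
    (Odd.of_dvd_nat hodd (card_subgroup_dvd_card _)) (restrictAut φ g.range hinv) (by
      rintro ⟨_, v, rfl⟩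
      refine Subtype.ext ?_
      show φ T (g v) = (g v)⁻¹
      have h2 : φ T (φ T v) = v := by
        rw [← MulAut.mul_apply, ← map_mul, show T * T = 1 from Subtype.ext ht, map_one]; rfl
      rw [hgval, map_mul, map_inv, h2, mul_inv_rev, inv_inv])
  rwa [Subgroup.relIndex, ← hker, index_ker]

theorem good_index : ∀ (n : ℕ) (G : Type u) [Group G] [Finite G] (O : Subgroup G) [O.Normal],
    Nat.card O ≤ n → Odd (Nat.card O) → ∀ D : Subgroup G, commutator D = ⊤ → ∀ t ∈ D,
      (∀ d ∈ D, d * t = t * d) → t * t = 1 → Good ((centralizer ({t} : Set G)).relIndex O) := by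
  intro n
  induction n with
  | zero => intro G _ _ O _ hle; have := Nat.card_pos (α := O); omega
  | succ n ih =>
    intro G _ _ O hOn hle hodd D hD t htD htc ht
    by_cases hc : ∀ a ∈ O, ∀ b ∈ O, a * b = b * a
    · exact good_abelian O hodd hc D hD htD htc ht
    set M := ⁅O, O⁆ with hM
    haveI : M.Normal := inferInstance
    have hMO : M ≤ O := commutator_le_left O O
    have hMne : M ≠ O := by
      intro e
      haveI : Group.IsSolvable O := Cfsg.Agent.PF.isSolvable_of_odd _ hodd
      haveI : Nontrivial O := (nontrivial_iff_ne_bot O).2 fun e' => hc fun a ha b hb => by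
        rw [e', mem_bot] at ha; rw [ha, one_mul, mul_one]
      refine (Group.IsSolvable.commutator_lt_top_of_nontrivial O).ne ?_
      refine Subgroup.map_injective O.subtype_injective ?_
      rw [map_subtype_commutator, ← MonoidHom.range_eq_map, range_subtype]
      exact e
    have hMlt : Nat.card M < Nat.card O := by
      rcases (card_le_of_le hMO).lt_or_eq with h | h
      · exact h
      · exact absurd (eq_of_le_of_card_ge hMO h.ge) hMne
    have hgM := ih G M (by omega) (Odd.of_dvd_nat hodd (card_dvd_of_le hMO)) D hD t htD htc ht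
    set f := QuotientGroup.mk' M
    haveI : (O.map f).Normal := hOn.map f (QuotientGroup.mk'_surjective M)
    have hD' : commutator ↥(D.map f) = ⊤ := by
      rw [_root_.commutator_def, ← map_top_of_surjective _ (f.subgroupMap_surjective D), ← map_commutator,
        ← _root_.commutator_def, hD]
    have hgQ : Good ((centralizer ({f t} : Set (G ⧸ M))).relIndex (O.map f)) := by
      refine good_abelian (O.map f) (Odd.of_dvd_nat hodd (Subgroup.card_map_dvd O f)) ?_ (D.map f) hD'
        ⟨t, htD, rfl⟩ ?_ (by rw [← map_mul, ht, map_one])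
      · rintro _ ⟨a, ha, rfl⟩ _ ⟨b, hb, rfl⟩
        rw [← commutatorElement_eq_one_iff_mul_comm, ← map_commutatorElement]
        exact (QuotientGroup.eq_one_iff _).2 (commutator_mem_commutator ha hb)
      · rintro _ ⟨d, hd, rfl⟩
        rw [← map_mul, ← map_mul, htc d hd]
    set C := centralizer ({t} : Set G) with hC
    set C' := centralizer ({f t} : Set (G ⧸ M)) with hC'
    have hmap : (C ⊓ O).map f = C' ⊓ O.map f := by
      refine le_antisymm ?_ ?_
      · rintro _ ⟨x, ⟨hxC, hxO⟩, rfl⟩
        refine ⟨mem_centralizer_singleton_iff.2 ?_, x, hxO, rfl⟩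
        rw [← map_mul, ← map_mul, mem_centralizer_singleton_iff.1 hxC]
      · rintro _ ⟨hxC, x, hxO, rfl⟩
        have hs : x * t * x⁻¹ * (x * t * x⁻¹) = 1 := by
          rw [show x * t * x⁻¹ * (x * t * x⁻¹) = x * (t * t) * x⁻¹ by group, ht]; group
        have hw : t * (x * t * x⁻¹) ∈ M := (QuotientGroup.eq_one_iff _).1 (by
          show f (t * (x * t * x⁻¹)) = 1
          rw [map_mul, map_mul, map_mul, map_inv, mem_centralizer_singleton_iff.1 hxC, mul_inv_cancel_right,
            ← map_mul, ht, map_one])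
        obtain ⟨h, hh, hht⟩ := exists_conj_mem ht hs hw (Odd.of_dvd_nat hodd
          (Subgroup.orderOf_dvd_natCard _ (hMO hw)))
        refine ⟨h⁻¹ * x, ⟨mem_centralizer_singleton_iff.2 ?_, O.mul_mem (O.inv_mem (hMO hh)) hxO⟩, ?_⟩
        · calc h⁻¹ * x * t = h⁻¹ * (x * t * x⁻¹) * x := by group
            _ = h⁻¹ * (h * t * h⁻¹) * x := by rw [hht]
            _ = t * (h⁻¹ * x) := by group
        · rw [map_mul, map_inv, show f h = 1 from (QuotientGroup.eq_one_iff h).2 hh, inv_one, one_mul]
    have e0 := relIndex_mul_card_inf C O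
    have e1 := relIndex_mul_card_inf C' (O.map f)
    have e2 := relIndex_mul_card_inf C M
    have e3 := card_eq_map_mul f (C ⊓ O)
    have e4 := card_eq_map_mul f O
    rw [QuotientGroup.ker_mk', hmap, inf_assoc, inf_eq_right.2 hMO] at e3
    rw [QuotientGroup.ker_mk', inf_eq_right.2 hMO] at e4
    have key : C.relIndex O = C'.relIndex (O.map f) * C.relIndex M := by
      refine Nat.eq_of_mul_eq_mul_right (Nat.card_pos (α := ↥(C ⊓ O))) ?_
      rw [e0, e4, ← e1, ← e2, e3]
      ring
    rw [key]
    exact hgQ.mul hgM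

end Cfsg.Lib.Pyramidal
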