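import Cfsg.Agent.Pyramidal.Kernel
import Cfsg.Agent.Pyramidal.Parity
import Cfsg.Agent.SolvStruct.PrimePowerIndex
import Cfsg.Agent.Elementary.TransitivePGroups
import Cfsg.Agent.Components.PComponents

/-!
A group with an odd prime power `p ^ k` of involutions forming one class, `k` odd or `p ^ k = 9`, is solvable.
-/

set_option autoImplicit false
set_option linter.style.haveILetI false
set_option linter.unusedSectionVars false

namespace Cfsg.Lib.Pyramidal

open Subgroup
open scoped commutatorElement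

universe u

variable {G : Type u} [Group G] [Finite G]

theorem index_centralizer_eq_count {t : G} (ht : orderOf t = 2)
    (htr : ∀ x y : G, orderOf x = 2 → orderOf y = 2 → ∃ g : G, g * x * g⁻¹ = y) :
    (centralizer ({t} : Set G)).index = Nat.card {x : G // orderOf x = 2} := by
  have hcond : ∀ g : G, orderOf (g * t * g⁻¹) = 2 := fun g => by
    rw [show g * t * g⁻¹ = MulAut.conj g t from rfl, MulEquiv.orderOf_eq, ht]
  have hiff : ∀ g h : G, g⁻¹ * h ∈ centralizer ({t} : Set G) ↔ g * t * g⁻¹ = h * t * h⁻¹ := fun g h => by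
    rw [mem_centralizer_singleton_iff]
    constructor
    · intro e
      calc g * t * g⁻¹ = g * (t * (g⁻¹ * h)) * h⁻¹ := by group
        _ = g * (g⁻¹ * h * t) * h⁻¹ := by rw [e]
        _ = _ := by group
    · intro e
      calc g⁻¹ * h * t = g⁻¹ * (h * t * h⁻¹) * h := by group
        _ = g⁻¹ * (g * t * g⁻¹) * h := by rw [e]
        _ = _ := by group
  refine Nat.card_eq_of_bijective
    (fun v : G ⧸ centralizer ({t} : Set G) => Quotient.liftOn' v
      (fun g => (⟨g * t * g⁻¹, hcond g⟩ : {x : G // orderOf x = 2}))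
      fun g h e => Subtype.ext ((hiff g h).1 (QuotientGroup.leftRel_apply.1 e))) ⟨?_, fun y => ?_⟩
  · intro a b e
    induction a using QuotientGroup.induction_on with | _ a =>
    induction b using QuotientGroup.induction_on with | _ b =>
    exact QuotientGroup.eq.2 ((hiff a b).2 (congrArg Subtype.val e))
  · obtain ⟨g, hg⟩ := htr t y ht y.2
    exact ⟨(g : G ⧸ centralizer ({t} : Set G)), Subtype.ext hg⟩

theorem relIndex_sup_of_normal (C K : Subgroup G) [K.Normal] : C.relIndex (C ⊔ K) = C.relIndex K := by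
  have e1 := relIndex_mul_card_inf K (C ⊔ K)
  rw [relIndex_sup_right, inf_eq_left.2 le_sup_right] at e1
  have e2 := relIndex_mul_card_inf C (C ⊔ K)
  rw [inf_eq_left.2 le_sup_left] at e2
  have e3 := relIndex_mul_card_inf K C
  have e4 := relIndex_mul_card_inf C K
  rw [inf_comm K C] at e3
  refine Nat.eq_of_mul_eq_mul_right (Nat.card_pos (α := C)) ?_
  rw [e2, ← e1, ← e3, ← e4]
  ring

theorem relIndex_dvd_index (C K : Subgroup G) [K.Normal] : C.relIndex K ∣ C.index := by
  rw [← relIndex_sup_of_normal C K]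
  exact relIndex_dvd_index_of_le le_sup_left

theorem sq_of_order {x : G} (hx : orderOf x = 2) : x * x = 1 := by
  have := pow_orderOf_eq_one x
  rwa [hx, _root_.sq] at this

theorem order_two {x : G} (hx : x * x = 1) (h1 : x ≠ 1) : orderOf x = 2 :=
  orderOf_eq_prime (by rw [_root_.sq]; exact hx) h1

theorem involution_lift (O : Subgroup G) [O.Normal] (hO : Odd (Nat.card O)) {y : G ⧸ O} (hy : orderOf y = 2) :
    ∃ x : G, (x : G ⧸ O) = y ∧ orderOf x = 2 := by
  induction y using QuotientGroup.induction_on with | _ x =>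
  have hy1 : (x : G ⧸ O) * x = 1 := sq_of_order hy
  have hxx : x * x ∈ O := (QuotientGroup.eq_one_iff _).1 (by rw [QuotientGroup.mk_mul]; exact hy1)
  have hodd : Odd (orderOf (x * x)) := Odd.of_dvd_nat hO (Subgroup.orderOf_dvd_natCard _ hxx)
  obtain ⟨i, hi⟩ := hodd
  refine ⟨x ^ (2 * i + 1), ?_, ?_⟩
  · rw [QuotientGroup.mk_pow, pow_succ, pow_mul, _root_.sq, hy1, one_pow, one_mul]
  · refine order_two ?_ fun e => ?_
    · rw [← pow_add, ← two_mul, pow_mul, _root_.sq, ← hi, pow_orderOf_eq_one]
    · have e' : ((x ^ (2 * i + 1) : G) : G ⧸ O) = 1 := by rw [e]; rfl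
      rw [QuotientGroup.mk_pow, pow_succ, pow_mul, _root_.sq, hy1, one_pow, one_mul] at e'
      rw [e', orderOf_one] at hy
      omega

/-- The case of a single involution in the quotient by the odd core. -/
theorem false_of_unique {p k : ℕ} (hp : p.Prime) (hcond : Odd k ∨ p ^ k = 9) (O : Subgroup G) [O.Normal]
    (hO : Odd (Nat.card O)) {t : G} (ht : orderOf t = 2)
    (hidx : (centralizer ({t} : Set G)).index = p ^ k)
    (huniq : ∀ y : G ⧸ O, y * y = 1 → y ≠ 1 → y = t) (hns : ¬ Group.IsSolvable (G ⧸ O)) : False := by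
  classical
  set C := centralizer ({t} : Set G) with hC
  have htt := sq_of_order ht
  have hsup : C ⊔ O = ⊤ := by
    refine eq_top_iff.2 fun g _ => ?_
    have hs : g * t * g⁻¹ * (g * t * g⁻¹) = 1 := by
      rw [show g * t * g⁻¹ * (g * t * g⁻¹) = g * (t * t) * g⁻¹ by group, htt]; group
    have hne : ((g * t * g⁻¹ : G) : G ⧸ O) ≠ 1 := fun e => by
      have h1 : g * t * g⁻¹ ∈ O := (QuotientGroup.eq_one_iff _).1 e
      have h2 : orderOf (g * t * g⁻¹) ∣ Nat.card O := Subgroup.orderOf_dvd_natCard _ h1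
      rw [show g * t * g⁻¹ = MulAut.conj g t from rfl, MulEquiv.orderOf_eq, ht] at h2
      exact Nat.not_even_iff_odd.2 hO (even_iff_two_dvd.2 h2)
    have he := huniq _ (by rw [← QuotientGroup.mk_mul, hs]; rfl) hne
    have hw : t * (g * t * g⁻¹) ∈ O := (QuotientGroup.eq_one_iff _).1 (by
      rw [QuotientGroup.mk_mul, he, ← QuotientGroup.mk_mul, htt]; rfl)
    obtain ⟨h, hh, hht⟩ := exists_conj_mem htt hs hw (Odd.of_dvd_nat hO (Subgroup.orderOf_dvd_natCard _ hw))
    have hm : h⁻¹ * g ∈ C := mem_centralizer_singleton_iff.2 (by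
      calc h⁻¹ * g * t = h⁻¹ * (g * t * g⁻¹) * g := by group
        _ = h⁻¹ * (h * t * h⁻¹) * g := by rw [hht]
        _ = t * (h⁻¹ * g) := by group)
    rw [show g = h * (h⁻¹ * g) by group]
    exact mul_mem (mem_sup_right hh) (mem_sup_left hm)
  set f := (QuotientGroup.mk' O).comp C.subtype with hf
  have hfs : Function.Surjective f := by
    rw [← MonoidHom.range_eq_top, hf, MonoidHom.range_comp, range_subtype]
    have := congrArg (Subgroup.map (QuotientGroup.mk' O)) hsup
    rwa [Subgroup.map_sup, QuotientGroup.map_mk'_self, sup_bot_eq,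
      map_top_of_surjective _ (QuotientGroup.mk'_surjective O)] at this
  have hCns : ¬ Group.IsSolvable C := fun h => hns (solvable_of_surjective hfs)
  obtain ⟨D', hD'n, -, hD's, hD'p⟩ := exists_perfect_normal (X := C) ⊤ inferInstance
    (fun h => hCns (solvable_of_surjective (f := (topEquiv (G := C)).toMonoidHom) topEquiv.surjective))
  set D := D'.map C.subtype with hD
  have e : D' ≃* D := D'.equivMapOfInjective C.subtype C.subtype_injective
  have hDp : commutator D = ⊤ := by
    rw [_root_.commutator_def, ← map_top_of_surjective e.toMonoidHom e.surjective, ← map_commutator,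
      ← _root_.commutator_def, hD'p]
  have hDns : ¬ Group.IsSolvable D := fun h =>
    hD's (solvable_of_solvable_injective (f := e.toMonoidHom) e.injective)
  have hDC : D ≤ C := map_subtype_le _
  have htc : ∀ d ∈ D, d * t = t * d := fun d hd => mem_centralizer_singleton_iff.1 (hDC hd)
  have heven : 2 ∣ Nat.card D := by
    by_contra h2
    exact hDns (Cfsg.Agent.PF.isSolvable_of_odd _ (Nat.not_even_iff_odd.1 fun he => h2 he.two_dvd))
  haveI : Fact (Nat.Prime 2) := ⟨Nat.prime_two⟩
  obtain ⟨⟨d, hdD⟩, hd⟩ := exists_prime_orderOf_dvd_card' (G := D) 2 heven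
  rw [Subgroup.orderOf_mk] at hd
  have hdd := sq_of_order hd
  have htD : t ∈ D := by
    have hne : (d : G ⧸ O) ≠ 1 := fun e' => by
      have h2 : orderOf d ∣ Nat.card O := Subgroup.orderOf_dvd_natCard _ ((QuotientGroup.eq_one_iff d).1 e')
      rw [hd] at h2
      exact Nat.not_even_iff_odd.2 hO (even_iff_two_dvd.2 h2)
    have he := huniq _ (by rw [← QuotientGroup.mk_mul, hdd]; rfl) hne
    have hmem : d * t ∈ O := (QuotientGroup.eq_one_iff _).1 (by
      rw [QuotientGroup.mk_mul, he, ← QuotientGroup.mk_mul, htt]; rfl)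
    have h2 : (d * t) * (d * t) = 1 := by
      calc d * t * (d * t) = d * (t * d) * t := by group
        _ = d * d * (t * t) := by rw [← htc d hdD]; group
        _ = 1 := by rw [hdd, htt, mul_one]
    have h3 : d * t = 1 := by
      by_contra h1
      have h4 : orderOf (d * t) ∣ Nat.card O := Subgroup.orderOf_dvd_natCard _ hmem
      rw [order_two h2 h1] at h4
      exact Nat.not_even_iff_odd.2 hO (even_iff_two_dvd.2 h4)
    rw [← inv_eq_of_mul_eq_one_right h3]
    exact inv_mem hdD
  have hgood := good_index (Nat.card O) G O le_rfl hO D hDp t htD htc htt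
  rw [← relIndex_sup_of_normal, hsup, relIndex_top_right, hidx] at hgood
  obtain ⟨-, heven', h3⟩ := hgood
  have hk : (p ^ k).factorization p = k := by
    rw [Nat.Prime.factorization_pow hp, Finsupp.single_eq_same]
  rcases hcond with h | h
  · exact Nat.not_even_iff_odd.2 h (hk ▸ heven' p)
  · rw [h] at h3
    exact h3 (by
      rw [show (9 : ℕ) = 3 ^ 2 by norm_num, Nat.Prime.factorization_pow Nat.prime_three, Finsupp.single_eq_same])

theorem solvable_of_pyramidal {p k : ℕ} (hp : p.Prime) (hk : 1 ≤ k) (hcond : Odd k ∨ p ^ k = 9)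
    (hn : Nat.card {x : G // orderOf x = 2} = p ^ k)
    (htr : ∀ x y : G, orderOf x = 2 → orderOf y = 2 → ∃ g : G, g * x * g⁻¹ = y) : Group.IsSolvable G := by
  classical
  haveI : Fact (Nat.Prime 2) := ⟨Nat.prime_two⟩
  set O := Cfsg.pPrimeCore 2 G with hOdef
  haveI : O.Normal := Cfsg.Lib.Components.normal_of_mem_sSup_normal fun _ h => h.1
  have hO : Odd (Nat.card O) := Nat.coprime_two_right.1 (Cfsg.Lib.Components.coprime_card_pPrimeCore 2)
  have hOs : Group.IsSolvable O := Cfsg.Agent.PF.isSolvable_of_odd _ hO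
  by_contra hns
  have hXs : ¬ Group.IsSolvable (G ⧸ O) := fun h => hns (GenDihedral.solvable_ext O hOs h)
  obtain ⟨⟨t, ht⟩⟩ : Nonempty {x : G // orderOf x = 2} :=
    (Nat.card_pos_iff.1 (by rw [hn]; exact pow_pos hp.pos k)).1
  have hidx := index_centralizer_eq_count ht htr
  rw [hn] at hidx
  have hXO : Cfsg.pPrimeCore 2 (G ⧸ O) = ⊥ := Cfsg.Lib.Components.pPrimeCore_quotient_eq_bot
  have hXtr : ∀ x y : G ⧸ O, orderOf x = 2 → orderOf y = 2 → ∃ g : G ⧸ O, g * x * g⁻¹ = y := by
    intro x y hx hy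
    obtain ⟨a, rfl, ha⟩ := involution_lift O hO hx
    obtain ⟨b, rfl, hb⟩ := involution_lift O hO hy
    obtain ⟨g, rfl⟩ := htr a b ha hb
    exact ⟨(g : G ⧸ O), by rw [← QuotientGroup.mk_inv, ← QuotientGroup.mk_mul, ← QuotientGroup.mk_mul]⟩
  have htO : orderOf (t : G ⧸ O) = 2 := by
    refine order_two (by rw [← QuotientGroup.mk_mul, sq_of_order ht]; rfl) fun e => ?_
    have h2 : orderOf t ∣ Nat.card O := Subgroup.orderOf_dvd_natCard _ ((QuotientGroup.eq_one_iff t).1 e)
    rw [ht] at h2
    exact Nat.not_even_iff_odd.2 hO (even_iff_two_dvd.2 h2)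
  -- class sizes divide `p ^ k`
  have hclass : ∀ y : G ⧸ O, orderOf y = 2 → (centralizer ({y} : Set (G ⧸ O))).index ∣ p ^ k := by
    intro y hy
    obtain ⟨a, rfl, ha⟩ := involution_lift O hO hy
    have hle : (centralizer ({a} : Set G)).map (QuotientGroup.mk' O) ≤ centralizer ({(a : G ⧸ O)} : Set (G ⧸ O)) := by
      rintro _ ⟨c, hc, rfl⟩
      refine mem_centralizer_singleton_iff.2 ?_
      show ((c : G) : G ⧸ O) * a = a * c
      rw [← QuotientGroup.mk_mul, ← QuotientGroup.mk_mul, mem_centralizer_singleton_iff.1 hc]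
    refine (index_dvd_of_le hle).trans ((index_map_dvd _ (QuotientGroup.mk'_surjective O)).trans ?_)
    rw [index_centralizer_eq_count ha htr, hn]
  set X := G ⧸ O
  have hnX : Nat.card {x : X // orderOf x = 2} ∣ p ^ k :=
    index_centralizer_eq_count htO hXtr ▸ hclass _ htO
  obtain ⟨j, -, hj⟩ := (Nat.dvd_prime_pow hp).1 hnX
  by_cases hT : GenDihedral.NoTwo X
  · -- no normal two-subgroups: a simple subgroup with a class of prime power size
    haveI : Nontrivial X := ⟨⟨(t : G ⧸ O), 1, fun e => by rw [e, orderOf_one] at htO; omega⟩⟩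
    obtain ⟨N, -, hN, hNb, hmin⟩ :=
      Cfsg.Lib.Coprime.exists_minimal_normal (K := (⊤ : Subgroup X)) inferInstance top_ne_bot
    have hNna : ¬ IsMulCommutative N := fun hc => hNb (GenDihedral.rad_bot (noOdd_of_core hXO) hT hN
      (Group.isSolvable_of_comm fun a b => hc.is_comm.comm a b))
    obtain ⟨S, hSN, hSs, hSna, hnorm, -⟩ := PrimTypes.exists_simple_factor hN hNb hmin hNna
    haveI := hSs
    haveI := hN
    haveI : (S.subgroupOf N).Normal := (normal_subgroupOf_iff_le_normalizer hSN).2 hnorm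
    have hSns : ¬ Group.IsSolvable S := fun hs =>
      hSna ⟨⟨IsSimpleGroup.comm_iff_isSolvable.2 hs⟩⟩
    have heven : 2 ∣ Nat.card S := by
      by_contra h2
      exact hSns (Cfsg.Agent.PF.isSolvable_of_odd _ (Nat.not_even_iff_odd.1 fun he => h2 he.two_dvd))
    obtain ⟨⟨y, hyS⟩, hy⟩ := exists_prime_orderOf_dvd_card' (G := S) 2 heven
    rw [Subgroup.orderOf_mk] at hy
    set C := centralizer ({y} : Set X) with hC
    have hd : C.relIndex S ∣ p ^ k := by
      refine dvd_trans ?_ ((relIndex_dvd_index C N).trans (hclass y hy))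
      have h1 := relIndex_dvd_index (C.subgroupOf N) (S.subgroupOf N)
      rwa [relIndex_subgroupOf hSN] at h1
    refine hSns (Cfsg.Lib.SolvStruct.isSolvable_of_class_prime_pow hp (z := (⟨y, hyS⟩ : S))
      (H := C.subgroupOf S) (fun e => ?_) (fun c hc => ?_) hd)
    · have : y = 1 := congrArg Subtype.val e
      rw [this, orderOf_one] at hy
      omega
    · exact mem_centralizer_singleton_iff.2 (Subtype.ext (mem_centralizer_singleton_iff.1 hc))
  -- the elementary normal subgroup
  unfold GenDihedral.NoTwo at hT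
  push Not at hT
  obtain ⟨A, hA, hAsq, hAne⟩ := hT
  haveI := hA
  obtain ⟨a, haA, ha1⟩ : ∃ a ∈ A, a ≠ 1 := by
    by_contra hno
    push Not at hno
    exact hAne (eq_bot_iff.2 fun a ha => mem_bot.2 (hno a ha))
  have ha2 : orderOf a = 2 := order_two (hAsq a haA) ha1
  have hinv : ∀ x : X, x * x = 1 → x ∈ A := fun x hx => by
    by_cases hx1 : x = 1
    · exact hx1 ▸ one_mem A
    obtain ⟨g, rfl⟩ := hXtr a x ha2 (order_two hx hx1)
    exact hA.conj_mem a haA g
  have hA2 : IsPGroup 2 A := fun v => ⟨1, Subtype.ext (by rw [pow_one, _root_.sq]; exact hAsq v v.2)⟩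
  obtain ⟨e, he⟩ := IsPGroup.iff_card.1 hA2
  have hcard : Nat.card {x : X // orderOf x = 2} + 1 = 2 ^ e := by
    haveI := Fintype.ofFinite A
    have h1 : Nat.card {x : X // orderOf x = 2} = Nat.card {v : A // v ≠ 1} := by
      refine Nat.card_eq_of_bijective (fun x => (⟨⟨x.1, hinv _ (sq_of_order x.2)⟩, fun e1 => by
        have : x.1 = 1 := congrArg Subtype.val e1
        have h2 := x.2
        rw [this, orderOf_one] at h2
        omega⟩ : {v : A // v ≠ 1})) ⟨fun x y e1 => Subtype.ext (congrArg (fun v : {v : A // v ≠ 1} => (v.1 : X)) e1),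
          fun v => ⟨⟨v.1, order_two (hAsq _ v.1.2) fun e1 => v.2 (Subtype.ext e1)⟩, rfl⟩⟩
    have h2 : Nat.card {v : A // v ≠ 1} = Nat.card A - 1 := by
      rw [Nat.card_eq_fintype_card, Nat.card_eq_fintype_card, Fintype.card_subtype_compl,
        Fintype.card_subtype_eq]
    have := Nat.one_le_two_pow (n := e)
    omega
  rw [hj] at hcard
  rcases Nat.lt_or_ge e 2 with he2 | he2
  · -- a single involution
    have h1 : p ^ j = 1 := by
      have : 1 ≤ p ^ j := Nat.one_le_pow _ _ hp.pos
      interval_cases e <;> omega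
    rw [h1] at hj
    obtain ⟨hsub, -⟩ := Nat.card_eq_one_iff_unique.1 hj
    exact false_of_unique hp hcond O hO ht hidx
      (fun y hy hy1 => congrArg Subtype.val
        (hsub.elim (⟨y, order_two hy hy1⟩ : {x : X // orderOf x = 2}) ⟨(t : G ⧸ O), htO⟩)) hXs
  · have hj1 : j = 1 := Cfsg.Lib.TransPGroup.mersenne_cases hp (by omega) he2
    rw [hj1, pow_one] at hcard
    exact hXs (kernel_solvable A hXO hAsq hinv he2 he hp hcard fun x y hx hy hx1 hy1 =>
      hXtr x y (order_two (hAsq x hx) hx1) (order_two (hAsq y hy) hy1))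

end Cfsg.Lib.Pyramidal
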